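import Cfsg.Agent.Lib.CosetEnum.He.A0
import Cfsg.Agent.Lib.CosetEnum.He.A1
import Cfsg.Agent.Lib.CosetEnum.He.A2
import Cfsg.Agent.Lib.CosetEnum.He.A3
import Cfsg.Agent.Lib.CosetEnum.He.A4

set_option autoImplicit false
set_option linter.all false

namespace CfsgLib.CosetEnum.He

namespace ABound

open CfsgLib.CosetEnum

theorem bound_end : Finite (Level g []) ∧ Nat.card (Level g []) ≤ 1 :=
  ⟨(card_level_nil g).1, (card_level_nil g).2.le⟩

theorem bound4 : Finite (Level g [0]) ∧ Nat.card (Level g [0]) ≤ 2 :=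
  card_le_step A4.covers bound_end (by norm_num)

theorem bound3 : Finite (Level g [0, 1]) ∧ Nat.card (Level g [0, 1]) ≤ 8 :=
  card_le_step A3.covers bound4 (by norm_num)

theorem bound2 : Finite (Level g [0, 1, 4]) ∧ Nat.card (Level g [0, 1, 4]) ≤ 16 :=
  card_le_step A2.covers bound3 (by norm_num)

theorem bound1 : Finite (Level g [0, 1, 2, 4]) ∧ Nat.card (Level g [0, 1, 2, 4]) ≤ 48 :=
  card_le_step A1.covers bound2 (by norm_num)

theorem bound0 : Finite (Level g [0, 1, 2, 3, 4]) ∧ Nat.card (Level g [0, 1, 2, 3, 4]) ≤ 15120 :=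
  card_le_step A0.covers bound1 (by norm_num)


end ABound

end CfsgLib.CosetEnum.He
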