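import Cfsg.Agent.Lib.CosetEnum.He.ABound
import Cfsg.Agent.Lib.CosetEnum.He.SmallBase
import Cfsg.Agent.Lib.CosetEnum.Simple

set_option autoImplicit false
set_option linter.all false

namespace CfsgLib.CosetEnum.He

open CfsgLib.CosetEnum

theorem small_realised : Realised π (Level g [0, 1, 2, 3, 4]) smallTable := by
  intro j hj
  have hj : j < 5 := hj
  refine ⟨g (linv 18364758544493064720 j), ?_, fun k => ?_⟩
  · rw [linv_eq j (by omega)]
    exact mem_level g (by simp only [List.mem_cons, List.not_mem_nil, or_false]; omega)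
  · rw [pi_g_linv table 18364758544493064720 2058 ip_ok row_ok π g hπ (by omega)]
    interval_cases j <;> rfl

theorem small_injective : ∀ z ∈ Level g [0, 1, 2, 3, 4], π z = 1 → z = 1 :=
  injOn_of_bound π _ smallTable small_realised 15120 ABound.bound0 SmallBase.lower

/-- A relation that holds inside the subgroup generated by `a, b, c, d, e`. -/
def extWord : List ℕ := [2, 3, 2, 3, 4, 3, 2, 3, 2, 3, 4, 3, 2, 3, 4]

theorem extOK_0 : allFrom (fun k => fixesAll table k [extWord]) 1024 0 = true := by decide +kernel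
theorem extOK_1024 : allFrom (fun k => fixesAll table k [extWord]) 1024 1024 = true := by decide +kernel
theorem extOK_2048 : allFrom (fun k => fixesAll table k [extWord]) 10 2048 = true := by decide +kernel
theorem ext_ok : ∀ k < 2058, fixesAll table k [extWord] = true := by
  intro k hk
  rcases Nat.lt_or_ge k 1024 with h | h
  · exact allFrom_spec _ _ _ extOK_0 k (by omega) (by omega)
  rcases Nat.lt_or_ge k 2048 with h | h
  · exact allFrom_spec _ _ _ extOK_1024 k (by omega) (by omega)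
  rcases Nat.lt_or_ge k 2058 with h | h
  · exact allFrom_spec _ _ _ extOK_2048 k (by omega) (by omega)
  omega
theorem ext_eq_one : (extWord.map g).prod = 1 := by
  refine small_injective _ (list_prod_mem fun y hy => ?_) ?_
  · obtain ⟨x, hx, rfl⟩ := List.mem_map.mp hy
    exact mem_level g ((by decide : ∀ x ∈ extWord, x ∈ [0, 1, 2, 3, 4]) x hx)
  · rw [map_list_prod, List.map_map, List.map_congr_left (f := ⇑π ∘ g) (g := permOf table 18364758544493064720 2058 ip_ok row_ok) fun x hx => hπ x ((by decide : ∀ x ∈ extWord, x < 16) x hx)]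
    exact prod_eq_one_of_scan table 18364758544493064720 2058 ip_ok row_ok extWord (by decide) fun k hk => fixesAll_spec _ _ _ (ext_ok k hk) _ (by simp)

/-- The relators with the derived one. -/
def ls2 : List (List ℕ) := [[0, 0],
  [0, 1, 0, 1, 0, 1, 0, 1],
  [0, 2, 0, 2],
  [0, 3, 0, 3],
  [0, 4, 0, 4],
  [0, 5, 0, 5],
  [0, 6, 0, 6],
  [1, 0, 1, 0, 1, 0, 1, 0],
  [1, 1],
  [1, 2, 1, 2, 1, 2],
  [1, 3, 1, 3],
  [1, 4, 1, 4],
  [1, 5, 1, 5],
  [1, 6, 1, 6],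
  [2, 0, 2, 0],
  [2, 1, 2, 1, 2, 1],
  [2, 2],
  [2, 3, 2, 3, 2, 3, 2, 3, 2, 3, 2, 3, 2, 3, 2, 3, 2, 3, 2, 3],
  [2, 4, 2, 4],
  [2, 5, 2, 5],
  [2, 6, 2, 6],
  [3, 0, 3, 0],
  [3, 1, 3, 1],
  [3, 2, 3, 2, 3, 2, 3, 2, 3, 2, 3, 2, 3, 2, 3, 2, 3, 2, 3, 2],
  [3, 3],
  [3, 4, 3, 4, 3, 4],
  [3, 5, 3, 5, 3, 5],
  [3, 6, 3, 6, 3, 6],
  [4, 0, 4, 0],
  [4, 1, 4, 1],
  [4, 2, 4, 2],
  [4, 3, 4, 3, 4, 3],
  [4, 4],
  [4, 5, 4, 5],
  [4, 6, 4, 6],
  [5, 0, 5, 0],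
  [5, 1, 5, 1],
  [5, 2, 5, 2],
  [5, 3, 5, 3, 5, 3],
  [5, 4, 5, 4],
  [5, 5],
  [5, 6, 5, 6, 5, 6, 5, 6],
  [6, 0, 6, 0],
  [6, 1, 6, 1],
  [6, 2, 6, 2],
  [6, 3, 6, 3, 6, 3],
  [6, 4, 6, 4],
  [6, 5, 6, 5, 6, 5, 6, 5],
  [6, 6],
  [4, 6, 5, 6, 5],
  [4, 2, 1, 0, 2, 1, 0, 2, 1, 0],
  [0, 3, 2, 3, 2, 3, 2, 3, 2, 3, 2],
  [2, 3, 5, 6, 2, 3, 5, 6, 2, 3, 5, 6, 2, 3, 5, 6],
  [2, 3, 2, 3, 4, 3, 2, 3, 2, 3, 4, 3, 2, 3, 4]]

theorem ls2Words : ∀ l ∈ ls2, (∀ x ∈ l, x < 16) ∧ (l.map g).prod = 1 := by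
  intro l hl
  rw [show ls2 = ls ++ [extWord] by decide +kernel, List.mem_append, List.mem_singleton] at hl
  rcases hl with hl | rfl
  · exact lsWords l hl
  · exact ⟨by decide, ext_eq_one⟩

end CfsgLib.CosetEnum.He
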