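import Cfsg.Agent.Lib.CosetEnum.He.Base
import Cfsg.Agent.Lib.CosetEnum.He.UBound
import Cfsg.Agent.Lib.CosetEnum.Simple

set_option autoImplicit false
set_option linter.all false

namespace CfsgLib.CosetEnum.He

open CfsgLib.CosetEnum

theorem exact : Finite Cfsg.Spor.He ∧ Nat.card Cfsg.Spor.He = 4030387200 ∧ Nat.card H = 1958400 ∧ Function.Injective π ∧ CoversCosets ⊤ H 2058 :=
  exact_of_bounds π (n := 2058) (by omega) H subTable sub_spec.1 (sub_fix (by omega)) (transitive (by omega)) 1958400 4030387200 (by norm_num) Base.lower UBound.group_bound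

theorem finite : Finite Cfsg.Spor.He := exact.1

theorem card_group : Nat.card Cfsg.Spor.He = 4030387200 := exact.2.1

theorem card_H : Nat.card H = 1958400 := exact.2.2.1

theorem injective : Function.Injective π := exact.2.2.2.1

theorem covers : CoversCosets ⊤ H 2058 := exact.2.2.2.2

theorem index_H : H.index = 2058 :=
  index_eq_of_covers (n := 2058) (by omega) π H covers (sub_fix (by omega)) (transitive (by omega))

end CfsgLib.CosetEnum.He
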