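import Cfsg.Agent.Lib.CosetEnum.He.Data

set_option autoImplicit false
set_option linter.all false

namespace CfsgLib.CosetEnum.He

open CfsgLib.CosetEnum

noncomputable def smallTable : List Tr := [col0, col1, col2, col3, col4]

end CfsgLib.CosetEnum.He
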