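import Cfsg.Agent.Lib.CosetEnum.He.UTopD

set_option autoImplicit false

set_option linter.all false

namespace CfsgLib.CosetEnum.He

namespace UTop

open CfsgLib.CosetEnum

theorem rows_12288 : checkRows facts 18364758544493064720 lives entryFact table 49980 7 176394 1024 12288 = true := by decide +kernel

theorem rows_13312 : checkRows facts 18364758544493064720 lives entryFact table 49980 7 176394 1024 13312 = true := by decide +kernel

theorem rows_14336 : checkRows facts 18364758544493064720 lives entryFact table 49980 7 176394 1024 14336 = true := by decide +kernel

theorem rows_15360 : checkRows facts 18364758544493064720 lives entryFact table 49980 7 176394 1024 15360 = true := by decide +kernel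

theorem rows_16384 : checkRows facts 18364758544493064720 lives entryFact table 49980 7 176394 1024 16384 = true := by decide +kernel

theorem rows_17408 : checkRows facts 18364758544493064720 lives entryFact table 49980 7 176394 1024 17408 = true := by decide +kernel

theorem rows_18432 : checkRows facts 18364758544493064720 lives entryFact table 49980 7 176394 1024 18432 = true := by decide +kernel

theorem rows_19456 : checkRows facts 18364758544493064720 lives entryFact table 49980 7 176394 1024 19456 = true := by decide +kernel

theorem rows_20480 : checkRows facts 18364758544493064720 lives entryFact table 49980 7 176394 1024 20480 = true := by decide +kernel

theorem rows_21504 : checkRows facts 18364758544493064720 lives entryFact table 49980 7 176394 1024 21504 = true := by decide +kernel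

theorem rows_22528 : checkRows facts 18364758544493064720 lives entryFact table 49980 7 176394 1024 22528 = true := by decide +kernel

theorem rows_23552 : checkRows facts 18364758544493064720 lives entryFact table 49980 7 176394 1024 23552 = true := by decide +kernel

end UTop

end CfsgLib.CosetEnum.He
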