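import Cfsg.Agent.Lib.CosetEnum.He.UTopD

set_option autoImplicit false

set_option linter.all false

namespace CfsgLib.CosetEnum.He

namespace UTop

open CfsgLib.CosetEnum

theorem rows_24576 : checkRows facts 18364758544493064720 lives entryFact table 49980 7 176394 1024 24576 = true := by decide +kernel

theorem rows_25600 : checkRows facts 18364758544493064720 lives entryFact table 49980 7 176394 1024 25600 = true := by decide +kernel

theorem rows_26624 : checkRows facts 18364758544493064720 lives entryFact table 49980 7 176394 1024 26624 = true := by decide +kernel

theorem rows_27648 : checkRows facts 18364758544493064720 lives entryFact table 49980 7 176394 1024 27648 = true := by decide +kernel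

theorem rows_28672 : checkRows facts 18364758544493064720 lives entryFact table 49980 7 176394 1024 28672 = true := by decide +kernel

theorem rows_29696 : checkRows facts 18364758544493064720 lives entryFact table 49980 7 176394 1024 29696 = true := by decide +kernel

theorem rows_30720 : checkRows facts 18364758544493064720 lives entryFact table 49980 7 176394 1024 30720 = true := by decide +kernel

theorem rows_31744 : checkRows facts 18364758544493064720 lives entryFact table 49980 7 176394 1024 31744 = true := by decide +kernel

theorem rows_32768 : checkRows facts 18364758544493064720 lives entryFact table 49980 7 176394 1024 32768 = true := by decide +kernel

theorem rows_33792 : checkRows facts 18364758544493064720 lives entryFact table 49980 7 176394 1024 33792 = true := by decide +kernel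

theorem rows_34816 : checkRows facts 18364758544493064720 lives entryFact table 49980 7 176394 1024 34816 = true := by decide +kernel

theorem rows_35840 : checkRows facts 18364758544493064720 lives entryFact table 49980 7 176394 1024 35840 = true := by decide +kernel

theorem rows_36864 : checkRows facts 18364758544493064720 lives entryFact table 49980 7 176394 1024 36864 = true := by decide +kernel

end UTop

end CfsgLib.CosetEnum.He
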