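import Cfsg.Agent.Lib.CosetEnum.He.UTopD

set_option autoImplicit false

set_option linter.all false

namespace CfsgLib.CosetEnum.He

namespace UTop

open CfsgLib.CosetEnum

theorem rows_37888 : checkRows facts 18364758544493064720 lives entryFact table 49980 7 176394 1024 37888 = true := by decide +kernel

theorem rows_38912 : checkRows facts 18364758544493064720 lives entryFact table 49980 7 176394 1024 38912 = true := by decide +kernel

theorem rows_39936 : checkRows facts 18364758544493064720 lives entryFact table 49980 7 176394 1024 39936 = true := by decide +kernel

theorem rows_40960 : checkRows facts 18364758544493064720 lives entryFact table 49980 7 176394 1024 40960 = true := by decide +kernel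

theorem rows_41984 : checkRows facts 18364758544493064720 lives entryFact table 49980 7 176394 1024 41984 = true := by decide +kernel

theorem rows_43008 : checkRows facts 18364758544493064720 lives entryFact table 49980 7 176394 1024 43008 = true := by decide +kernel

theorem rows_44032 : checkRows facts 18364758544493064720 lives entryFact table 49980 7 176394 1024 44032 = true := by decide +kernel

theorem rows_45056 : checkRows facts 18364758544493064720 lives entryFact table 49980 7 176394 1024 45056 = true := by decide +kernel

theorem rows_46080 : checkRows facts 18364758544493064720 lives entryFact table 49980 7 176394 1024 46080 = true := by decide +kernel

theorem rows_47104 : checkRows facts 18364758544493064720 lives entryFact table 49980 7 176394 1024 47104 = true := by decide +kernel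

theorem rows_48128 : checkRows facts 18364758544493064720 lives entryFact table 49980 7 176394 1024 48128 = true := by decide +kernel

theorem rows_49152 : checkRows facts 18364758544493064720 lives entryFact table 49980 7 176394 828 49152 = true := by decide +kernel

end UTop

end CfsgLib.CosetEnum.He
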