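import Cfsg.Agent.Lib.CosetEnum.He.UTopD

set_option autoImplicit false

set_option linter.all false

namespace CfsgLib.CosetEnum.He

namespace UTop

open CfsgLib.CosetEnum

noncomputable def items0 : List ℕ := [
nat_lit 0x0,
nat_lit 0x0,
nat_lit 0x0,
nat_lit 0x0,
nat_lit 0x0,
nat_lit 0x0,
nat_lit 0x0,
nat_lit 0x0,
nat_lit 0x0,
nat_lit 0x0,
nat_lit 0x0,
nat_lit 0x0,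
nat_lit 0x0,
nat_lit 0x0,
nat_lit 0x0,
nat_lit 0x0,
nat_lit 0x0,
nat_lit 0x0,
nat_lit 0x0,
nat_lit 0x0,
nat_lit 0x0,
nat_lit 0x0,
nat_lit 0x0,
nat_lit 0x0,
nat_lit 0x0,
nat_lit 0x0,
nat_lit 0x0,
nat_lit 0x0,
nat_lit 0x0,
nat_lit 0x0,
nat_lit 0x0,
nat_lit 0x0,
nat_lit 0x0,
nat_lit 0x0,
nat_lit 0x0,
nat_lit 0x0,
nat_lit 0x0,
nat_lit 0x0,
nat_lit 0x0,
nat_lit 0x0,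
nat_lit 0x0,
nat_lit 0x0,
nat_lit 0x0,
nat_lit 0x0,
nat_lit 0x0,
nat_lit 0x0,
nat_lit 0x0,
nat_lit 0x0,
nat_lit 0x0,
nat_lit 0x0,
nat_lit 0x0,
nat_lit 0x0,
nat_lit 0x0,
nat_lit 0x0,
nat_lit 0x0,
nat_lit 0x0,
nat_lit 0x0,
nat_lit 0x0,
nat_lit 0x0,
nat_lit 0x0,
nat_lit 0x0,
nat_lit 0x0,
nat_lit 0x0,
nat_lit 0x0,
nat_lit 0x0,
nat_lit 0x0,
nat_lit 0x0,
nat_lit 0x0,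
nat_lit 0x0,
nat_lit 0x0,
nat_lit 0x0,
nat_lit 0x0,
nat_lit 0x0,
nat_lit 0x0,
nat_lit 0x0,
nat_lit 0x0,
nat_lit 0x0,
nat_lit 0x0,
nat_lit 0x0,
nat_lit 0x0,
nat_lit 0x0,
nat_lit 0x0,
nat_lit 0x0,
nat_lit 0x0,
nat_lit 0x0,
nat_lit 0x0,
nat_lit 0x0,
nat_lit 0x0,
nat_lit 0x0,
nat_lit 0x0,
nat_lit 0x0,
nat_lit 0x0,
nat_lit 0x0,
nat_lit 0x0,
nat_lit 0x0,
nat_lit 0x0,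
nat_lit 0x0,
nat_lit 0x0,
nat_lit 0x0,
nat_lit 0x0,
nat_lit 0x0,
nat_lit 0x0,
nat_lit 0x0,
nat_lit 0x0,
nat_lit 0x0,
nat_lit 0x0,
nat_lit 0x0,
nat_lit 0x0,
nat_lit 0x0,
nat_lit 0x0,
nat_lit 0x0,
nat_lit 0x0,
nat_lit 0x0,
nat_lit 0x0,
nat_lit 0x0,
nat_lit 0x0,
nat_lit 0x0,
nat_lit 0x0,
nat_lit 0x0,
nat_lit 0x0,
nat_lit 0x0,
nat_lit 0x0,
nat_lit 0x0,
nat_lit 0x0,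
nat_lit 0x0,
nat_lit 0x0,
nat_lit 0x0,
nat_lit 0x0,
nat_lit 0x0,
nat_lit 0x0,
nat_lit 0x0,
nat_lit 0x0,
nat_lit 0x0,
nat_lit 0x0,
nat_lit 0x0,
nat_lit 0x0,
nat_lit 0x0,
nat_lit 0x0,
nat_lit 0x0,
nat_lit 0x0,
nat_lit 0x0,
nat_lit 0x0,
nat_lit 0x0,
nat_lit 0x0,
nat_lit 0x0,
nat_lit 0x0,
nat_lit 0x0,
nat_lit 0x0,
nat_lit 0x0,
nat_lit 0x0,
nat_lit 0x0,
nat_lit 0x0,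
nat_lit 0x0,
nat_lit 0x0,
nat_lit 0x0,
nat_lit 0x0,
nat_lit 0x0,
nat_lit 0x0,
nat_lit 0x0,
nat_lit 0x0,
nat_lit 0x0,
nat_lit 0x0,
nat_lit 0x0,
nat_lit 0x0,
nat_lit 0x0,
nat_lit 0x0,
nat_lit 0x0,
nat_lit 0x0,
nat_lit 0x0,
nat_lit 0x0,
nat_lit 0x0,
nat_lit 0x0,
nat_lit 0x0,
nat_lit 0x0,
nat_lit 0x0,
nat_lit 0x0,
nat_lit 0x0,
nat_lit 0x0,
nat_lit 0x0,
nat_lit 0x0,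
nat_lit 0x0,
nat_lit 0x0,
nat_lit 0x0,
nat_lit 0x0,
nat_lit 0x0,
nat_lit 0x0,
nat_lit 0x0,
nat_lit 0x0,
nat_lit 0x0,
nat_lit 0x0,
nat_lit 0x0,
nat_lit 0x0,
nat_lit 0x0,
nat_lit 0x0,
nat_lit 0x0,
nat_lit 0x0,
nat_lit 0x0,
nat_lit 0x0,
nat_lit 0x0,
nat_lit 0x0,
nat_lit 0x0,
nat_lit 0x0,
nat_lit 0x0,
nat_lit 0x0,
nat_lit 0x0,
nat_lit 0x0,
nat_lit 0x0,
nat_lit 0x0,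
nat_lit 0x0,
nat_lit 0x0,
nat_lit 0x0,
nat_lit 0x0,
nat_lit 0x0,
nat_lit 0x0,
nat_lit 0x0,
nat_lit 0x0,
nat_lit 0x0,
nat_lit 0x0,
nat_lit 0x0,
nat_lit 0x0,
nat_lit 0x0,
nat_lit 0x0,
nat_lit 0x0,
nat_lit 0x0,
nat_lit 0x0,
nat_lit 0x0,
nat_lit 0x0,
nat_lit 0x0,
nat_lit 0x0,
nat_lit 0x0,
nat_lit 0x0,
nat_lit 0x0,
nat_lit 0x0,
nat_lit 0x0,
nat_lit 0x0,
nat_lit 0x0,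
nat_lit 0x0,
nat_lit 0x0,
nat_lit 0x0,
nat_lit 0x0,
nat_lit 0x0,
nat_lit 0x0,
nat_lit 0x0,
nat_lit 0x0,
nat_lit 0x0,
nat_lit 0x0,
nat_lit 0x0,
nat_lit 0x0,
nat_lit 0x0,
nat_lit 0x0,
nat_lit 0x0,
nat_lit 0x0,
nat_lit 0x0,
nat_lit 0x0,
nat_lit 0x0,
nat_lit 0x0,
nat_lit 0x0,
nat_lit 0x0,
nat_lit 0x0,
nat_lit 0x0,
nat_lit 0x0,
nat_lit 0x0,
nat_lit 0x0,
nat_lit 0x0,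
nat_lit 0x0,
nat_lit 0x0,
nat_lit 0x0,
nat_lit 0x0,
nat_lit 0x0,
nat_lit 0x0,
nat_lit 0x0,
nat_lit 0x0,
nat_lit 0x0,
nat_lit 0x0,
nat_lit 0x0,
nat_lit 0x0,
nat_lit 0x0,
nat_lit 0x0,
nat_lit 0x0,
nat_lit 0x0,
nat_lit 0x0,
nat_lit 0x0,
nat_lit 0x0,
nat_lit 0x0,
nat_lit 0x0,
nat_lit 0x0,
nat_lit 0x0,
nat_lit 0x0,
nat_lit 0x0,
nat_lit 0x0,
nat_lit 0x0,
nat_lit 0x0,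
nat_lit 0x0,
nat_lit 0x0,
nat_lit 0x0,
nat_lit 0x0,
nat_lit 0x0,
nat_lit 0x0,
nat_lit 0x0,
nat_lit 0x0,
nat_lit 0x0,
nat_lit 0x0,
nat_lit 0x0,
nat_lit 0x0,
nat_lit 0x0,
nat_lit 0x0,
nat_lit 0x0,
nat_lit 0x0,
nat_lit 0x0,
nat_lit 0x0,
nat_lit 0x0,
nat_lit 0x0,
nat_lit 0x0,
nat_lit 0x0,
nat_lit 0x0,
nat_lit 0x0,
nat_lit 0x0,
nat_lit 0x0,
nat_lit 0x0,
nat_lit 0x0,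
nat_lit 0x0,
nat_lit 0x0,
nat_lit 0x0,
nat_lit 0x0,
nat_lit 0x0,
nat_lit 0x0,
nat_lit 0x0,
nat_lit 0x0,
nat_lit 0x0,
nat_lit 0x0,
nat_lit 0x0,
nat_lit 0x0,
nat_lit 0x0,
nat_lit 0x0,
nat_lit 0x0,
nat_lit 0x0,
nat_lit 0x0,
nat_lit 0x0,
nat_lit 0x0,
nat_lit 0x0,
nat_lit 0x0,
nat_lit 0x0,
nat_lit 0x0,
nat_lit 0x0,
nat_lit 0x0,
nat_lit 0x0,
nat_lit 0x0,
nat_lit 0x0,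
nat_lit 0x0,
nat_lit 0x0,
nat_lit 0x0,
nat_lit 0x0,
nat_lit 0x0,
nat_lit 0x0,
nat_lit 0x0,
nat_lit 0x0,
nat_lit 0x0,
nat_lit 0x0,
nat_lit 0x0,
nat_lit 0x0,
nat_lit 0x0,
nat_lit 0x0,
nat_lit 0x0,
nat_lit 0x0,
nat_lit 0x0,
nat_lit 0x0,
nat_lit 0x0,
nat_lit 0x0,
nat_lit 0x0,
nat_lit 0x0,
nat_lit 0x0,
nat_lit 0x0,
nat_lit 0x0,
nat_lit 0x0,
nat_lit 0x0,
nat_lit 0x0,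
nat_lit 0x0,
nat_lit 0x0,
nat_lit 0x0,
nat_lit 0x0,
nat_lit 0x0,
nat_lit 0x0,
nat_lit 0x0,
nat_lit 0x0,
nat_lit 0x0,
nat_lit 0x0,
nat_lit 0x0,
nat_lit 0x0,
nat_lit 0x0,
nat_lit 0x0,
nat_lit 0x0,
nat_lit 0x0,
nat_lit 0x0,
nat_lit 0x0,
nat_lit 0x0,
nat_lit 0x0,
nat_lit 0x0,
nat_lit 0x0,
nat_lit 0x0,
nat_lit 0x0,
nat_lit 0x0,
nat_lit 0x0,
nat_lit 0x0,
nat_lit 0x0,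
nat_lit 0x0,
nat_lit 0x0,
nat_lit 0x0,
nat_lit 0x0,
nat_lit 0x0,
nat_lit 0x0,
nat_lit 0x0,
nat_lit 0x0,
nat_lit 0x0,
nat_lit 0x0,
nat_lit 0x0,
nat_lit 0x0,
nat_lit 0x0,
nat_lit 0x0,
nat_lit 0x0,
nat_lit 0x0,
nat_lit 0x0,
nat_lit 0x0,
nat_lit 0x0,
nat_lit 0x0,
nat_lit 0x0,
nat_lit 0x0,
nat_lit 0x0,
nat_lit 0x0,
nat_lit 0x0,
nat_lit 0x0,
nat_lit 0x0,
nat_lit 0x0,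
nat_lit 0x0,
nat_lit 0x0,
nat_lit 0x0,
nat_lit 0x0,
nat_lit 0x0,
nat_lit 0x0,
nat_lit 0x0,
nat_lit 0x0,
nat_lit 0x0,
nat_lit 0x0,
nat_lit 0x0,
nat_lit 0x0,
nat_lit 0x0,
nat_lit 0x0,
nat_lit 0x0,
nat_lit 0x0,
nat_lit 0x0,
nat_lit 0x0,
nat_lit 0x0,
nat_lit 0x0,
nat_lit 0x0,
nat_lit 0x0,
nat_lit 0x0,
nat_lit 0x0,
nat_lit 0x0,
nat_lit 0x0,
nat_lit 0x0,
nat_lit 0x0,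
nat_lit 0x0,
nat_lit 0x0,
nat_lit 0x0,
nat_lit 0x0,
nat_lit 0x0,
nat_lit 0x0,
nat_lit 0x0,
nat_lit 0x0,
nat_lit 0x0,
nat_lit 0x0,
nat_lit 0x0,
nat_lit 0x0,
nat_lit 0x0,
nat_lit 0x0,
nat_lit 0x0,
nat_lit 0x0,
nat_lit 0x0,
nat_lit 0x0,
nat_lit 0x0,
nat_lit 0x0,
nat_lit 0x0,
nat_lit 0x0,
nat_lit 0x0,
nat_lit 0x0,
nat_lit 0x0,
nat_lit 0x0,
nat_lit 0x0,
nat_lit 0x0,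
nat_lit 0x0,
nat_lit 0x0,
nat_lit 0x0,
nat_lit 0x0,
nat_lit 0x0,
nat_lit 0x0,
nat_lit 0x0,
nat_lit 0x0,
nat_lit 0x0,
nat_lit 0x0,
nat_lit 0x0,
nat_lit 0x0,
nat_lit 0x0,
nat_lit 0x0,
nat_lit 0x0,
nat_lit 0x0,
nat_lit 0x0,
nat_lit 0x0,
nat_lit 0x0,
nat_lit 0x0,
nat_lit 0x0,
nat_lit 0x0,
nat_lit 0x0,
nat_lit 0x0]

theorem facts_ok0 : checkFacts facts 18364758544493064720 words 128 subs 49982 items0 0 = true := by decide +kernel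

noncomputable def items512 : List ℕ := [
nat_lit 0x0,
nat_lit 0x0,
nat_lit 0x0,
nat_lit 0x0,
nat_lit 0x0,
nat_lit 0x0,
nat_lit 0x0,
nat_lit 0x0,
nat_lit 0x0,
nat_lit 0x0,
nat_lit 0x0,
nat_lit 0x0,
nat_lit 0x0,
nat_lit 0x0,
nat_lit 0x0,
nat_lit 0x0,
nat_lit 0x0,
nat_lit 0x0,
nat_lit 0x0,
nat_lit 0x0,
nat_lit 0x0,
nat_lit 0x0,
nat_lit 0x0,
nat_lit 0x0,
nat_lit 0x0,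
nat_lit 0x0,
nat_lit 0x0,
nat_lit 0x0,
nat_lit 0x0,
nat_lit 0x0,
nat_lit 0x0,
nat_lit 0x0,
nat_lit 0x0,
nat_lit 0x0,
nat_lit 0x0,
nat_lit 0x0,
nat_lit 0x0,
nat_lit 0x0,
nat_lit 0x0,
nat_lit 0x0,
nat_lit 0x0,
nat_lit 0x0,
nat_lit 0x0,
nat_lit 0x0,
nat_lit 0x0,
nat_lit 0x0,
nat_lit 0x0,
nat_lit 0x0,
nat_lit 0x0,
nat_lit 0x0,
nat_lit 0x0,
nat_lit 0x0,
nat_lit 0x0,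
nat_lit 0x0,
nat_lit 0x0,
nat_lit 0x0,
nat_lit 0x0,
nat_lit 0x0,
nat_lit 0x0,
nat_lit 0x0,
nat_lit 0x0,
nat_lit 0x0,
nat_lit 0x0,
nat_lit 0x0,
nat_lit 0x0,
nat_lit 0x0,
nat_lit 0x0,
nat_lit 0x0,
nat_lit 0x0,
nat_lit 0x0,
nat_lit 0x0,
nat_lit 0x0,
nat_lit 0x0,
nat_lit 0x0,
nat_lit 0x0,
nat_lit 0x0,
nat_lit 0x0,
nat_lit 0x0,
nat_lit 0x0,
nat_lit 0x0,
nat_lit 0x0,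
nat_lit 0x0,
nat_lit 0x0,
nat_lit 0x0,
nat_lit 0x0,
nat_lit 0x0,
nat_lit 0x0,
nat_lit 0x0,
nat_lit 0x0,
nat_lit 0x0,
nat_lit 0x0,
nat_lit 0x0,
nat_lit 0x0,
nat_lit 0x0,
nat_lit 0x0,
nat_lit 0x0,
nat_lit 0x0,
nat_lit 0x0,
nat_lit 0x0,
nat_lit 0x0,
nat_lit 0x0,
nat_lit 0x0,
nat_lit 0x0,
nat_lit 0x0,
nat_lit 0x0,
nat_lit 0x0,
nat_lit 0x0,
nat_lit 0x0,
nat_lit 0x0,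
nat_lit 0x0,
nat_lit 0x0,
nat_lit 0x0,
nat_lit 0x0,
nat_lit 0x0,
nat_lit 0x0,
nat_lit 0x0,
nat_lit 0x0,
nat_lit 0x0,
nat_lit 0x0,
nat_lit 0x0,
nat_lit 0x0,
nat_lit 0x0,
nat_lit 0x0,
nat_lit 0x0,
nat_lit 0x0,
nat_lit 0x0,
nat_lit 0x0,
nat_lit 0x0,
nat_lit 0x0,
nat_lit 0x0,
nat_lit 0x0,
nat_lit 0x0,
nat_lit 0x0,
nat_lit 0x0,
nat_lit 0x0,
nat_lit 0x0,
nat_lit 0x0,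
nat_lit 0x0,
nat_lit 0x0,
nat_lit 0x0,
nat_lit 0x0,
nat_lit 0x0,
nat_lit 0x0,
nat_lit 0x0,
nat_lit 0x0,
nat_lit 0x0,
nat_lit 0x0,
nat_lit 0x0,
nat_lit 0x0,
nat_lit 0x0,
nat_lit 0x0,
nat_lit 0x0,
nat_lit 0x0,
nat_lit 0x0,
nat_lit 0x0,
nat_lit 0x0,
nat_lit 0x0,
nat_lit 0x0,
nat_lit 0x0,
nat_lit 0x0,
nat_lit 0x0,
nat_lit 0x0,
nat_lit 0x0,
nat_lit 0x0,
nat_lit 0x0,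
nat_lit 0x0,
nat_lit 0x0,
nat_lit 0x0,
nat_lit 0x0,
nat_lit 0x0,
nat_lit 0x0,
nat_lit 0x0,
nat_lit 0x0,
nat_lit 0x0,
nat_lit 0x0,
nat_lit 0x0,
nat_lit 0x0,
nat_lit 0x0,
nat_lit 0x0,
nat_lit 0x0,
nat_lit 0x0,
nat_lit 0x0,
nat_lit 0x0,
nat_lit 0x0,
nat_lit 0x0,
nat_lit 0x0,
nat_lit 0x0,
nat_lit 0x0,
nat_lit 0x0,
nat_lit 0x0,
nat_lit 0x0,
nat_lit 0x0,
nat_lit 0x0,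
nat_lit 0x0,
nat_lit 0x0,
nat_lit 0x0,
nat_lit 0x0,
nat_lit 0x0,
nat_lit 0x0,
nat_lit 0x0,
nat_lit 0x0,
nat_lit 0x0,
nat_lit 0x0,
nat_lit 0x0,
nat_lit 0x0,
nat_lit 0x0,
nat_lit 0x0,
nat_lit 0x0,
nat_lit 0x0,
nat_lit 0x0,
nat_lit 0x0,
nat_lit 0x0,
nat_lit 0x0,
nat_lit 0x0,
nat_lit 0x0,
nat_lit 0x0,
nat_lit 0x0,
nat_lit 0x0,
nat_lit 0x0,
nat_lit 0x0,
nat_lit 0x0,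
nat_lit 0x0,
nat_lit 0x0,
nat_lit 0x0,
nat_lit 0x0,
nat_lit 0x0,
nat_lit 0x0,
nat_lit 0x0,
nat_lit 0x0,
nat_lit 0x0,
nat_lit 0x0,
nat_lit 0x0,
nat_lit 0x0,
nat_lit 0x0,
nat_lit 0x0,
nat_lit 0x0,
nat_lit 0x0,
nat_lit 0x0,
nat_lit 0x0,
nat_lit 0x0,
nat_lit 0x0,
nat_lit 0x0,
nat_lit 0x0,
nat_lit 0x0,
nat_lit 0x0,
nat_lit 0x0,
nat_lit 0x0,
nat_lit 0x0,
nat_lit 0x0,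
nat_lit 0x0,
nat_lit 0x0,
nat_lit 0x0,
nat_lit 0x0,
nat_lit 0x0,
nat_lit 0x0,
nat_lit 0x0,
nat_lit 0x0,
nat_lit 0x0,
nat_lit 0x0,
nat_lit 0x0,
nat_lit 0x0,
nat_lit 0x0,
nat_lit 0x0,
nat_lit 0x0,
nat_lit 0x0,
nat_lit 0x0,
nat_lit 0x0,
nat_lit 0x0,
nat_lit 0x0,
nat_lit 0x0,
nat_lit 0x0,
nat_lit 0x0,
nat_lit 0x0,
nat_lit 0x0,
nat_lit 0x0,
nat_lit 0x0,
nat_lit 0x0,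
nat_lit 0x0,
nat_lit 0x0,
nat_lit 0x0,
nat_lit 0x0,
nat_lit 0x0,
nat_lit 0x0,
nat_lit 0x0,
nat_lit 0x0,
nat_lit 0x0,
nat_lit 0x0,
nat_lit 0x0,
nat_lit 0x0,
nat_lit 0x0,
nat_lit 0x0,
nat_lit 0x0,
nat_lit 0x0,
nat_lit 0x0,
nat_lit 0x0,
nat_lit 0x0,
nat_lit 0x0,
nat_lit 0x0,
nat_lit 0x0,
nat_lit 0x0,
nat_lit 0x0,
nat_lit 0x0,
nat_lit 0x0,
nat_lit 0x0,
nat_lit 0x0,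
nat_lit 0x0,
nat_lit 0x0,
nat_lit 0x0,
nat_lit 0x0,
nat_lit 0x0,
nat_lit 0x0,
nat_lit 0x0,
nat_lit 0x0,
nat_lit 0x0,
nat_lit 0x0,
nat_lit 0x0,
nat_lit 0x0,
nat_lit 0x0,
nat_lit 0x0,
nat_lit 0x0,
nat_lit 0x0,
nat_lit 0x0,
nat_lit 0x0,
nat_lit 0x0,
nat_lit 0x0,
nat_lit 0x0,
nat_lit 0x0,
nat_lit 0x0,
nat_lit 0x0,
nat_lit 0x0,
nat_lit 0x0,
nat_lit 0x0,
nat_lit 0x0,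
nat_lit 0x0,
nat_lit 0x0,
nat_lit 0x0,
nat_lit 0x0,
nat_lit 0x0,
nat_lit 0x0,
nat_lit 0x0,
nat_lit 0x0,
nat_lit 0x0,
nat_lit 0x0,
nat_lit 0x0,
nat_lit 0x0,
nat_lit 0x0,
nat_lit 0x0,
nat_lit 0x0,
nat_lit 0x0,
nat_lit 0x0,
nat_lit 0x0,
nat_lit 0x0,
nat_lit 0x0,
nat_lit 0x0,
nat_lit 0x0,
nat_lit 0x0,
nat_lit 0x0,
nat_lit 0x0,
nat_lit 0x0,
nat_lit 0x0,
nat_lit 0x0,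
nat_lit 0x0,
nat_lit 0x0,
nat_lit 0x0,
nat_lit 0x0,
nat_lit 0x0,
nat_lit 0x0,
nat_lit 0x0,
nat_lit 0x0,
nat_lit 0x0,
nat_lit 0x0,
nat_lit 0x0,
nat_lit 0x0,
nat_lit 0x0,
nat_lit 0x0,
nat_lit 0x0,
nat_lit 0x0,
nat_lit 0x0,
nat_lit 0x0,
nat_lit 0x0,
nat_lit 0x0,
nat_lit 0x0,
nat_lit 0x0,
nat_lit 0x0,
nat_lit 0x0,
nat_lit 0x0,
nat_lit 0x0,
nat_lit 0x0,
nat_lit 0x0,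
nat_lit 0x0,
nat_lit 0x0,
nat_lit 0x0,
nat_lit 0x0,
nat_lit 0x0,
nat_lit 0x0,
nat_lit 0x0,
nat_lit 0x0,
nat_lit 0x0,
nat_lit 0x0,
nat_lit 0x0,
nat_lit 0x0,
nat_lit 0x0,
nat_lit 0x0,
nat_lit 0x0,
nat_lit 0x0,
nat_lit 0x0,
nat_lit 0x0,
nat_lit 0x0,
nat_lit 0x0,
nat_lit 0x0,
nat_lit 0x0,
nat_lit 0x0,
nat_lit 0x0,
nat_lit 0x0,
nat_lit 0x0,
nat_lit 0x0,
nat_lit 0x0,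
nat_lit 0x0,
nat_lit 0x0,
nat_lit 0x0,
nat_lit 0x0,
nat_lit 0x0,
nat_lit 0x0,
nat_lit 0x0,
nat_lit 0x0,
nat_lit 0x0,
nat_lit 0x0,
nat_lit 0x0,
nat_lit 0x0,
nat_lit 0x0,
nat_lit 0x0,
nat_lit 0x0,
nat_lit 0x0,
nat_lit 0x0,
nat_lit 0x0,
nat_lit 0x0,
nat_lit 0x0,
nat_lit 0x0,
nat_lit 0x0,
nat_lit 0x0,
nat_lit 0x0,
nat_lit 0x0,
nat_lit 0x0,
nat_lit 0x0,
nat_lit 0x0,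
nat_lit 0x0,
nat_lit 0x0,
nat_lit 0x0,
nat_lit 0x0,
nat_lit 0x0,
nat_lit 0x0,
nat_lit 0x0,
nat_lit 0x0,
nat_lit 0x0,
nat_lit 0x0,
nat_lit 0x0,
nat_lit 0x0,
nat_lit 0x0,
nat_lit 0x0,
nat_lit 0x0,
nat_lit 0x0,
nat_lit 0x0,
nat_lit 0x0,
nat_lit 0x0,
nat_lit 0x0,
nat_lit 0x0,
nat_lit 0x0,
nat_lit 0x0,
nat_lit 0x0,
nat_lit 0x0,
nat_lit 0x0,
nat_lit 0x0,
nat_lit 0x0,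
nat_lit 0x0,
nat_lit 0x0,
nat_lit 0x0,
nat_lit 0x0,
nat_lit 0x0,
nat_lit 0x0,
nat_lit 0x0,
nat_lit 0x0,
nat_lit 0x0,
nat_lit 0x0,
nat_lit 0x0,
nat_lit 0x0,
nat_lit 0x0,
nat_lit 0x0,
nat_lit 0x0,
nat_lit 0x0,
nat_lit 0x0,
nat_lit 0x0,
nat_lit 0x0,
nat_lit 0x0,
nat_lit 0x0,
nat_lit 0x0,
nat_lit 0x0,
nat_lit 0x0,
nat_lit 0x0,
nat_lit 0x0,
nat_lit 0x0,
nat_lit 0x0,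
nat_lit 0x0,
nat_lit 0x0,
nat_lit 0x0,
nat_lit 0x0,
nat_lit 0x0,
nat_lit 0x0,
nat_lit 0x0,
nat_lit 0x0,
nat_lit 0x0,
nat_lit 0x0,
nat_lit 0x0]

theorem facts_ok512 : checkFacts facts 18364758544493064720 words 128 subs 49982 items512 512 = true := by decide +kernel

noncomputable def items1024 : List ℕ := [
nat_lit 0x0,
nat_lit 0x0,
nat_lit 0x0,
nat_lit 0x0,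
nat_lit 0x0,
nat_lit 0x0,
nat_lit 0x0,
nat_lit 0x0,
nat_lit 0x0,
nat_lit 0x0,
nat_lit 0x0,
nat_lit 0x0,
nat_lit 0x0,
nat_lit 0x0,
nat_lit 0x0,
nat_lit 0x0,
nat_lit 0x0,
nat_lit 0x0,
nat_lit 0x0,
nat_lit 0x0,
nat_lit 0x0,
nat_lit 0x0,
nat_lit 0x0,
nat_lit 0x0,
nat_lit 0x0,
nat_lit 0x0,
nat_lit 0x0,
nat_lit 0x0,
nat_lit 0x0,
nat_lit 0x0,
nat_lit 0x0,
nat_lit 0x0,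
nat_lit 0x0,
nat_lit 0x0,
nat_lit 0x0,
nat_lit 0x0,
nat_lit 0x0,
nat_lit 0x0,
nat_lit 0x0,
nat_lit 0x0,
nat_lit 0x0,
nat_lit 0x0,
nat_lit 0x0,
nat_lit 0x0,
nat_lit 0x0,
nat_lit 0x0,
nat_lit 0x0,
nat_lit 0x0,
nat_lit 0x0,
nat_lit 0x0,
nat_lit 0x0,
nat_lit 0x0,
nat_lit 0x0,
nat_lit 0x0,
nat_lit 0x0,
nat_lit 0x0,
nat_lit 0x0,
nat_lit 0x0,
nat_lit 0x0,
nat_lit 0x0,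
nat_lit 0x0,
nat_lit 0x0,
nat_lit 0x0,
nat_lit 0x0,
nat_lit 0x0,
nat_lit 0x0,
nat_lit 0x0,
nat_lit 0x0,
nat_lit 0x0,
nat_lit 0x0,
nat_lit 0x0,
nat_lit 0x0,
nat_lit 0x0,
nat_lit 0x0,
nat_lit 0x0,
nat_lit 0x0,
nat_lit 0x0,
nat_lit 0x0,
nat_lit 0x0,
nat_lit 0x0,
nat_lit 0x0,
nat_lit 0x0,
nat_lit 0x0,
nat_lit 0x0,
nat_lit 0x0,
nat_lit 0x0,
nat_lit 0x0,
nat_lit 0x0,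
nat_lit 0x0,
nat_lit 0x0,
nat_lit 0x0,
nat_lit 0x0,
nat_lit 0x0,
nat_lit 0x0,
nat_lit 0x0,
nat_lit 0x0,
nat_lit 0x0,
nat_lit 0x0,
nat_lit 0x0,
nat_lit 0x0,
nat_lit 0x0,
nat_lit 0x0,
nat_lit 0x0,
nat_lit 0x0,
nat_lit 0x0,
nat_lit 0x0,
nat_lit 0x0,
nat_lit 0x0,
nat_lit 0x0,
nat_lit 0x0,
nat_lit 0x0,
nat_lit 0x0,
nat_lit 0x0,
nat_lit 0x0,
nat_lit 0x0,
nat_lit 0x0,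
nat_lit 0x0,
nat_lit 0x0,
nat_lit 0x0,
nat_lit 0x0,
nat_lit 0x0,
nat_lit 0x0,
nat_lit 0x0,
nat_lit 0x0,
nat_lit 0x0,
nat_lit 0x0,
nat_lit 0x0,
nat_lit 0x0,
nat_lit 0x0,
nat_lit 0x0,
nat_lit 0x0,
nat_lit 0x0,
nat_lit 0x0,
nat_lit 0x0,
nat_lit 0x0,
nat_lit 0x0,
nat_lit 0x0,
nat_lit 0x0,
nat_lit 0x0,
nat_lit 0x0,
nat_lit 0x0,
nat_lit 0x0,
nat_lit 0x0,
nat_lit 0x0,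
nat_lit 0x0,
nat_lit 0x0,
nat_lit 0x0,
nat_lit 0x0,
nat_lit 0x0,
nat_lit 0x0,
nat_lit 0x0,
nat_lit 0x0,
nat_lit 0x0,
nat_lit 0x0,
nat_lit 0x0,
nat_lit 0x0,
nat_lit 0x0,
nat_lit 0x0,
nat_lit 0x0,
nat_lit 0x0,
nat_lit 0x0,
nat_lit 0x0,
nat_lit 0x0,
nat_lit 0x0,
nat_lit 0x0,
nat_lit 0x0,
nat_lit 0x0,
nat_lit 0x0,
nat_lit 0x0,
nat_lit 0x0,
nat_lit 0x0,
nat_lit 0x0,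
nat_lit 0x0,
nat_lit 0x0,
nat_lit 0x0,
nat_lit 0x0,
nat_lit 0x0,
nat_lit 0x0,
nat_lit 0x0,
nat_lit 0x0,
nat_lit 0x0,
nat_lit 0x0,
nat_lit 0x0,
nat_lit 0x0,
nat_lit 0x0,
nat_lit 0x0,
nat_lit 0x0,
nat_lit 0x0,
nat_lit 0x0,
nat_lit 0x0,
nat_lit 0x0,
nat_lit 0x0,
nat_lit 0x0,
nat_lit 0x0,
nat_lit 0x0,
nat_lit 0x0,
nat_lit 0x0,
nat_lit 0x0,
nat_lit 0x0,
nat_lit 0x0,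
nat_lit 0x0,
nat_lit 0x0,
nat_lit 0x0,
nat_lit 0x0,
nat_lit 0x0,
nat_lit 0x0,
nat_lit 0x0,
nat_lit 0x0,
nat_lit 0x0,
nat_lit 0x0,
nat_lit 0x0,
nat_lit 0x0,
nat_lit 0x0,
nat_lit 0x0,
nat_lit 0x0,
nat_lit 0x0,
nat_lit 0x0,
nat_lit 0x0,
nat_lit 0x0,
nat_lit 0x0,
nat_lit 0x0,
nat_lit 0x0,
nat_lit 0x0,
nat_lit 0x0,
nat_lit 0x0,
nat_lit 0x0,
nat_lit 0x0,
nat_lit 0x0,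
nat_lit 0x0,
nat_lit 0x0,
nat_lit 0x0,
nat_lit 0x0,
nat_lit 0x0,
nat_lit 0x0,
nat_lit 0x0,
nat_lit 0x0,
nat_lit 0x0,
nat_lit 0x0,
nat_lit 0x0,
nat_lit 0x0,
nat_lit 0x0,
nat_lit 0x0,
nat_lit 0x0,
nat_lit 0x0,
nat_lit 0x0,
nat_lit 0x0,
nat_lit 0x0,
nat_lit 0x0,
nat_lit 0x0,
nat_lit 0x0,
nat_lit 0x0,
nat_lit 0x0,
nat_lit 0x0,
nat_lit 0x0,
nat_lit 0x0,
nat_lit 0x0,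
nat_lit 0x0,
nat_lit 0x0,
nat_lit 0x0,
nat_lit 0x0,
nat_lit 0x0,
nat_lit 0x0,
nat_lit 0x0,
nat_lit 0x0,
nat_lit 0x0,
nat_lit 0x0,
nat_lit 0x0,
nat_lit 0x0,
nat_lit 0x0,
nat_lit 0x0,
nat_lit 0x0,
nat_lit 0x0,
nat_lit 0x0,
nat_lit 0x0,
nat_lit 0x0,
nat_lit 0x0,
nat_lit 0x0,
nat_lit 0x0,
nat_lit 0x0,
nat_lit 0x0,
nat_lit 0x0,
nat_lit 0x0,
nat_lit 0x0,
nat_lit 0x0,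
nat_lit 0x0,
nat_lit 0x0,
nat_lit 0x0,
nat_lit 0x0,
nat_lit 0x0,
nat_lit 0x0,
nat_lit 0x0,
nat_lit 0x0,
nat_lit 0x0,
nat_lit 0x0,
nat_lit 0x0,
nat_lit 0x0,
nat_lit 0x0,
nat_lit 0x0,
nat_lit 0x0,
nat_lit 0x0,
nat_lit 0x0,
nat_lit 0x0,
nat_lit 0x0,
nat_lit 0x0,
nat_lit 0x0,
nat_lit 0x0,
nat_lit 0x0,
nat_lit 0x0,
nat_lit 0x0,
nat_lit 0x0,
nat_lit 0x0,
nat_lit 0x0,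
nat_lit 0x0,
nat_lit 0x0,
nat_lit 0x0,
nat_lit 0x0,
nat_lit 0x0,
nat_lit 0x0,
nat_lit 0x0,
nat_lit 0x0,
nat_lit 0x0,
nat_lit 0x0,
nat_lit 0x0,
nat_lit 0x0,
nat_lit 0x0,
nat_lit 0x0,
nat_lit 0x0,
nat_lit 0x0,
nat_lit 0x0,
nat_lit 0x0,
nat_lit 0x0,
nat_lit 0x0,
nat_lit 0x0,
nat_lit 0x0,
nat_lit 0x0,
nat_lit 0x0,
nat_lit 0x0,
nat_lit 0x0,
nat_lit 0x0,
nat_lit 0x0,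
nat_lit 0x0,
nat_lit 0x0,
nat_lit 0x0,
nat_lit 0x0,
nat_lit 0x0,
nat_lit 0x0,
nat_lit 0x0,
nat_lit 0x0,
nat_lit 0x0,
nat_lit 0x0,
nat_lit 0x0,
nat_lit 0x0,
nat_lit 0x0,
nat_lit 0x0,
nat_lit 0x0,
nat_lit 0x0,
nat_lit 0x0,
nat_lit 0x0,
nat_lit 0x0,
nat_lit 0x0,
nat_lit 0x0,
nat_lit 0x0,
nat_lit 0x0,
nat_lit 0x0,
nat_lit 0x0,
nat_lit 0x0,
nat_lit 0x0,
nat_lit 0x0,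
nat_lit 0x0,
nat_lit 0x0,
nat_lit 0x0,
nat_lit 0x0,
nat_lit 0x0,
nat_lit 0x0,
nat_lit 0x0,
nat_lit 0x0,
nat_lit 0x0,
nat_lit 0x0,
nat_lit 0x0,
nat_lit 0x0,
nat_lit 0x0,
nat_lit 0x0,
nat_lit 0x0,
nat_lit 0x0,
nat_lit 0x0,
nat_lit 0x0,
nat_lit 0x0,
nat_lit 0x0,
nat_lit 0x0,
nat_lit 0x0,
nat_lit 0x0,
nat_lit 0x0,
nat_lit 0x0,
nat_lit 0x0,
nat_lit 0x0,
nat_lit 0x0,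
nat_lit 0x0,
nat_lit 0x0,
nat_lit 0x0,
nat_lit 0x0,
nat_lit 0x0,
nat_lit 0x0,
nat_lit 0x0,
nat_lit 0x0,
nat_lit 0x0,
nat_lit 0x0,
nat_lit 0x0,
nat_lit 0x0,
nat_lit 0x0,
nat_lit 0x0,
nat_lit 0x0,
nat_lit 0x0,
nat_lit 0x0,
nat_lit 0x0,
nat_lit 0x0,
nat_lit 0x0,
nat_lit 0x0,
nat_lit 0x0,
nat_lit 0x0,
nat_lit 0x0,
nat_lit 0x0,
nat_lit 0x0,
nat_lit 0x0,
nat_lit 0x0,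
nat_lit 0x0,
nat_lit 0x0,
nat_lit 0x0,
nat_lit 0x0,
nat_lit 0x0,
nat_lit 0x0,
nat_lit 0x0,
nat_lit 0x0,
nat_lit 0x0,
nat_lit 0x0,
nat_lit 0x0,
nat_lit 0x0,
nat_lit 0x0,
nat_lit 0x0,
nat_lit 0x0,
nat_lit 0x0,
nat_lit 0x0,
nat_lit 0x0,
nat_lit 0x0,
nat_lit 0x0,
nat_lit 0x0,
nat_lit 0x0,
nat_lit 0x0,
nat_lit 0x0,
nat_lit 0x0,
nat_lit 0x0,
nat_lit 0x0,
nat_lit 0x0,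
nat_lit 0x0,
nat_lit 0x0,
nat_lit 0x0,
nat_lit 0x0,
nat_lit 0x0,
nat_lit 0x0,
nat_lit 0x0,
nat_lit 0x0,
nat_lit 0x0,
nat_lit 0x0,
nat_lit 0x0,
nat_lit 0x0,
nat_lit 0x0,
nat_lit 0x0,
nat_lit 0x0,
nat_lit 0x0,
nat_lit 0x0,
nat_lit 0x0,
nat_lit 0x0,
nat_lit 0x0,
nat_lit 0x0,
nat_lit 0x0,
nat_lit 0x0,
nat_lit 0x0,
nat_lit 0x0,
nat_lit 0x0,
nat_lit 0x0,
nat_lit 0x0,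
nat_lit 0x0,
nat_lit 0x0,
nat_lit 0x0,
nat_lit 0x0,
nat_lit 0x0,
nat_lit 0x0,
nat_lit 0x0,
nat_lit 0x0,
nat_lit 0x0,
nat_lit 0x0,
nat_lit 0x0,
nat_lit 0x0,
nat_lit 0x0,
nat_lit 0x0,
nat_lit 0x0,
nat_lit 0x0,
nat_lit 0x0,
nat_lit 0x0,
nat_lit 0x0,
nat_lit 0x0,
nat_lit 0x0,
nat_lit 0x0,
nat_lit 0x0,
nat_lit 0x0,
nat_lit 0x0,
nat_lit 0x0,
nat_lit 0x0,
nat_lit 0x0,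
nat_lit 0x0,
nat_lit 0x0,
nat_lit 0x0,
nat_lit 0x0]

theorem facts_ok1024 : checkFacts facts 18364758544493064720 words 128 subs 49982 items1024 1024 = true := by decide +kernel

noncomputable def items1536 : List ℕ := [
nat_lit 0x0,
nat_lit 0x0,
nat_lit 0x0,
nat_lit 0x0,
nat_lit 0x0,
nat_lit 0x0,
nat_lit 0x0,
nat_lit 0x0,
nat_lit 0x0,
nat_lit 0x0,
nat_lit 0x0,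
nat_lit 0x0,
nat_lit 0x0,
nat_lit 0x0,
nat_lit 0x0,
nat_lit 0x0,
nat_lit 0x0,
nat_lit 0x0,
nat_lit 0x0,
nat_lit 0x0,
nat_lit 0x0,
nat_lit 0x0,
nat_lit 0x0,
nat_lit 0x0,
nat_lit 0x0,
nat_lit 0x0,
nat_lit 0x0,
nat_lit 0x0,
nat_lit 0x0,
nat_lit 0x0,
nat_lit 0x0,
nat_lit 0x0,
nat_lit 0x0,
nat_lit 0x0,
nat_lit 0x0,
nat_lit 0x0,
nat_lit 0x0,
nat_lit 0x0,
nat_lit 0x0,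
nat_lit 0x0,
nat_lit 0x0,
nat_lit 0x0,
nat_lit 0x0,
nat_lit 0x0,
nat_lit 0x0,
nat_lit 0x0,
nat_lit 0x0,
nat_lit 0x0,
nat_lit 0x0,
nat_lit 0x0,
nat_lit 0x0,
nat_lit 0x0,
nat_lit 0x0,
nat_lit 0x0,
nat_lit 0x0,
nat_lit 0x0,
nat_lit 0x0,
nat_lit 0x0,
nat_lit 0x0,
nat_lit 0x0,
nat_lit 0x0,
nat_lit 0x0,
nat_lit 0x0,
nat_lit 0x0,
nat_lit 0x0,
nat_lit 0x0,
nat_lit 0x0,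
nat_lit 0x0,
nat_lit 0x0,
nat_lit 0x0,
nat_lit 0x0,
nat_lit 0x0,
nat_lit 0x0,
nat_lit 0x0,
nat_lit 0x0,
nat_lit 0x0,
nat_lit 0x0,
nat_lit 0x0,
nat_lit 0x0,
nat_lit 0x0,
nat_lit 0x0,
nat_lit 0x0,
nat_lit 0x0,
nat_lit 0x0,
nat_lit 0x0,
nat_lit 0x0,
nat_lit 0x0,
nat_lit 0x0,
nat_lit 0x0,
nat_lit 0x0,
nat_lit 0x0,
nat_lit 0x0,
nat_lit 0x0,
nat_lit 0x0,
nat_lit 0x0,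
nat_lit 0x0,
nat_lit 0x0,
nat_lit 0x0,
nat_lit 0x0,
nat_lit 0x0,
nat_lit 0x0,
nat_lit 0x0,
nat_lit 0x0,
nat_lit 0x0,
nat_lit 0x0,
nat_lit 0x0,
nat_lit 0x0,
nat_lit 0x0,
nat_lit 0x0,
nat_lit 0x0,
nat_lit 0x0,
nat_lit 0x0,
nat_lit 0x0,
nat_lit 0x0,
nat_lit 0x0,
nat_lit 0x0,
nat_lit 0x0,
nat_lit 0x0,
nat_lit 0x0,
nat_lit 0x0,
nat_lit 0x0,
nat_lit 0x0,
nat_lit 0x0,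
nat_lit 0x0,
nat_lit 0x0,
nat_lit 0x0,
nat_lit 0x0,
nat_lit 0x0,
nat_lit 0x0,
nat_lit 0x0,
nat_lit 0x0,
nat_lit 0x0,
nat_lit 0x0,
nat_lit 0x0,
nat_lit 0x0,
nat_lit 0x0,
nat_lit 0x0,
nat_lit 0x0,
nat_lit 0x0,
nat_lit 0x0,
nat_lit 0x0,
nat_lit 0x0,
nat_lit 0x0,
nat_lit 0x0,
nat_lit 0x0,
nat_lit 0x0,
nat_lit 0x0,
nat_lit 0x0,
nat_lit 0x0,
nat_lit 0x0,
nat_lit 0x0,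
nat_lit 0x0,
nat_lit 0x0,
nat_lit 0x0,
nat_lit 0x0,
nat_lit 0x0,
nat_lit 0x0,
nat_lit 0x0,
nat_lit 0x0,
nat_lit 0x0,
nat_lit 0x0,
nat_lit 0x0,
nat_lit 0x0,
nat_lit 0x0,
nat_lit 0x0,
nat_lit 0x0,
nat_lit 0x0,
nat_lit 0x0,
nat_lit 0x0,
nat_lit 0x0,
nat_lit 0x0,
nat_lit 0x0,
nat_lit 0x0,
nat_lit 0x0,
nat_lit 0x0,
nat_lit 0x0,
nat_lit 0x0,
nat_lit 0x0,
nat_lit 0x0,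
nat_lit 0x0,
nat_lit 0x0,
nat_lit 0x0,
nat_lit 0x0,
nat_lit 0x0,
nat_lit 0x0,
nat_lit 0x0,
nat_lit 0x0,
nat_lit 0x0,
nat_lit 0x0,
nat_lit 0x0,
nat_lit 0x0,
nat_lit 0x0,
nat_lit 0x0,
nat_lit 0x0,
nat_lit 0x0,
nat_lit 0x0,
nat_lit 0x0,
nat_lit 0x0,
nat_lit 0x0,
nat_lit 0x0,
nat_lit 0x0,
nat_lit 0x0,
nat_lit 0x0,
nat_lit 0x0,
nat_lit 0x0,
nat_lit 0x0,
nat_lit 0x0,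
nat_lit 0x0,
nat_lit 0x0,
nat_lit 0x0,
nat_lit 0x0,
nat_lit 0x0,
nat_lit 0x0,
nat_lit 0x0,
nat_lit 0x0,
nat_lit 0x0,
nat_lit 0x0,
nat_lit 0x0,
nat_lit 0x0,
nat_lit 0x0,
nat_lit 0x0,
nat_lit 0x0,
nat_lit 0x0,
nat_lit 0x0,
nat_lit 0x0,
nat_lit 0x0,
nat_lit 0x0,
nat_lit 0x0,
nat_lit 0x0,
nat_lit 0x0,
nat_lit 0x0,
nat_lit 0x0,
nat_lit 0x0,
nat_lit 0x0,
nat_lit 0x0,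
nat_lit 0x0,
nat_lit 0x0,
nat_lit 0x0,
nat_lit 0x0,
nat_lit 0x0,
nat_lit 0x0,
nat_lit 0x0,
nat_lit 0x0,
nat_lit 0x0,
nat_lit 0x0,
nat_lit 0x0,
nat_lit 0x0,
nat_lit 0x0,
nat_lit 0x0,
nat_lit 0x0,
nat_lit 0x0,
nat_lit 0x0,
nat_lit 0x0,
nat_lit 0x0,
nat_lit 0x0,
nat_lit 0x0,
nat_lit 0x0,
nat_lit 0x0,
nat_lit 0x0,
nat_lit 0x0,
nat_lit 0x0,
nat_lit 0x0,
nat_lit 0x0,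
nat_lit 0x0,
nat_lit 0x0,
nat_lit 0x0,
nat_lit 0x0,
nat_lit 0x0,
nat_lit 0x0,
nat_lit 0x0,
nat_lit 0x0,
nat_lit 0x0,
nat_lit 0x0,
nat_lit 0x0,
nat_lit 0x0,
nat_lit 0x0,
nat_lit 0x0,
nat_lit 0x0,
nat_lit 0x0,
nat_lit 0x0,
nat_lit 0x0,
nat_lit 0x0,
nat_lit 0x0,
nat_lit 0x0,
nat_lit 0x0,
nat_lit 0x0,
nat_lit 0x0,
nat_lit 0x0,
nat_lit 0x0,
nat_lit 0x0,
nat_lit 0x0,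
nat_lit 0x0,
nat_lit 0x0,
nat_lit 0x0,
nat_lit 0x0,
nat_lit 0x0,
nat_lit 0x0,
nat_lit 0x0,
nat_lit 0x0,
nat_lit 0x0,
nat_lit 0x0,
nat_lit 0x0,
nat_lit 0x0,
nat_lit 0x0,
nat_lit 0x0,
nat_lit 0x0,
nat_lit 0x0,
nat_lit 0x0,
nat_lit 0x0,
nat_lit 0x0,
nat_lit 0x0,
nat_lit 0x0,
nat_lit 0x0,
nat_lit 0x0,
nat_lit 0x0,
nat_lit 0x0,
nat_lit 0x0,
nat_lit 0x0,
nat_lit 0x0,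
nat_lit 0x0,
nat_lit 0x0,
nat_lit 0x0,
nat_lit 0x0,
nat_lit 0x0,
nat_lit 0x0,
nat_lit 0x0,
nat_lit 0x0,
nat_lit 0x0,
nat_lit 0x0,
nat_lit 0x0,
nat_lit 0x0,
nat_lit 0x0,
nat_lit 0x0,
nat_lit 0x0,
nat_lit 0x0,
nat_lit 0x0,
nat_lit 0x0,
nat_lit 0x0,
nat_lit 0x0,
nat_lit 0x0,
nat_lit 0x0,
nat_lit 0x0,
nat_lit 0x0,
nat_lit 0x0,
nat_lit 0x0,
nat_lit 0x0,
nat_lit 0x0,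
nat_lit 0x0,
nat_lit 0x0,
nat_lit 0x0,
nat_lit 0x0,
nat_lit 0x0,
nat_lit 0x0,
nat_lit 0x0,
nat_lit 0x0,
nat_lit 0x0,
nat_lit 0x0,
nat_lit 0x0,
nat_lit 0x0,
nat_lit 0x0,
nat_lit 0x0,
nat_lit 0x0,
nat_lit 0x0,
nat_lit 0x0,
nat_lit 0x0,
nat_lit 0x0,
nat_lit 0x0,
nat_lit 0x0,
nat_lit 0x0,
nat_lit 0x0,
nat_lit 0x0,
nat_lit 0x0,
nat_lit 0x0,
nat_lit 0x0,
nat_lit 0x0,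
nat_lit 0x0,
nat_lit 0x0,
nat_lit 0x0,
nat_lit 0x0,
nat_lit 0x0,
nat_lit 0x0,
nat_lit 0x0,
nat_lit 0x0,
nat_lit 0x0,
nat_lit 0x0,
nat_lit 0x0,
nat_lit 0x0,
nat_lit 0x0,
nat_lit 0x0,
nat_lit 0x0,
nat_lit 0x0,
nat_lit 0x0,
nat_lit 0x0,
nat_lit 0x0,
nat_lit 0x0,
nat_lit 0x0,
nat_lit 0x0,
nat_lit 0x0,
nat_lit 0x0,
nat_lit 0x0,
nat_lit 0x0,
nat_lit 0x0,
nat_lit 0x0,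
nat_lit 0x0,
nat_lit 0x0,
nat_lit 0x0,
nat_lit 0x0,
nat_lit 0x0,
nat_lit 0x0,
nat_lit 0x0,
nat_lit 0x0,
nat_lit 0x0,
nat_lit 0x0,
nat_lit 0x0,
nat_lit 0x0,
nat_lit 0x0,
nat_lit 0x0,
nat_lit 0x0,
nat_lit 0x0,
nat_lit 0x0,
nat_lit 0x0,
nat_lit 0x0,
nat_lit 0x0,
nat_lit 0x0,
nat_lit 0x0,
nat_lit 0x0,
nat_lit 0x0,
nat_lit 0x0,
nat_lit 0x0,
nat_lit 0x0,
nat_lit 0x0,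
nat_lit 0x0,
nat_lit 0x0,
nat_lit 0x0,
nat_lit 0x0,
nat_lit 0x0,
nat_lit 0x0,
nat_lit 0x0,
nat_lit 0x0,
nat_lit 0x0,
nat_lit 0x0,
nat_lit 0x0,
nat_lit 0x0,
nat_lit 0x0,
nat_lit 0x0,
nat_lit 0x0,
nat_lit 0x0,
nat_lit 0x0,
nat_lit 0x0,
nat_lit 0x0,
nat_lit 0x0,
nat_lit 0x0,
nat_lit 0x0,
nat_lit 0x0,
nat_lit 0x0,
nat_lit 0x0,
nat_lit 0x0,
nat_lit 0x0,
nat_lit 0x0,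
nat_lit 0x0,
nat_lit 0x0,
nat_lit 0x0,
nat_lit 0x0,
nat_lit 0x0,
nat_lit 0x0,
nat_lit 0x0,
nat_lit 0x0,
nat_lit 0x0,
nat_lit 0x0,
nat_lit 0x0,
nat_lit 0x0,
nat_lit 0x0,
nat_lit 0x0,
nat_lit 0x0,
nat_lit 0x0,
nat_lit 0x0,
nat_lit 0x0,
nat_lit 0x0,
nat_lit 0x0,
nat_lit 0x0,
nat_lit 0x0,
nat_lit 0x0,
nat_lit 0x0,
nat_lit 0x0,
nat_lit 0x0,
nat_lit 0x0,
nat_lit 0x0,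
nat_lit 0x0,
nat_lit 0x0,
nat_lit 0x0,
nat_lit 0x0,
nat_lit 0x0,
nat_lit 0x0,
nat_lit 0x0,
nat_lit 0x0,
nat_lit 0x0,
nat_lit 0x0,
nat_lit 0x0,
nat_lit 0x0,
nat_lit 0x0,
nat_lit 0x0,
nat_lit 0x0,
nat_lit 0x0,
nat_lit 0x0,
nat_lit 0x0,
nat_lit 0x0,
nat_lit 0x0,
nat_lit 0x0,
nat_lit 0x0,
nat_lit 0x0,
nat_lit 0x0,
nat_lit 0x0]

theorem facts_ok1536 : checkFacts facts 18364758544493064720 words 128 subs 49982 items1536 1536 = true := by decide +kernel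

noncomputable def items2048 : List ℕ := [
nat_lit 0x0,
nat_lit 0x0,
nat_lit 0x0,
nat_lit 0x0,
nat_lit 0x0,
nat_lit 0x0,
nat_lit 0x0,
nat_lit 0x0,
nat_lit 0x0,
nat_lit 0x0,
nat_lit 0x0,
nat_lit 0x0,
nat_lit 0x0,
nat_lit 0x0,
nat_lit 0x0,
nat_lit 0x0,
nat_lit 0x0,
nat_lit 0x0,
nat_lit 0x0,
nat_lit 0x0,
nat_lit 0x0,
nat_lit 0x0,
nat_lit 0x0,
nat_lit 0x0,
nat_lit 0x0,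
nat_lit 0x0,
nat_lit 0x0,
nat_lit 0x0,
nat_lit 0x0,
nat_lit 0x0,
nat_lit 0x0,
nat_lit 0x0,
nat_lit 0x0,
nat_lit 0x0,
nat_lit 0x0,
nat_lit 0x0,
nat_lit 0x0,
nat_lit 0x0,
nat_lit 0x0,
nat_lit 0x0,
nat_lit 0x0,
nat_lit 0x0,
nat_lit 0x0,
nat_lit 0x0,
nat_lit 0x0,
nat_lit 0x0,
nat_lit 0x0,
nat_lit 0x0,
nat_lit 0x0,
nat_lit 0x0,
nat_lit 0x0,
nat_lit 0x0,
nat_lit 0x0,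
nat_lit 0x0,
nat_lit 0x0,
nat_lit 0x0,
nat_lit 0x0,
nat_lit 0x0,
nat_lit 0x0,
nat_lit 0x0,
nat_lit 0x0,
nat_lit 0x0,
nat_lit 0x0,
nat_lit 0x0,
nat_lit 0x0,
nat_lit 0x0,
nat_lit 0x0,
nat_lit 0x0,
nat_lit 0x0,
nat_lit 0x0,
nat_lit 0x0,
nat_lit 0x0,
nat_lit 0x0,
nat_lit 0x0,
nat_lit 0x0,
nat_lit 0x0,
nat_lit 0x0,
nat_lit 0x0,
nat_lit 0x0,
nat_lit 0x0,
nat_lit 0x0,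
nat_lit 0x0,
nat_lit 0x0,
nat_lit 0x0,
nat_lit 0x0,
nat_lit 0x0,
nat_lit 0x0,
nat_lit 0x0,
nat_lit 0x0,
nat_lit 0x0,
nat_lit 0x0,
nat_lit 0x0,
nat_lit 0x0,
nat_lit 0x0,
nat_lit 0x0,
nat_lit 0x0,
nat_lit 0x0,
nat_lit 0x0,
nat_lit 0x0,
nat_lit 0x0,
nat_lit 0x0,
nat_lit 0x0,
nat_lit 0x0,
nat_lit 0x0,
nat_lit 0x0,
nat_lit 0x0,
nat_lit 0x0,
nat_lit 0x0,
nat_lit 0x0,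
nat_lit 0x0,
nat_lit 0x0,
nat_lit 0x0,
nat_lit 0x0,
nat_lit 0x0,
nat_lit 0x0,
nat_lit 0x0,
nat_lit 0x0,
nat_lit 0x0,
nat_lit 0x0,
nat_lit 0x0,
nat_lit 0x0,
nat_lit 0x0,
nat_lit 0x0,
nat_lit 0x0,
nat_lit 0x0,
nat_lit 0x0,
nat_lit 0x0,
nat_lit 0x0,
nat_lit 0x0,
nat_lit 0x0,
nat_lit 0x0,
nat_lit 0x0,
nat_lit 0x0,
nat_lit 0x0,
nat_lit 0x0,
nat_lit 0x0,
nat_lit 0x0,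
nat_lit 0x0,
nat_lit 0x0,
nat_lit 0x0,
nat_lit 0x0,
nat_lit 0x0,
nat_lit 0x0,
nat_lit 0x0,
nat_lit 0x0,
nat_lit 0x0,
nat_lit 0x0,
nat_lit 0x0,
nat_lit 0x0,
nat_lit 0x0,
nat_lit 0x0,
nat_lit 0x0,
nat_lit 0x0,
nat_lit 0x0,
nat_lit 0x0,
nat_lit 0x0,
nat_lit 0x0,
nat_lit 0x0,
nat_lit 0x0,
nat_lit 0x0,
nat_lit 0x0,
nat_lit 0x0,
nat_lit 0x0,
nat_lit 0x0,
nat_lit 0x0,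
nat_lit 0x0,
nat_lit 0x0,
nat_lit 0x0,
nat_lit 0x0,
nat_lit 0x0,
nat_lit 0x0,
nat_lit 0x0,
nat_lit 0x0,
nat_lit 0x0,
nat_lit 0x0,
nat_lit 0x0,
nat_lit 0x0,
nat_lit 0x0,
nat_lit 0x0,
nat_lit 0x0,
nat_lit 0x0,
nat_lit 0x0,
nat_lit 0x0,
nat_lit 0x0,
nat_lit 0x0,
nat_lit 0x0,
nat_lit 0x0,
nat_lit 0x0,
nat_lit 0x0,
nat_lit 0x0,
nat_lit 0x0,
nat_lit 0x0,
nat_lit 0x0,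
nat_lit 0x0,
nat_lit 0x0,
nat_lit 0x0,
nat_lit 0x0,
nat_lit 0x0,
nat_lit 0x0,
nat_lit 0x0,
nat_lit 0x0,
nat_lit 0x0,
nat_lit 0x0,
nat_lit 0x0,
nat_lit 0x0,
nat_lit 0x0,
nat_lit 0x0,
nat_lit 0x0,
nat_lit 0x0,
nat_lit 0x0,
nat_lit 0x0,
nat_lit 0x0,
nat_lit 0x0,
nat_lit 0x0,
nat_lit 0x0,
nat_lit 0x0,
nat_lit 0x0,
nat_lit 0x0,
nat_lit 0x0,
nat_lit 0x0,
nat_lit 0x0,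
nat_lit 0x0,
nat_lit 0x0,
nat_lit 0x0,
nat_lit 0x0,
nat_lit 0x0,
nat_lit 0x0,
nat_lit 0x0,
nat_lit 0x0,
nat_lit 0x0,
nat_lit 0x0,
nat_lit 0x0,
nat_lit 0x0,
nat_lit 0x0,
nat_lit 0x0,
nat_lit 0x0,
nat_lit 0x0,
nat_lit 0x0,
nat_lit 0x0,
nat_lit 0x0,
nat_lit 0x0,
nat_lit 0x0,
nat_lit 0x0,
nat_lit 0x0,
nat_lit 0x0,
nat_lit 0x0,
nat_lit 0x0,
nat_lit 0x0,
nat_lit 0x0,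
nat_lit 0x0,
nat_lit 0x0,
nat_lit 0x0,
nat_lit 0x0,
nat_lit 0x0,
nat_lit 0x0,
nat_lit 0x0,
nat_lit 0x0,
nat_lit 0x0,
nat_lit 0x0,
nat_lit 0x0,
nat_lit 0x0,
nat_lit 0x0,
nat_lit 0x0,
nat_lit 0x0,
nat_lit 0x0,
nat_lit 0x0,
nat_lit 0x0,
nat_lit 0x0,
nat_lit 0x0,
nat_lit 0x0,
nat_lit 0x0,
nat_lit 0x0,
nat_lit 0x0,
nat_lit 0x0,
nat_lit 0x0,
nat_lit 0x0,
nat_lit 0x0,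
nat_lit 0x0,
nat_lit 0x0,
nat_lit 0x0,
nat_lit 0x0,
nat_lit 0x0,
nat_lit 0x0,
nat_lit 0x0,
nat_lit 0x0,
nat_lit 0x0,
nat_lit 0x0,
nat_lit 0x0,
nat_lit 0x0,
nat_lit 0x0,
nat_lit 0x0,
nat_lit 0x0,
nat_lit 0x0,
nat_lit 0x0,
nat_lit 0x0,
nat_lit 0x0,
nat_lit 0x0,
nat_lit 0x0,
nat_lit 0x0,
nat_lit 0x0,
nat_lit 0x0,
nat_lit 0x0,
nat_lit 0x0,
nat_lit 0x0,
nat_lit 0x0,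
nat_lit 0x0,
nat_lit 0x0,
nat_lit 0x0,
nat_lit 0x0,
nat_lit 0x0,
nat_lit 0x0,
nat_lit 0x0,
nat_lit 0x0,
nat_lit 0x0,
nat_lit 0x0,
nat_lit 0x0,
nat_lit 0x0,
nat_lit 0x0,
nat_lit 0x0,
nat_lit 0x0,
nat_lit 0x0,
nat_lit 0x0,
nat_lit 0x0,
nat_lit 0x0,
nat_lit 0x0,
nat_lit 0x0,
nat_lit 0x0,
nat_lit 0x0,
nat_lit 0x0,
nat_lit 0x0,
nat_lit 0x0,
nat_lit 0x0,
nat_lit 0x0,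
nat_lit 0x0,
nat_lit 0x0,
nat_lit 0x0,
nat_lit 0x0,
nat_lit 0x0,
nat_lit 0x0,
nat_lit 0x0,
nat_lit 0x0,
nat_lit 0x0,
nat_lit 0x0,
nat_lit 0x0,
nat_lit 0x0,
nat_lit 0x0,
nat_lit 0x0,
nat_lit 0x0,
nat_lit 0x0,
nat_lit 0x0,
nat_lit 0x0,
nat_lit 0x0,
nat_lit 0x0,
nat_lit 0x0,
nat_lit 0x0,
nat_lit 0x0,
nat_lit 0x0,
nat_lit 0x0,
nat_lit 0x0,
nat_lit 0x0,
nat_lit 0x0,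
nat_lit 0x0,
nat_lit 0x0,
nat_lit 0x0,
nat_lit 0x0,
nat_lit 0x0,
nat_lit 0x0,
nat_lit 0x0,
nat_lit 0x0,
nat_lit 0x0,
nat_lit 0x0,
nat_lit 0x0,
nat_lit 0x0,
nat_lit 0x0,
nat_lit 0x0,
nat_lit 0x0,
nat_lit 0x0,
nat_lit 0x0,
nat_lit 0x0,
nat_lit 0x0,
nat_lit 0x0,
nat_lit 0x0,
nat_lit 0x0,
nat_lit 0x0,
nat_lit 0x0,
nat_lit 0x0,
nat_lit 0x0,
nat_lit 0x0,
nat_lit 0x0,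
nat_lit 0x0,
nat_lit 0x0,
nat_lit 0x0,
nat_lit 0x0,
nat_lit 0x0,
nat_lit 0x0,
nat_lit 0x0,
nat_lit 0x0,
nat_lit 0x0,
nat_lit 0x0,
nat_lit 0x0,
nat_lit 0x0,
nat_lit 0x0,
nat_lit 0x0,
nat_lit 0x0,
nat_lit 0x0,
nat_lit 0x0,
nat_lit 0x0,
nat_lit 0x0,
nat_lit 0x0,
nat_lit 0x0,
nat_lit 0x0,
nat_lit 0x0,
nat_lit 0x0,
nat_lit 0x0,
nat_lit 0x0,
nat_lit 0x0,
nat_lit 0x0,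
nat_lit 0x0,
nat_lit 0x0,
nat_lit 0x0,
nat_lit 0x0,
nat_lit 0x0,
nat_lit 0x0,
nat_lit 0x0,
nat_lit 0x0,
nat_lit 0x0,
nat_lit 0x0,
nat_lit 0x0,
nat_lit 0x0,
nat_lit 0x0,
nat_lit 0x0,
nat_lit 0x0,
nat_lit 0x0,
nat_lit 0x0,
nat_lit 0x0,
nat_lit 0x0,
nat_lit 0x0,
nat_lit 0x0,
nat_lit 0x0,
nat_lit 0x0,
nat_lit 0x0,
nat_lit 0x0,
nat_lit 0x0,
nat_lit 0x0,
nat_lit 0x0,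
nat_lit 0x0,
nat_lit 0x0,
nat_lit 0x0,
nat_lit 0x0,
nat_lit 0x0,
nat_lit 0x0,
nat_lit 0x0,
nat_lit 0x0,
nat_lit 0x0,
nat_lit 0x0,
nat_lit 0x0,
nat_lit 0x0,
nat_lit 0x0,
nat_lit 0x0,
nat_lit 0x0,
nat_lit 0x0,
nat_lit 0x0,
nat_lit 0x0,
nat_lit 0x0,
nat_lit 0x0,
nat_lit 0x0,
nat_lit 0x0,
nat_lit 0x0,
nat_lit 0x0,
nat_lit 0x0,
nat_lit 0x0,
nat_lit 0x0,
nat_lit 0x0,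
nat_lit 0x0,
nat_lit 0x0,
nat_lit 0x0,
nat_lit 0x0,
nat_lit 0x0,
nat_lit 0x0,
nat_lit 0x0,
nat_lit 0x0,
nat_lit 0x0,
nat_lit 0x0,
nat_lit 0x0,
nat_lit 0x0,
nat_lit 0x0,
nat_lit 0x0,
nat_lit 0x0,
nat_lit 0x0,
nat_lit 0x0,
nat_lit 0x0,
nat_lit 0x0,
nat_lit 0x0,
nat_lit 0x0,
nat_lit 0x0,
nat_lit 0x0,
nat_lit 0x0,
nat_lit 0x0,
nat_lit 0x0,
nat_lit 0x0,
nat_lit 0x0,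
nat_lit 0x0,
nat_lit 0x0,
nat_lit 0x0,
nat_lit 0x0,
nat_lit 0x0,
nat_lit 0x0,
nat_lit 0x0,
nat_lit 0x0,
nat_lit 0x0,
nat_lit 0x0,
nat_lit 0x0]

theorem facts_ok2048 : checkFacts facts 18364758544493064720 words 128 subs 49982 items2048 2048 = true := by decide +kernel

noncomputable def items2560 : List ℕ := [
nat_lit 0x0,
nat_lit 0x0,
nat_lit 0x0,
nat_lit 0x0,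
nat_lit 0x0,
nat_lit 0x0,
nat_lit 0x0,
nat_lit 0x0,
nat_lit 0x0,
nat_lit 0x0,
nat_lit 0x0,
nat_lit 0x0,
nat_lit 0x0,
nat_lit 0x0,
nat_lit 0x0,
nat_lit 0x0,
nat_lit 0x0,
nat_lit 0x0,
nat_lit 0x0,
nat_lit 0x0,
nat_lit 0x0,
nat_lit 0x0,
nat_lit 0x0,
nat_lit 0x0,
nat_lit 0x0,
nat_lit 0x0,
nat_lit 0x0,
nat_lit 0x0,
nat_lit 0x0,
nat_lit 0x0,
nat_lit 0x0,
nat_lit 0x0,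
nat_lit 0x0,
nat_lit 0x0,
nat_lit 0x0,
nat_lit 0x0,
nat_lit 0x0,
nat_lit 0x0,
nat_lit 0x0,
nat_lit 0x0,
nat_lit 0x0,
nat_lit 0x0,
nat_lit 0x0,
nat_lit 0x0,
nat_lit 0x0,
nat_lit 0x0,
nat_lit 0x0,
nat_lit 0x0,
nat_lit 0x0,
nat_lit 0x0,
nat_lit 0x0,
nat_lit 0x0,
nat_lit 0x0,
nat_lit 0x0,
nat_lit 0x0,
nat_lit 0x0,
nat_lit 0x0,
nat_lit 0x0,
nat_lit 0x0,
nat_lit 0x0,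
nat_lit 0x0,
nat_lit 0x0,
nat_lit 0x0,
nat_lit 0x0,
nat_lit 0x0,
nat_lit 0x0,
nat_lit 0x0,
nat_lit 0x0,
nat_lit 0x0,
nat_lit 0x0,
nat_lit 0x0,
nat_lit 0x0,
nat_lit 0x0,
nat_lit 0x0,
nat_lit 0x0,
nat_lit 0x0,
nat_lit 0x0,
nat_lit 0x0,
nat_lit 0x0,
nat_lit 0x0,
nat_lit 0x0,
nat_lit 0x0,
nat_lit 0x0,
nat_lit 0x0,
nat_lit 0x0,
nat_lit 0x0,
nat_lit 0x0,
nat_lit 0x0,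
nat_lit 0x0,
nat_lit 0x0,
nat_lit 0x0,
nat_lit 0x0,
nat_lit 0x0,
nat_lit 0x0,
nat_lit 0x0,
nat_lit 0x0,
nat_lit 0x0,
nat_lit 0x0,
nat_lit 0x0,
nat_lit 0x0,
nat_lit 0x0,
nat_lit 0x0,
nat_lit 0x0,
nat_lit 0x0,
nat_lit 0x0,
nat_lit 0x0,
nat_lit 0x0,
nat_lit 0x0,
nat_lit 0x0,
nat_lit 0x0,
nat_lit 0x0,
nat_lit 0x0,
nat_lit 0x0,
nat_lit 0x0,
nat_lit 0x0,
nat_lit 0x0,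
nat_lit 0x0,
nat_lit 0x0,
nat_lit 0x0,
nat_lit 0x0,
nat_lit 0x0,
nat_lit 0x0,
nat_lit 0x0,
nat_lit 0x0,
nat_lit 0x0,
nat_lit 0x0,
nat_lit 0x0,
nat_lit 0x0,
nat_lit 0x0,
nat_lit 0x0,
nat_lit 0x0,
nat_lit 0x0,
nat_lit 0x0,
nat_lit 0x0,
nat_lit 0x0,
nat_lit 0x0,
nat_lit 0x0,
nat_lit 0x0,
nat_lit 0x0,
nat_lit 0x0,
nat_lit 0x0,
nat_lit 0x0,
nat_lit 0x0,
nat_lit 0x0,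
nat_lit 0x0,
nat_lit 0x0,
nat_lit 0x0,
nat_lit 0x0,
nat_lit 0x0,
nat_lit 0x0,
nat_lit 0x0,
nat_lit 0x0,
nat_lit 0x0,
nat_lit 0x0,
nat_lit 0x0,
nat_lit 0x0,
nat_lit 0x0,
nat_lit 0x0,
nat_lit 0x0,
nat_lit 0x0,
nat_lit 0x0,
nat_lit 0x0,
nat_lit 0x0,
nat_lit 0x0,
nat_lit 0x0,
nat_lit 0x0,
nat_lit 0x0,
nat_lit 0x0,
nat_lit 0x0,
nat_lit 0x0,
nat_lit 0x0,
nat_lit 0x0,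
nat_lit 0x0,
nat_lit 0x0,
nat_lit 0x0,
nat_lit 0x0,
nat_lit 0x0,
nat_lit 0x0,
nat_lit 0x0,
nat_lit 0x0,
nat_lit 0x0,
nat_lit 0x0,
nat_lit 0x0,
nat_lit 0x0,
nat_lit 0x0,
nat_lit 0x0,
nat_lit 0x0,
nat_lit 0x0,
nat_lit 0x0,
nat_lit 0x0,
nat_lit 0x0,
nat_lit 0x0,
nat_lit 0x0,
nat_lit 0x0,
nat_lit 0x0,
nat_lit 0x0,
nat_lit 0x0,
nat_lit 0x0,
nat_lit 0x0,
nat_lit 0x0,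
nat_lit 0x0,
nat_lit 0x0,
nat_lit 0x0,
nat_lit 0x0,
nat_lit 0x0,
nat_lit 0x0,
nat_lit 0x0,
nat_lit 0x0,
nat_lit 0x0,
nat_lit 0x0,
nat_lit 0x0,
nat_lit 0x0,
nat_lit 0x0,
nat_lit 0x0,
nat_lit 0x0,
nat_lit 0x0,
nat_lit 0x0,
nat_lit 0x0,
nat_lit 0x0,
nat_lit 0x0,
nat_lit 0x0,
nat_lit 0x0,
nat_lit 0x0,
nat_lit 0x0,
nat_lit 0x0,
nat_lit 0x0,
nat_lit 0x0,
nat_lit 0x0,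
nat_lit 0x0,
nat_lit 0x0,
nat_lit 0x0,
nat_lit 0x0,
nat_lit 0x0,
nat_lit 0x0,
nat_lit 0x0,
nat_lit 0x0,
nat_lit 0x0,
nat_lit 0x0,
nat_lit 0x0,
nat_lit 0x0,
nat_lit 0x0,
nat_lit 0x0,
nat_lit 0x0,
nat_lit 0x0,
nat_lit 0x0,
nat_lit 0x0,
nat_lit 0x0,
nat_lit 0x0,
nat_lit 0x0,
nat_lit 0x0,
nat_lit 0x0,
nat_lit 0x0,
nat_lit 0x0,
nat_lit 0x0,
nat_lit 0x0,
nat_lit 0x0,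
nat_lit 0x0,
nat_lit 0x0,
nat_lit 0x0,
nat_lit 0x0,
nat_lit 0x0,
nat_lit 0x0,
nat_lit 0x0,
nat_lit 0x0,
nat_lit 0x0,
nat_lit 0x0,
nat_lit 0x0,
nat_lit 0x0,
nat_lit 0x0,
nat_lit 0x0,
nat_lit 0x0,
nat_lit 0x0,
nat_lit 0x0,
nat_lit 0x0,
nat_lit 0x0,
nat_lit 0x0,
nat_lit 0x0,
nat_lit 0x0,
nat_lit 0x0,
nat_lit 0x0,
nat_lit 0x0,
nat_lit 0x0,
nat_lit 0x0,
nat_lit 0x0,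
nat_lit 0x0,
nat_lit 0x0,
nat_lit 0x0,
nat_lit 0x0,
nat_lit 0x0,
nat_lit 0x0,
nat_lit 0x0,
nat_lit 0x0,
nat_lit 0x0,
nat_lit 0x0,
nat_lit 0x0,
nat_lit 0x0,
nat_lit 0x0,
nat_lit 0x0,
nat_lit 0x0,
nat_lit 0x0,
nat_lit 0x0,
nat_lit 0x0,
nat_lit 0x0,
nat_lit 0x0,
nat_lit 0x0,
nat_lit 0x0,
nat_lit 0x0,
nat_lit 0x0,
nat_lit 0x0,
nat_lit 0x0,
nat_lit 0x0,
nat_lit 0x0,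
nat_lit 0x0,
nat_lit 0x0,
nat_lit 0x0,
nat_lit 0x0,
nat_lit 0x0,
nat_lit 0x0,
nat_lit 0x0,
nat_lit 0x0,
nat_lit 0x0,
nat_lit 0x0,
nat_lit 0x0,
nat_lit 0x0,
nat_lit 0x0,
nat_lit 0x0,
nat_lit 0x0,
nat_lit 0x0,
nat_lit 0x0,
nat_lit 0x0,
nat_lit 0x0,
nat_lit 0x0,
nat_lit 0x0,
nat_lit 0x0,
nat_lit 0x0,
nat_lit 0x0,
nat_lit 0x0,
nat_lit 0x0,
nat_lit 0x0,
nat_lit 0x0,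
nat_lit 0x0,
nat_lit 0x0,
nat_lit 0x0,
nat_lit 0x0,
nat_lit 0x0,
nat_lit 0x0,
nat_lit 0x0,
nat_lit 0x0,
nat_lit 0x0,
nat_lit 0x0,
nat_lit 0x0,
nat_lit 0x0,
nat_lit 0x0,
nat_lit 0x0,
nat_lit 0x0,
nat_lit 0x0,
nat_lit 0x0,
nat_lit 0x0,
nat_lit 0x0,
nat_lit 0x0,
nat_lit 0x0,
nat_lit 0x0,
nat_lit 0x0,
nat_lit 0x0,
nat_lit 0x0,
nat_lit 0x0,
nat_lit 0x0,
nat_lit 0x0,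
nat_lit 0x0,
nat_lit 0x0,
nat_lit 0x0,
nat_lit 0x0,
nat_lit 0x0,
nat_lit 0x0,
nat_lit 0x0,
nat_lit 0x0,
nat_lit 0x0,
nat_lit 0x0,
nat_lit 0x0,
nat_lit 0x0,
nat_lit 0x0,
nat_lit 0x0,
nat_lit 0x0,
nat_lit 0x0,
nat_lit 0x0,
nat_lit 0x0,
nat_lit 0x0,
nat_lit 0x0,
nat_lit 0x0,
nat_lit 0x0,
nat_lit 0x0,
nat_lit 0x0,
nat_lit 0x0,
nat_lit 0x0,
nat_lit 0x0,
nat_lit 0x0,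
nat_lit 0x0,
nat_lit 0x0,
nat_lit 0x0,
nat_lit 0x0,
nat_lit 0x0,
nat_lit 0x0,
nat_lit 0x0,
nat_lit 0x0,
nat_lit 0x0,
nat_lit 0x0,
nat_lit 0x0,
nat_lit 0x0,
nat_lit 0x0,
nat_lit 0x0,
nat_lit 0x0,
nat_lit 0x0,
nat_lit 0x0,
nat_lit 0x0,
nat_lit 0x0,
nat_lit 0x0,
nat_lit 0x0,
nat_lit 0x0,
nat_lit 0x0,
nat_lit 0x0,
nat_lit 0x0,
nat_lit 0x0,
nat_lit 0x0,
nat_lit 0x0,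
nat_lit 0x0,
nat_lit 0x0,
nat_lit 0x0,
nat_lit 0x0,
nat_lit 0x0,
nat_lit 0x0,
nat_lit 0x0,
nat_lit 0x0,
nat_lit 0x0,
nat_lit 0x0,
nat_lit 0x0,
nat_lit 0x0,
nat_lit 0x0,
nat_lit 0x0,
nat_lit 0x0,
nat_lit 0x0,
nat_lit 0x0,
nat_lit 0x0,
nat_lit 0x0,
nat_lit 0x0,
nat_lit 0x0,
nat_lit 0x0,
nat_lit 0x0,
nat_lit 0x0,
nat_lit 0x0,
nat_lit 0x0,
nat_lit 0x0,
nat_lit 0x0,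
nat_lit 0x0,
nat_lit 0x0,
nat_lit 0x0,
nat_lit 0x0,
nat_lit 0x0,
nat_lit 0x0,
nat_lit 0x0,
nat_lit 0x0,
nat_lit 0x0,
nat_lit 0x0,
nat_lit 0x0,
nat_lit 0x0,
nat_lit 0x0,
nat_lit 0x0,
nat_lit 0x0,
nat_lit 0x0,
nat_lit 0x0,
nat_lit 0x0,
nat_lit 0x0,
nat_lit 0x0,
nat_lit 0x0,
nat_lit 0x0,
nat_lit 0x0,
nat_lit 0x0,
nat_lit 0x0,
nat_lit 0x0,
nat_lit 0x0,
nat_lit 0x0,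
nat_lit 0x0,
nat_lit 0x0,
nat_lit 0x0,
nat_lit 0x0,
nat_lit 0x0,
nat_lit 0x0,
nat_lit 0x0,
nat_lit 0x0,
nat_lit 0x0,
nat_lit 0x0,
nat_lit 0x0,
nat_lit 0x0,
nat_lit 0x0,
nat_lit 0x0,
nat_lit 0x0,
nat_lit 0x0,
nat_lit 0x0,
nat_lit 0x0,
nat_lit 0x0,
nat_lit 0x0,
nat_lit 0x0,
nat_lit 0x0,
nat_lit 0x0,
nat_lit 0x0,
nat_lit 0x0,
nat_lit 0x0,
nat_lit 0x0,
nat_lit 0x0,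
nat_lit 0x0,
nat_lit 0x0,
nat_lit 0x0,
nat_lit 0x0]

theorem facts_ok2560 : checkFacts facts 18364758544493064720 words 128 subs 49982 items2560 2560 = true := by decide +kernel

noncomputable def items3072 : List ℕ := [
nat_lit 0x0,
nat_lit 0x0,
nat_lit 0x0,
nat_lit 0x0,
nat_lit 0x0,
nat_lit 0x0,
nat_lit 0x0,
nat_lit 0x0,
nat_lit 0x0,
nat_lit 0x0,
nat_lit 0x0,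
nat_lit 0x0,
nat_lit 0x0,
nat_lit 0x0,
nat_lit 0x0,
nat_lit 0x0,
nat_lit 0x0,
nat_lit 0x0,
nat_lit 0x0,
nat_lit 0x0,
nat_lit 0x0,
nat_lit 0x0,
nat_lit 0x0,
nat_lit 0x0,
nat_lit 0x0,
nat_lit 0x0,
nat_lit 0x0,
nat_lit 0x0,
nat_lit 0x0,
nat_lit 0x0,
nat_lit 0x0,
nat_lit 0x0,
nat_lit 0x0,
nat_lit 0x0,
nat_lit 0x0,
nat_lit 0x0,
nat_lit 0x0,
nat_lit 0x0,
nat_lit 0x0,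
nat_lit 0x0,
nat_lit 0x0,
nat_lit 0x0,
nat_lit 0x0,
nat_lit 0x0,
nat_lit 0x0,
nat_lit 0x0,
nat_lit 0x0,
nat_lit 0x0,
nat_lit 0x0,
nat_lit 0x0,
nat_lit 0x0,
nat_lit 0x0,
nat_lit 0x0,
nat_lit 0x0,
nat_lit 0x0,
nat_lit 0x0,
nat_lit 0x0,
nat_lit 0x0,
nat_lit 0x0,
nat_lit 0x0,
nat_lit 0x0,
nat_lit 0x0,
nat_lit 0x0,
nat_lit 0x0,
nat_lit 0x0,
nat_lit 0x0,
nat_lit 0x0,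
nat_lit 0x0,
nat_lit 0x0,
nat_lit 0x0,
nat_lit 0x0,
nat_lit 0x0,
nat_lit 0x0,
nat_lit 0x0,
nat_lit 0x0,
nat_lit 0x0,
nat_lit 0x0,
nat_lit 0x0,
nat_lit 0x0,
nat_lit 0x0,
nat_lit 0x0,
nat_lit 0x0,
nat_lit 0x0,
nat_lit 0x0,
nat_lit 0x0,
nat_lit 0x0,
nat_lit 0x0,
nat_lit 0x0,
nat_lit 0x0,
nat_lit 0x0,
nat_lit 0x0,
nat_lit 0x0,
nat_lit 0x0,
nat_lit 0x0,
nat_lit 0x0,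
nat_lit 0x0,
nat_lit 0x0,
nat_lit 0x0,
nat_lit 0x0,
nat_lit 0x0,
nat_lit 0x0,
nat_lit 0x0,
nat_lit 0x0,
nat_lit 0x0,
nat_lit 0x0,
nat_lit 0x0,
nat_lit 0x0,
nat_lit 0x0,
nat_lit 0x0,
nat_lit 0x0,
nat_lit 0x0,
nat_lit 0x0,
nat_lit 0x0,
nat_lit 0x0,
nat_lit 0x0,
nat_lit 0x0,
nat_lit 0x0,
nat_lit 0x0,
nat_lit 0x0,
nat_lit 0x0,
nat_lit 0x0,
nat_lit 0x0,
nat_lit 0x0,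
nat_lit 0x0,
nat_lit 0x0,
nat_lit 0x0,
nat_lit 0x0,
nat_lit 0x0,
nat_lit 0x0,
nat_lit 0x0,
nat_lit 0x0,
nat_lit 0x0,
nat_lit 0x0,
nat_lit 0x0,
nat_lit 0x0,
nat_lit 0x0,
nat_lit 0x0,
nat_lit 0x0,
nat_lit 0x0,
nat_lit 0x0,
nat_lit 0x0,
nat_lit 0x0,
nat_lit 0x0,
nat_lit 0x0,
nat_lit 0x0,
nat_lit 0x0,
nat_lit 0x0,
nat_lit 0x0,
nat_lit 0x0,
nat_lit 0x0,
nat_lit 0x0,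
nat_lit 0x0,
nat_lit 0x0,
nat_lit 0x0,
nat_lit 0x0,
nat_lit 0x0,
nat_lit 0x0,
nat_lit 0x0,
nat_lit 0x0,
nat_lit 0x0,
nat_lit 0x0,
nat_lit 0x0,
nat_lit 0x0,
nat_lit 0x0,
nat_lit 0x0,
nat_lit 0x0,
nat_lit 0x0,
nat_lit 0x0,
nat_lit 0x0,
nat_lit 0x0,
nat_lit 0x0,
nat_lit 0x0,
nat_lit 0x0,
nat_lit 0x0,
nat_lit 0x0,
nat_lit 0x0,
nat_lit 0x0,
nat_lit 0x0,
nat_lit 0x0,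
nat_lit 0x0,
nat_lit 0x0,
nat_lit 0x0,
nat_lit 0x0,
nat_lit 0x0,
nat_lit 0x0,
nat_lit 0x0,
nat_lit 0x0,
nat_lit 0x0,
nat_lit 0x0,
nat_lit 0x0,
nat_lit 0x0,
nat_lit 0x0,
nat_lit 0x0,
nat_lit 0x0,
nat_lit 0x0,
nat_lit 0x0,
nat_lit 0x0,
nat_lit 0x0,
nat_lit 0x0,
nat_lit 0x0,
nat_lit 0x0,
nat_lit 0x0,
nat_lit 0x0,
nat_lit 0x0,
nat_lit 0x0,
nat_lit 0x0,
nat_lit 0x0,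
nat_lit 0x0,
nat_lit 0x0,
nat_lit 0x0,
nat_lit 0x0,
nat_lit 0x0,
nat_lit 0x0,
nat_lit 0x0,
nat_lit 0x0,
nat_lit 0x0,
nat_lit 0x0,
nat_lit 0x0,
nat_lit 0x0,
nat_lit 0x0,
nat_lit 0x0,
nat_lit 0x0,
nat_lit 0x0,
nat_lit 0x0,
nat_lit 0x0,
nat_lit 0x0,
nat_lit 0x0,
nat_lit 0x0,
nat_lit 0x0,
nat_lit 0x0,
nat_lit 0x0,
nat_lit 0x0,
nat_lit 0x0,
nat_lit 0x0,
nat_lit 0x0,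
nat_lit 0x0,
nat_lit 0x0,
nat_lit 0x0,
nat_lit 0x0,
nat_lit 0x0,
nat_lit 0x0,
nat_lit 0x0,
nat_lit 0x0,
nat_lit 0x0,
nat_lit 0x0,
nat_lit 0x0,
nat_lit 0x0,
nat_lit 0x0,
nat_lit 0x0,
nat_lit 0x0,
nat_lit 0x0,
nat_lit 0x0,
nat_lit 0x0,
nat_lit 0x0,
nat_lit 0x0,
nat_lit 0x0,
nat_lit 0x0,
nat_lit 0x0,
nat_lit 0x0,
nat_lit 0x0,
nat_lit 0x0,
nat_lit 0x0,
nat_lit 0x0,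
nat_lit 0x0,
nat_lit 0x0,
nat_lit 0x0,
nat_lit 0x0,
nat_lit 0x0,
nat_lit 0x0,
nat_lit 0x0,
nat_lit 0x0,
nat_lit 0x0,
nat_lit 0x0,
nat_lit 0x0,
nat_lit 0x0,
nat_lit 0x0,
nat_lit 0x0,
nat_lit 0x0,
nat_lit 0x0,
nat_lit 0x0,
nat_lit 0x0,
nat_lit 0x0,
nat_lit 0x0,
nat_lit 0x0,
nat_lit 0x0,
nat_lit 0x0,
nat_lit 0x0,
nat_lit 0x0,
nat_lit 0x0,
nat_lit 0x0,
nat_lit 0x0,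
nat_lit 0x0,
nat_lit 0x0,
nat_lit 0x0,
nat_lit 0x0,
nat_lit 0x0,
nat_lit 0x0,
nat_lit 0x0,
nat_lit 0x0,
nat_lit 0x0,
nat_lit 0x0,
nat_lit 0x0,
nat_lit 0x0,
nat_lit 0x0,
nat_lit 0x0,
nat_lit 0x0,
nat_lit 0x0,
nat_lit 0x0,
nat_lit 0x0,
nat_lit 0x0,
nat_lit 0x0,
nat_lit 0x0,
nat_lit 0x0,
nat_lit 0x0,
nat_lit 0x0,
nat_lit 0x0,
nat_lit 0x0,
nat_lit 0x0,
nat_lit 0x0,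
nat_lit 0x0,
nat_lit 0x0,
nat_lit 0x0,
nat_lit 0x0,
nat_lit 0x0,
nat_lit 0x0,
nat_lit 0x0,
nat_lit 0x0,
nat_lit 0x0,
nat_lit 0x0,
nat_lit 0x0,
nat_lit 0x0,
nat_lit 0x0,
nat_lit 0x0,
nat_lit 0x0,
nat_lit 0x0,
nat_lit 0x0,
nat_lit 0x0,
nat_lit 0x0,
nat_lit 0x0,
nat_lit 0x0,
nat_lit 0x0,
nat_lit 0x0,
nat_lit 0x0,
nat_lit 0x0,
nat_lit 0x0,
nat_lit 0x0,
nat_lit 0x0,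
nat_lit 0x0,
nat_lit 0x0,
nat_lit 0x0,
nat_lit 0x0,
nat_lit 0x0,
nat_lit 0x0,
nat_lit 0x0,
nat_lit 0x0,
nat_lit 0x0,
nat_lit 0x0,
nat_lit 0x0,
nat_lit 0x0,
nat_lit 0x0,
nat_lit 0x0,
nat_lit 0x0,
nat_lit 0x0,
nat_lit 0x0,
nat_lit 0x0,
nat_lit 0x0,
nat_lit 0x0,
nat_lit 0x0,
nat_lit 0x0,
nat_lit 0x0,
nat_lit 0x0,
nat_lit 0x0,
nat_lit 0x0,
nat_lit 0x0,
nat_lit 0x0,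
nat_lit 0x0,
nat_lit 0x0,
nat_lit 0x0,
nat_lit 0x0,
nat_lit 0x0,
nat_lit 0x0,
nat_lit 0x0,
nat_lit 0x0,
nat_lit 0x0,
nat_lit 0x0,
nat_lit 0x0,
nat_lit 0x0,
nat_lit 0x0,
nat_lit 0x0,
nat_lit 0x0,
nat_lit 0x0,
nat_lit 0x0,
nat_lit 0x0,
nat_lit 0x0,
nat_lit 0x0,
nat_lit 0x0,
nat_lit 0x0,
nat_lit 0x0,
nat_lit 0x0,
nat_lit 0x0,
nat_lit 0x0,
nat_lit 0x0,
nat_lit 0x0,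
nat_lit 0x0,
nat_lit 0x0,
nat_lit 0x0,
nat_lit 0x0,
nat_lit 0x0,
nat_lit 0x0,
nat_lit 0x0,
nat_lit 0x0,
nat_lit 0x0,
nat_lit 0x0,
nat_lit 0x0,
nat_lit 0x0,
nat_lit 0x0,
nat_lit 0x0,
nat_lit 0x0,
nat_lit 0x0,
nat_lit 0x0,
nat_lit 0x0,
nat_lit 0x0,
nat_lit 0x0,
nat_lit 0x0,
nat_lit 0x0,
nat_lit 0x0,
nat_lit 0x0,
nat_lit 0x0,
nat_lit 0x0,
nat_lit 0x0,
nat_lit 0x0,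
nat_lit 0x0,
nat_lit 0x0,
nat_lit 0x0,
nat_lit 0x0,
nat_lit 0x0,
nat_lit 0x0,
nat_lit 0x0,
nat_lit 0x0,
nat_lit 0x0,
nat_lit 0x0,
nat_lit 0x0,
nat_lit 0x0,
nat_lit 0x0,
nat_lit 0x0,
nat_lit 0x0,
nat_lit 0x0,
nat_lit 0x0,
nat_lit 0x0,
nat_lit 0x0,
nat_lit 0x0,
nat_lit 0x0,
nat_lit 0x0,
nat_lit 0x0,
nat_lit 0x0,
nat_lit 0x0,
nat_lit 0x0,
nat_lit 0x0,
nat_lit 0x0,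
nat_lit 0x0,
nat_lit 0x0,
nat_lit 0x0,
nat_lit 0x0,
nat_lit 0x0,
nat_lit 0x0,
nat_lit 0x0,
nat_lit 0x0,
nat_lit 0x0,
nat_lit 0x0,
nat_lit 0x0,
nat_lit 0x0,
nat_lit 0x0,
nat_lit 0x0,
nat_lit 0x0,
nat_lit 0x0,
nat_lit 0x0,
nat_lit 0x0,
nat_lit 0x0,
nat_lit 0x0,
nat_lit 0x0,
nat_lit 0x0,
nat_lit 0x0,
nat_lit 0x0,
nat_lit 0x0,
nat_lit 0x0,
nat_lit 0x0,
nat_lit 0x0,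
nat_lit 0x0,
nat_lit 0x0,
nat_lit 0x0,
nat_lit 0x0,
nat_lit 0x0,
nat_lit 0x0,
nat_lit 0x0,
nat_lit 0x0,
nat_lit 0x0,
nat_lit 0x0,
nat_lit 0x0,
nat_lit 0x0,
nat_lit 0x0,
nat_lit 0x0,
nat_lit 0x0,
nat_lit 0x0,
nat_lit 0x0,
nat_lit 0x0,
nat_lit 0x0,
nat_lit 0x0,
nat_lit 0x0,
nat_lit 0x0,
nat_lit 0x0,
nat_lit 0x0,
nat_lit 0x0]

theorem facts_ok3072 : checkFacts facts 18364758544493064720 words 128 subs 49982 items3072 3072 = true := by decide +kernel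

noncomputable def items3584 : List ℕ := [
nat_lit 0x0,
nat_lit 0x0,
nat_lit 0x0,
nat_lit 0x0,
nat_lit 0x0,
nat_lit 0x0,
nat_lit 0x0,
nat_lit 0x0,
nat_lit 0x0,
nat_lit 0x0,
nat_lit 0x0,
nat_lit 0x0,
nat_lit 0x0,
nat_lit 0x0,
nat_lit 0x0,
nat_lit 0x0,
nat_lit 0x0,
nat_lit 0x0,
nat_lit 0x0,
nat_lit 0x0,
nat_lit 0x0,
nat_lit 0x0,
nat_lit 0x0,
nat_lit 0x0,
nat_lit 0x0,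
nat_lit 0x0,
nat_lit 0x0,
nat_lit 0x0,
nat_lit 0x0,
nat_lit 0x0,
nat_lit 0x0,
nat_lit 0x0,
nat_lit 0x0,
nat_lit 0x0,
nat_lit 0x0,
nat_lit 0x0,
nat_lit 0x0,
nat_lit 0x0,
nat_lit 0x0,
nat_lit 0x0,
nat_lit 0x0,
nat_lit 0x0,
nat_lit 0x0,
nat_lit 0x0,
nat_lit 0x0,
nat_lit 0x0,
nat_lit 0x0,
nat_lit 0x0,
nat_lit 0x0,
nat_lit 0x0,
nat_lit 0x0,
nat_lit 0x0,
nat_lit 0x0,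
nat_lit 0x0,
nat_lit 0x0,
nat_lit 0x0,
nat_lit 0x0,
nat_lit 0x0,
nat_lit 0x0,
nat_lit 0x0,
nat_lit 0x0,
nat_lit 0x0,
nat_lit 0x0,
nat_lit 0x0,
nat_lit 0x0,
nat_lit 0x0,
nat_lit 0x0,
nat_lit 0x0,
nat_lit 0x0,
nat_lit 0x0,
nat_lit 0x0,
nat_lit 0x0,
nat_lit 0x0,
nat_lit 0x0,
nat_lit 0x0,
nat_lit 0x0,
nat_lit 0x0,
nat_lit 0x0,
nat_lit 0x0,
nat_lit 0x0,
nat_lit 0x0,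
nat_lit 0x0,
nat_lit 0x0,
nat_lit 0x0,
nat_lit 0x0,
nat_lit 0x0,
nat_lit 0x0,
nat_lit 0x0,
nat_lit 0x0,
nat_lit 0x0,
nat_lit 0x0,
nat_lit 0x0,
nat_lit 0x0,
nat_lit 0x0,
nat_lit 0x0,
nat_lit 0x0,
nat_lit 0x0,
nat_lit 0x0,
nat_lit 0x0,
nat_lit 0x0,
nat_lit 0x0,
nat_lit 0x0,
nat_lit 0x0,
nat_lit 0x0,
nat_lit 0x0,
nat_lit 0x0,
nat_lit 0x0,
nat_lit 0x0,
nat_lit 0x0,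
nat_lit 0x0,
nat_lit 0x0,
nat_lit 0x0,
nat_lit 0x0,
nat_lit 0x0,
nat_lit 0x0,
nat_lit 0x0,
nat_lit 0x0,
nat_lit 0x0,
nat_lit 0x0,
nat_lit 0x0,
nat_lit 0x0,
nat_lit 0x0,
nat_lit 0x0,
nat_lit 0x0,
nat_lit 0x0,
nat_lit 0x0,
nat_lit 0x0,
nat_lit 0x0,
nat_lit 0x0,
nat_lit 0x0,
nat_lit 0x0,
nat_lit 0x0,
nat_lit 0x0,
nat_lit 0x0,
nat_lit 0x0,
nat_lit 0x0,
nat_lit 0x0,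
nat_lit 0x0,
nat_lit 0x0,
nat_lit 0x0,
nat_lit 0x0,
nat_lit 0x0,
nat_lit 0x0,
nat_lit 0x0,
nat_lit 0x0,
nat_lit 0x0,
nat_lit 0x0,
nat_lit 0x0,
nat_lit 0x0,
nat_lit 0x0,
nat_lit 0x0,
nat_lit 0x0,
nat_lit 0x0,
nat_lit 0x0,
nat_lit 0x0,
nat_lit 0x0,
nat_lit 0x0,
nat_lit 0x0,
nat_lit 0x0,
nat_lit 0x0,
nat_lit 0x0,
nat_lit 0x0,
nat_lit 0x0,
nat_lit 0x0,
nat_lit 0x0,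
nat_lit 0x0,
nat_lit 0x0,
nat_lit 0x0,
nat_lit 0x0,
nat_lit 0x0,
nat_lit 0x0,
nat_lit 0x0,
nat_lit 0x0,
nat_lit 0x0,
nat_lit 0x0,
nat_lit 0x0,
nat_lit 0x0,
nat_lit 0x0,
nat_lit 0x0,
nat_lit 0x0,
nat_lit 0x0,
nat_lit 0x0,
nat_lit 0x0,
nat_lit 0x0,
nat_lit 0x0,
nat_lit 0x0,
nat_lit 0x0,
nat_lit 0x0,
nat_lit 0x0,
nat_lit 0x0,
nat_lit 0x0,
nat_lit 0x0,
nat_lit 0x0,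
nat_lit 0x0,
nat_lit 0x0,
nat_lit 0x0,
nat_lit 0x0,
nat_lit 0x0,
nat_lit 0x0,
nat_lit 0x0,
nat_lit 0x0,
nat_lit 0x0,
nat_lit 0x0,
nat_lit 0x0,
nat_lit 0x0,
nat_lit 0x0,
nat_lit 0x0,
nat_lit 0x0,
nat_lit 0x0,
nat_lit 0x0,
nat_lit 0x0,
nat_lit 0x0,
nat_lit 0x0,
nat_lit 0x0,
nat_lit 0x0,
nat_lit 0x0,
nat_lit 0x0,
nat_lit 0x0,
nat_lit 0x0,
nat_lit 0x0,
nat_lit 0x0,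
nat_lit 0x0,
nat_lit 0x0,
nat_lit 0x0,
nat_lit 0x0,
nat_lit 0x0,
nat_lit 0x0,
nat_lit 0x0,
nat_lit 0x0,
nat_lit 0x0,
nat_lit 0x0,
nat_lit 0x0,
nat_lit 0x0,
nat_lit 0x0,
nat_lit 0x0,
nat_lit 0x0,
nat_lit 0x0,
nat_lit 0x0,
nat_lit 0x0,
nat_lit 0x0,
nat_lit 0x0,
nat_lit 0x0,
nat_lit 0x0,
nat_lit 0x0,
nat_lit 0x0,
nat_lit 0x0,
nat_lit 0x0,
nat_lit 0x0,
nat_lit 0x0,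
nat_lit 0x0,
nat_lit 0x0,
nat_lit 0x0,
nat_lit 0x0,
nat_lit 0x0,
nat_lit 0x0,
nat_lit 0x0,
nat_lit 0x0,
nat_lit 0x0,
nat_lit 0x0,
nat_lit 0x0,
nat_lit 0x0,
nat_lit 0x0,
nat_lit 0x0,
nat_lit 0x0,
nat_lit 0x0,
nat_lit 0x0,
nat_lit 0x0,
nat_lit 0x0,
nat_lit 0x0,
nat_lit 0x0,
nat_lit 0x0,
nat_lit 0x0,
nat_lit 0x0,
nat_lit 0x0,
nat_lit 0x0,
nat_lit 0x0,
nat_lit 0x0,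
nat_lit 0x0,
nat_lit 0x0,
nat_lit 0x0,
nat_lit 0x0,
nat_lit 0x0,
nat_lit 0x0,
nat_lit 0x0,
nat_lit 0x0,
nat_lit 0x0,
nat_lit 0x0,
nat_lit 0x0,
nat_lit 0x0,
nat_lit 0x0,
nat_lit 0x0,
nat_lit 0x0,
nat_lit 0x0,
nat_lit 0x0,
nat_lit 0x0,
nat_lit 0x0,
nat_lit 0x0,
nat_lit 0x0,
nat_lit 0x0,
nat_lit 0x0,
nat_lit 0x0,
nat_lit 0x0,
nat_lit 0x0,
nat_lit 0x0,
nat_lit 0x0,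
nat_lit 0x0,
nat_lit 0x0,
nat_lit 0x0,
nat_lit 0x0,
nat_lit 0x0,
nat_lit 0x0,
nat_lit 0x0,
nat_lit 0x0,
nat_lit 0x0,
nat_lit 0x0,
nat_lit 0x0,
nat_lit 0x0,
nat_lit 0x0,
nat_lit 0x0,
nat_lit 0x0,
nat_lit 0x0,
nat_lit 0x0,
nat_lit 0x0,
nat_lit 0x0,
nat_lit 0x0,
nat_lit 0x0,
nat_lit 0x0,
nat_lit 0x0,
nat_lit 0x0,
nat_lit 0x0,
nat_lit 0x0,
nat_lit 0x0,
nat_lit 0x0,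
nat_lit 0x0,
nat_lit 0x0,
nat_lit 0x0,
nat_lit 0x0,
nat_lit 0x0,
nat_lit 0x0,
nat_lit 0x0,
nat_lit 0x0,
nat_lit 0x0,
nat_lit 0x0,
nat_lit 0x0,
nat_lit 0x0,
nat_lit 0x0,
nat_lit 0x0,
nat_lit 0x0,
nat_lit 0x0,
nat_lit 0x0,
nat_lit 0x0,
nat_lit 0x0,
nat_lit 0x0,
nat_lit 0x0,
nat_lit 0x0,
nat_lit 0x0,
nat_lit 0x0,
nat_lit 0x0,
nat_lit 0x0,
nat_lit 0x0,
nat_lit 0x0,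
nat_lit 0x0,
nat_lit 0x0,
nat_lit 0x0,
nat_lit 0x0,
nat_lit 0x0,
nat_lit 0x0,
nat_lit 0x0,
nat_lit 0x0,
nat_lit 0x0,
nat_lit 0x0,
nat_lit 0x0,
nat_lit 0x0,
nat_lit 0x0,
nat_lit 0x0,
nat_lit 0x0,
nat_lit 0x0,
nat_lit 0x0,
nat_lit 0x0,
nat_lit 0x0,
nat_lit 0x0,
nat_lit 0x0,
nat_lit 0x0,
nat_lit 0x0,
nat_lit 0x0,
nat_lit 0x0,
nat_lit 0x0,
nat_lit 0x0,
nat_lit 0x0,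
nat_lit 0x0,
nat_lit 0x0,
nat_lit 0x0,
nat_lit 0x0,
nat_lit 0x0,
nat_lit 0x0,
nat_lit 0x0,
nat_lit 0x0,
nat_lit 0x0,
nat_lit 0x0,
nat_lit 0x0,
nat_lit 0x0,
nat_lit 0x0,
nat_lit 0x0,
nat_lit 0x0,
nat_lit 0x0,
nat_lit 0x0,
nat_lit 0x0,
nat_lit 0x0,
nat_lit 0x0,
nat_lit 0x0,
nat_lit 0x0,
nat_lit 0x0,
nat_lit 0x0,
nat_lit 0x0,
nat_lit 0x0,
nat_lit 0x0,
nat_lit 0x0,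
nat_lit 0x0,
nat_lit 0x0,
nat_lit 0x0,
nat_lit 0x0,
nat_lit 0x0,
nat_lit 0x0,
nat_lit 0x0,
nat_lit 0x0,
nat_lit 0x0,
nat_lit 0x0,
nat_lit 0x0,
nat_lit 0x0,
nat_lit 0x0,
nat_lit 0x0,
nat_lit 0x0,
nat_lit 0x0,
nat_lit 0x0,
nat_lit 0x0,
nat_lit 0x0,
nat_lit 0x0,
nat_lit 0x0,
nat_lit 0x0,
nat_lit 0x0,
nat_lit 0x0,
nat_lit 0x0,
nat_lit 0x0,
nat_lit 0x0,
nat_lit 0x0,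
nat_lit 0x0,
nat_lit 0x0,
nat_lit 0x0,
nat_lit 0x0,
nat_lit 0x0,
nat_lit 0x0,
nat_lit 0x0,
nat_lit 0x0,
nat_lit 0x0,
nat_lit 0x0,
nat_lit 0x0,
nat_lit 0x0,
nat_lit 0x0,
nat_lit 0x0,
nat_lit 0x0,
nat_lit 0x0,
nat_lit 0x0,
nat_lit 0x0,
nat_lit 0x0,
nat_lit 0x0,
nat_lit 0x0,
nat_lit 0x0,
nat_lit 0x0,
nat_lit 0x0,
nat_lit 0x0,
nat_lit 0x0,
nat_lit 0x0,
nat_lit 0x0,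
nat_lit 0x0,
nat_lit 0x0,
nat_lit 0x0,
nat_lit 0x0,
nat_lit 0x0,
nat_lit 0x0,
nat_lit 0x0,
nat_lit 0x0,
nat_lit 0x0,
nat_lit 0x0,
nat_lit 0x0,
nat_lit 0x0,
nat_lit 0x0,
nat_lit 0x0,
nat_lit 0x0,
nat_lit 0x0,
nat_lit 0x0,
nat_lit 0x0,
nat_lit 0x0,
nat_lit 0x0,
nat_lit 0x0,
nat_lit 0x0,
nat_lit 0x0,
nat_lit 0x0,
nat_lit 0x0,
nat_lit 0x0,
nat_lit 0x0,
nat_lit 0x0,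
nat_lit 0x0,
nat_lit 0x0,
nat_lit 0x0,
nat_lit 0x0,
nat_lit 0x0,
nat_lit 0x0,
nat_lit 0x0,
nat_lit 0x0,
nat_lit 0x0,
nat_lit 0x0,
nat_lit 0x0]

theorem facts_ok3584 : checkFacts facts 18364758544493064720 words 128 subs 49982 items3584 3584 = true := by decide +kernel

noncomputable def items4096 : List ℕ := [
nat_lit 0x0,
nat_lit 0x0,
nat_lit 0x0,
nat_lit 0x0,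
nat_lit 0x0,
nat_lit 0x0,
nat_lit 0x0,
nat_lit 0x0,
nat_lit 0x0,
nat_lit 0x0,
nat_lit 0x0,
nat_lit 0x0,
nat_lit 0x0,
nat_lit 0x0,
nat_lit 0x0,
nat_lit 0x0,
nat_lit 0x0,
nat_lit 0x0,
nat_lit 0x0,
nat_lit 0x0,
nat_lit 0x0,
nat_lit 0x0,
nat_lit 0x0,
nat_lit 0x0,
nat_lit 0x0,
nat_lit 0x0,
nat_lit 0x0,
nat_lit 0x0,
nat_lit 0x0,
nat_lit 0x0,
nat_lit 0x0,
nat_lit 0x0,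
nat_lit 0x0,
nat_lit 0x0,
nat_lit 0x0,
nat_lit 0x0,
nat_lit 0x0,
nat_lit 0x0,
nat_lit 0x0,
nat_lit 0x0,
nat_lit 0x0,
nat_lit 0x0,
nat_lit 0x0,
nat_lit 0x0,
nat_lit 0x0,
nat_lit 0x0,
nat_lit 0x0,
nat_lit 0x0,
nat_lit 0x0,
nat_lit 0x0,
nat_lit 0x0,
nat_lit 0x0,
nat_lit 0x0,
nat_lit 0x0,
nat_lit 0x0,
nat_lit 0x0,
nat_lit 0x0,
nat_lit 0x0,
nat_lit 0x0,
nat_lit 0x0,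
nat_lit 0x0,
nat_lit 0x0,
nat_lit 0x0,
nat_lit 0x0,
nat_lit 0x0,
nat_lit 0x0,
nat_lit 0x0,
nat_lit 0x0,
nat_lit 0x0,
nat_lit 0x0,
nat_lit 0x0,
nat_lit 0x0,
nat_lit 0x0,
nat_lit 0x0,
nat_lit 0x0,
nat_lit 0x0,
nat_lit 0x0,
nat_lit 0x0,
nat_lit 0x0,
nat_lit 0x0,
nat_lit 0x0,
nat_lit 0x0,
nat_lit 0x0,
nat_lit 0x0,
nat_lit 0x0,
nat_lit 0x0,
nat_lit 0x0,
nat_lit 0x0,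
nat_lit 0x0,
nat_lit 0x0,
nat_lit 0x0,
nat_lit 0x0,
nat_lit 0x0,
nat_lit 0x0,
nat_lit 0x0,
nat_lit 0x0,
nat_lit 0x0,
nat_lit 0x0,
nat_lit 0x0,
nat_lit 0x0,
nat_lit 0x0,
nat_lit 0x0,
nat_lit 0x0,
nat_lit 0x0,
nat_lit 0x0,
nat_lit 0x0,
nat_lit 0x0,
nat_lit 0x0,
nat_lit 0x0,
nat_lit 0x0,
nat_lit 0x0,
nat_lit 0x0,
nat_lit 0x0,
nat_lit 0x0,
nat_lit 0x0,
nat_lit 0x0,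
nat_lit 0x0,
nat_lit 0x0,
nat_lit 0x0,
nat_lit 0x0,
nat_lit 0x0,
nat_lit 0x0,
nat_lit 0x0,
nat_lit 0x0,
nat_lit 0x0,
nat_lit 0x0,
nat_lit 0x0,
nat_lit 0x0,
nat_lit 0x0,
nat_lit 0x0,
nat_lit 0x0,
nat_lit 0x0,
nat_lit 0x0,
nat_lit 0x0,
nat_lit 0x0,
nat_lit 0x0,
nat_lit 0x0,
nat_lit 0x0,
nat_lit 0x0,
nat_lit 0x0,
nat_lit 0x0,
nat_lit 0x0,
nat_lit 0x0,
nat_lit 0x0,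
nat_lit 0x0,
nat_lit 0x0,
nat_lit 0x0,
nat_lit 0x0,
nat_lit 0x0,
nat_lit 0x0,
nat_lit 0x0,
nat_lit 0x0,
nat_lit 0x0,
nat_lit 0x0,
nat_lit 0x0,
nat_lit 0x0,
nat_lit 0x0,
nat_lit 0x0,
nat_lit 0x0,
nat_lit 0x0,
nat_lit 0x0,
nat_lit 0x0,
nat_lit 0x0,
nat_lit 0x0,
nat_lit 0x0,
nat_lit 0x0,
nat_lit 0x0,
nat_lit 0x0,
nat_lit 0x0,
nat_lit 0x0,
nat_lit 0x0,
nat_lit 0x0,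
nat_lit 0x0,
nat_lit 0x0,
nat_lit 0x0,
nat_lit 0x0,
nat_lit 0x0,
nat_lit 0x0,
nat_lit 0x0,
nat_lit 0x0,
nat_lit 0x0,
nat_lit 0x0,
nat_lit 0x0,
nat_lit 0x0,
nat_lit 0x0,
nat_lit 0x0,
nat_lit 0x0,
nat_lit 0x0,
nat_lit 0x0,
nat_lit 0x0,
nat_lit 0x0,
nat_lit 0x0,
nat_lit 0x0,
nat_lit 0x0,
nat_lit 0x0,
nat_lit 0x0,
nat_lit 0x0,
nat_lit 0x0,
nat_lit 0x0,
nat_lit 0x0,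
nat_lit 0x0,
nat_lit 0x0,
nat_lit 0x0,
nat_lit 0x0,
nat_lit 0x0,
nat_lit 0x0,
nat_lit 0x0,
nat_lit 0x0,
nat_lit 0x0,
nat_lit 0x0,
nat_lit 0x0,
nat_lit 0x0,
nat_lit 0x0,
nat_lit 0x0,
nat_lit 0x0,
nat_lit 0x0,
nat_lit 0x0,
nat_lit 0x0,
nat_lit 0x0,
nat_lit 0x0,
nat_lit 0x0,
nat_lit 0x0,
nat_lit 0x0,
nat_lit 0x0,
nat_lit 0x0,
nat_lit 0x0,
nat_lit 0x0,
nat_lit 0x0,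
nat_lit 0x0,
nat_lit 0x0,
nat_lit 0x0,
nat_lit 0x0,
nat_lit 0x0,
nat_lit 0x0,
nat_lit 0x0,
nat_lit 0x0,
nat_lit 0x0,
nat_lit 0x0,
nat_lit 0x0,
nat_lit 0x0,
nat_lit 0x0,
nat_lit 0x0,
nat_lit 0x0,
nat_lit 0x0,
nat_lit 0x0,
nat_lit 0x0,
nat_lit 0x0,
nat_lit 0x0,
nat_lit 0x0,
nat_lit 0x0,
nat_lit 0x0,
nat_lit 0x0,
nat_lit 0x0,
nat_lit 0x0,
nat_lit 0x0,
nat_lit 0x0,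
nat_lit 0x0,
nat_lit 0x0,
nat_lit 0x0,
nat_lit 0x0,
nat_lit 0x0,
nat_lit 0x0,
nat_lit 0x0,
nat_lit 0x0,
nat_lit 0x0,
nat_lit 0x0,
nat_lit 0x0,
nat_lit 0x0,
nat_lit 0x0,
nat_lit 0x0,
nat_lit 0x0,
nat_lit 0x0,
nat_lit 0x0,
nat_lit 0x0,
nat_lit 0x0,
nat_lit 0x0,
nat_lit 0x0,
nat_lit 0x0,
nat_lit 0x0,
nat_lit 0x0,
nat_lit 0x0,
nat_lit 0x0,
nat_lit 0x0,
nat_lit 0x0,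
nat_lit 0x0,
nat_lit 0x0,
nat_lit 0x0,
nat_lit 0x0,
nat_lit 0x0,
nat_lit 0x0,
nat_lit 0x0,
nat_lit 0x0,
nat_lit 0x0,
nat_lit 0x0,
nat_lit 0x0,
nat_lit 0x0,
nat_lit 0x0,
nat_lit 0x0,
nat_lit 0x0,
nat_lit 0x0,
nat_lit 0x0,
nat_lit 0x0,
nat_lit 0x0,
nat_lit 0x0,
nat_lit 0x0,
nat_lit 0x0,
nat_lit 0x0,
nat_lit 0x0,
nat_lit 0x0,
nat_lit 0x0,
nat_lit 0x0,
nat_lit 0x0,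
nat_lit 0x0,
nat_lit 0x0,
nat_lit 0x0,
nat_lit 0x0,
nat_lit 0x0,
nat_lit 0x0,
nat_lit 0x0,
nat_lit 0x0,
nat_lit 0x0,
nat_lit 0x0,
nat_lit 0x0,
nat_lit 0x0,
nat_lit 0x0,
nat_lit 0x0,
nat_lit 0x0,
nat_lit 0x0,
nat_lit 0x0,
nat_lit 0x0,
nat_lit 0x0,
nat_lit 0x0,
nat_lit 0x0,
nat_lit 0x0,
nat_lit 0x0,
nat_lit 0x0,
nat_lit 0x0,
nat_lit 0x0,
nat_lit 0x0,
nat_lit 0x0,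
nat_lit 0x0,
nat_lit 0x0,
nat_lit 0x0,
nat_lit 0x0,
nat_lit 0x0,
nat_lit 0x0,
nat_lit 0x0,
nat_lit 0x0,
nat_lit 0x0,
nat_lit 0x0,
nat_lit 0x0,
nat_lit 0x0,
nat_lit 0x0,
nat_lit 0x0,
nat_lit 0x0,
nat_lit 0x0,
nat_lit 0x0,
nat_lit 0x0,
nat_lit 0x0,
nat_lit 0x0,
nat_lit 0x0,
nat_lit 0x0,
nat_lit 0x0,
nat_lit 0x0,
nat_lit 0x0,
nat_lit 0x0,
nat_lit 0x0,
nat_lit 0x0,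
nat_lit 0x0,
nat_lit 0x0,
nat_lit 0x0,
nat_lit 0x0,
nat_lit 0x0,
nat_lit 0x0,
nat_lit 0x0,
nat_lit 0x0,
nat_lit 0x0,
nat_lit 0x0,
nat_lit 0x0,
nat_lit 0x0,
nat_lit 0x0,
nat_lit 0x0,
nat_lit 0x0,
nat_lit 0x0,
nat_lit 0x0,
nat_lit 0x0,
nat_lit 0x0,
nat_lit 0x0,
nat_lit 0x0,
nat_lit 0x0,
nat_lit 0x0,
nat_lit 0x0,
nat_lit 0x0,
nat_lit 0x0,
nat_lit 0x0,
nat_lit 0x0,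
nat_lit 0x0,
nat_lit 0x0,
nat_lit 0x0,
nat_lit 0x0,
nat_lit 0x0,
nat_lit 0x0,
nat_lit 0x0,
nat_lit 0x0,
nat_lit 0x0,
nat_lit 0x0,
nat_lit 0x0,
nat_lit 0x0,
nat_lit 0x0,
nat_lit 0x0,
nat_lit 0x0,
nat_lit 0x0,
nat_lit 0x0,
nat_lit 0x0,
nat_lit 0x0,
nat_lit 0x0,
nat_lit 0x0,
nat_lit 0x0,
nat_lit 0x0,
nat_lit 0x0,
nat_lit 0x0,
nat_lit 0x0,
nat_lit 0x0,
nat_lit 0x0,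
nat_lit 0x0,
nat_lit 0x0,
nat_lit 0x0,
nat_lit 0x0,
nat_lit 0x0,
nat_lit 0x0,
nat_lit 0x0,
nat_lit 0x0,
nat_lit 0x0,
nat_lit 0x0,
nat_lit 0x0,
nat_lit 0x0,
nat_lit 0x0,
nat_lit 0x0,
nat_lit 0x0,
nat_lit 0x0,
nat_lit 0x0,
nat_lit 0x0,
nat_lit 0x0,
nat_lit 0x0,
nat_lit 0x0,
nat_lit 0x0,
nat_lit 0x0,
nat_lit 0x0,
nat_lit 0x0,
nat_lit 0x0,
nat_lit 0x0,
nat_lit 0x0,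
nat_lit 0x0,
nat_lit 0x0,
nat_lit 0x0,
nat_lit 0x0,
nat_lit 0x0,
nat_lit 0x0,
nat_lit 0x0,
nat_lit 0x0,
nat_lit 0x0,
nat_lit 0x0,
nat_lit 0x0,
nat_lit 0x0,
nat_lit 0x0,
nat_lit 0x0,
nat_lit 0x0,
nat_lit 0x0,
nat_lit 0x0,
nat_lit 0x0,
nat_lit 0x0,
nat_lit 0x0,
nat_lit 0x0,
nat_lit 0x0,
nat_lit 0x0,
nat_lit 0x0,
nat_lit 0x0,
nat_lit 0x0,
nat_lit 0x0,
nat_lit 0x0,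
nat_lit 0x0,
nat_lit 0x0,
nat_lit 0x0,
nat_lit 0x0,
nat_lit 0x0,
nat_lit 0x0,
nat_lit 0x0,
nat_lit 0x0,
nat_lit 0x0,
nat_lit 0x0,
nat_lit 0x0,
nat_lit 0x0,
nat_lit 0x0,
nat_lit 0x0,
nat_lit 0x0,
nat_lit 0x0,
nat_lit 0x0,
nat_lit 0x0,
nat_lit 0x0,
nat_lit 0x0,
nat_lit 0x0,
nat_lit 0x0,
nat_lit 0x0,
nat_lit 0x0,
nat_lit 0x0,
nat_lit 0x0,
nat_lit 0x0,
nat_lit 0x0,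
nat_lit 0x0,
nat_lit 0x0,
nat_lit 0x0,
nat_lit 0x0]

theorem facts_ok4096 : checkFacts facts 18364758544493064720 words 128 subs 49982 items4096 4096 = true := by decide +kernel

noncomputable def items4608 : List ℕ := [
nat_lit 0x0,
nat_lit 0x0,
nat_lit 0x0,
nat_lit 0x0,
nat_lit 0x0,
nat_lit 0x0,
nat_lit 0x0,
nat_lit 0x0,
nat_lit 0x0,
nat_lit 0x0,
nat_lit 0x0,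
nat_lit 0x0,
nat_lit 0x0,
nat_lit 0x0,
nat_lit 0x0,
nat_lit 0x0,
nat_lit 0x0,
nat_lit 0x0,
nat_lit 0x0,
nat_lit 0x0,
nat_lit 0x0,
nat_lit 0x0,
nat_lit 0x0,
nat_lit 0x0,
nat_lit 0x0,
nat_lit 0x0,
nat_lit 0x0,
nat_lit 0x0,
nat_lit 0x0,
nat_lit 0x0,
nat_lit 0x0,
nat_lit 0x0,
nat_lit 0x0,
nat_lit 0x0,
nat_lit 0x0,
nat_lit 0x0,
nat_lit 0x0,
nat_lit 0x0,
nat_lit 0x0,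
nat_lit 0x0,
nat_lit 0x0,
nat_lit 0x0,
nat_lit 0x0,
nat_lit 0x0,
nat_lit 0x0,
nat_lit 0x0,
nat_lit 0x0,
nat_lit 0x0,
nat_lit 0x0,
nat_lit 0x0,
nat_lit 0x0,
nat_lit 0x0,
nat_lit 0x0,
nat_lit 0x0,
nat_lit 0x0,
nat_lit 0x0,
nat_lit 0x0,
nat_lit 0x0,
nat_lit 0x0,
nat_lit 0x0,
nat_lit 0x0,
nat_lit 0x0,
nat_lit 0x0,
nat_lit 0x0,
nat_lit 0x0,
nat_lit 0x0,
nat_lit 0x0,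
nat_lit 0x0,
nat_lit 0x0,
nat_lit 0x0,
nat_lit 0x0,
nat_lit 0x0,
nat_lit 0x0,
nat_lit 0x0,
nat_lit 0x0,
nat_lit 0x0,
nat_lit 0x0,
nat_lit 0x0,
nat_lit 0x0,
nat_lit 0x0,
nat_lit 0x0,
nat_lit 0x0,
nat_lit 0x0,
nat_lit 0x0,
nat_lit 0x0,
nat_lit 0x0,
nat_lit 0x0,
nat_lit 0x0,
nat_lit 0x0,
nat_lit 0x0,
nat_lit 0x0,
nat_lit 0x0,
nat_lit 0x0,
nat_lit 0x0,
nat_lit 0x0,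
nat_lit 0x0,
nat_lit 0x0,
nat_lit 0x0,
nat_lit 0x0,
nat_lit 0x0,
nat_lit 0x0,
nat_lit 0x0,
nat_lit 0x0,
nat_lit 0x0,
nat_lit 0x0,
nat_lit 0x0,
nat_lit 0x0,
nat_lit 0x0,
nat_lit 0x0,
nat_lit 0x0,
nat_lit 0x0,
nat_lit 0x0,
nat_lit 0x0,
nat_lit 0x0,
nat_lit 0x0,
nat_lit 0x0,
nat_lit 0x0,
nat_lit 0x0,
nat_lit 0x0,
nat_lit 0x0,
nat_lit 0x0,
nat_lit 0x0,
nat_lit 0x0,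
nat_lit 0x0,
nat_lit 0x0,
nat_lit 0x0,
nat_lit 0x0,
nat_lit 0x0,
nat_lit 0x0,
nat_lit 0x0,
nat_lit 0x0,
nat_lit 0x0,
nat_lit 0x0,
nat_lit 0x0,
nat_lit 0x0,
nat_lit 0x0,
nat_lit 0x0,
nat_lit 0x0,
nat_lit 0x0,
nat_lit 0x0,
nat_lit 0x0,
nat_lit 0x0,
nat_lit 0x0,
nat_lit 0x0,
nat_lit 0x0,
nat_lit 0x0,
nat_lit 0x0,
nat_lit 0x0,
nat_lit 0x0,
nat_lit 0x0,
nat_lit 0x0,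
nat_lit 0x0,
nat_lit 0x0,
nat_lit 0x0,
nat_lit 0x0,
nat_lit 0x0,
nat_lit 0x0,
nat_lit 0x0,
nat_lit 0x0,
nat_lit 0x0,
nat_lit 0x0,
nat_lit 0x0,
nat_lit 0x0,
nat_lit 0x0,
nat_lit 0x0,
nat_lit 0x0,
nat_lit 0x0,
nat_lit 0x0,
nat_lit 0x0,
nat_lit 0x0,
nat_lit 0x0,
nat_lit 0x0,
nat_lit 0x0,
nat_lit 0x0,
nat_lit 0x0,
nat_lit 0x0,
nat_lit 0x0,
nat_lit 0x0,
nat_lit 0x0,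
nat_lit 0x0,
nat_lit 0x0,
nat_lit 0x0,
nat_lit 0x0,
nat_lit 0x0,
nat_lit 0x0,
nat_lit 0x0,
nat_lit 0x0,
nat_lit 0x0,
nat_lit 0x0,
nat_lit 0x0,
nat_lit 0x0,
nat_lit 0x0,
nat_lit 0x0,
nat_lit 0x0,
nat_lit 0x0,
nat_lit 0x0,
nat_lit 0x0,
nat_lit 0x0,
nat_lit 0x0,
nat_lit 0x0,
nat_lit 0x0,
nat_lit 0x0,
nat_lit 0x0,
nat_lit 0x0,
nat_lit 0x0,
nat_lit 0x0,
nat_lit 0x0,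
nat_lit 0x0,
nat_lit 0x0,
nat_lit 0x0,
nat_lit 0x0,
nat_lit 0x0,
nat_lit 0x0,
nat_lit 0x0,
nat_lit 0x0,
nat_lit 0x0,
nat_lit 0x0,
nat_lit 0x0,
nat_lit 0x0,
nat_lit 0x0,
nat_lit 0x0,
nat_lit 0x0,
nat_lit 0x0,
nat_lit 0x0,
nat_lit 0x0,
nat_lit 0x0,
nat_lit 0x0,
nat_lit 0x0,
nat_lit 0x0,
nat_lit 0x0,
nat_lit 0x0,
nat_lit 0x0,
nat_lit 0x0,
nat_lit 0x0,
nat_lit 0x0,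
nat_lit 0x0,
nat_lit 0x0,
nat_lit 0x0,
nat_lit 0x0,
nat_lit 0x0,
nat_lit 0x0,
nat_lit 0x0,
nat_lit 0x0,
nat_lit 0x0,
nat_lit 0x0,
nat_lit 0x0,
nat_lit 0x0,
nat_lit 0x0,
nat_lit 0x0,
nat_lit 0x0,
nat_lit 0x0,
nat_lit 0x0,
nat_lit 0x0,
nat_lit 0x0,
nat_lit 0x0,
nat_lit 0x0,
nat_lit 0x0,
nat_lit 0x0,
nat_lit 0x0,
nat_lit 0x0,
nat_lit 0x0,
nat_lit 0x0,
nat_lit 0x0,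
nat_lit 0x0,
nat_lit 0x0,
nat_lit 0x0,
nat_lit 0x0,
nat_lit 0x0,
nat_lit 0x0,
nat_lit 0x0,
nat_lit 0x0,
nat_lit 0x0,
nat_lit 0x0,
nat_lit 0x0,
nat_lit 0x0,
nat_lit 0x0,
nat_lit 0x0,
nat_lit 0x0,
nat_lit 0x0,
nat_lit 0x0,
nat_lit 0x0,
nat_lit 0x0,
nat_lit 0x0,
nat_lit 0x0,
nat_lit 0x0,
nat_lit 0x0,
nat_lit 0x0,
nat_lit 0x0,
nat_lit 0x0,
nat_lit 0x0,
nat_lit 0x0,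
nat_lit 0x0,
nat_lit 0x0,
nat_lit 0x0,
nat_lit 0x0,
nat_lit 0x0,
nat_lit 0x0,
nat_lit 0x0,
nat_lit 0x0,
nat_lit 0x0,
nat_lit 0x0,
nat_lit 0x0,
nat_lit 0x0,
nat_lit 0x0,
nat_lit 0x0,
nat_lit 0x0,
nat_lit 0x0,
nat_lit 0x0,
nat_lit 0x0,
nat_lit 0x0,
nat_lit 0x0,
nat_lit 0x0,
nat_lit 0x0,
nat_lit 0x0,
nat_lit 0x0,
nat_lit 0x0,
nat_lit 0x0,
nat_lit 0x0,
nat_lit 0x0,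
nat_lit 0x0,
nat_lit 0x0,
nat_lit 0x0,
nat_lit 0x0,
nat_lit 0x0,
nat_lit 0x0,
nat_lit 0x0,
nat_lit 0x0,
nat_lit 0x0,
nat_lit 0x0,
nat_lit 0x0,
nat_lit 0x0,
nat_lit 0x0,
nat_lit 0x0,
nat_lit 0x0,
nat_lit 0x0,
nat_lit 0x0,
nat_lit 0x0,
nat_lit 0x0,
nat_lit 0x0,
nat_lit 0x0,
nat_lit 0x0,
nat_lit 0x0,
nat_lit 0x0,
nat_lit 0x0,
nat_lit 0x0,
nat_lit 0x0,
nat_lit 0x0,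
nat_lit 0x0,
nat_lit 0x0,
nat_lit 0x0,
nat_lit 0x0,
nat_lit 0x0,
nat_lit 0x0,
nat_lit 0x0,
nat_lit 0x0,
nat_lit 0x0,
nat_lit 0x0,
nat_lit 0x0,
nat_lit 0x0,
nat_lit 0x0,
nat_lit 0x0,
nat_lit 0x0,
nat_lit 0x0,
nat_lit 0x0,
nat_lit 0x0,
nat_lit 0x0,
nat_lit 0x0,
nat_lit 0x0,
nat_lit 0x0,
nat_lit 0x0,
nat_lit 0x0,
nat_lit 0x0,
nat_lit 0x0,
nat_lit 0x0,
nat_lit 0x0,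
nat_lit 0x0,
nat_lit 0x0,
nat_lit 0x0,
nat_lit 0x0,
nat_lit 0x0,
nat_lit 0x0,
nat_lit 0x0,
nat_lit 0x0,
nat_lit 0x0,
nat_lit 0x0,
nat_lit 0x0,
nat_lit 0x0,
nat_lit 0x0,
nat_lit 0x0,
nat_lit 0x0,
nat_lit 0x0,
nat_lit 0x0,
nat_lit 0x0,
nat_lit 0x0,
nat_lit 0x0,
nat_lit 0x0,
nat_lit 0x0,
nat_lit 0x0,
nat_lit 0x0,
nat_lit 0x0,
nat_lit 0x0,
nat_lit 0x0,
nat_lit 0x0,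
nat_lit 0x0,
nat_lit 0x0,
nat_lit 0x0,
nat_lit 0x0,
nat_lit 0x0,
nat_lit 0x0,
nat_lit 0x0,
nat_lit 0x0,
nat_lit 0x0,
nat_lit 0x0,
nat_lit 0x0,
nat_lit 0x0,
nat_lit 0x0,
nat_lit 0x0,
nat_lit 0x0,
nat_lit 0x0,
nat_lit 0x0,
nat_lit 0x0,
nat_lit 0x0,
nat_lit 0x0,
nat_lit 0x0,
nat_lit 0x0,
nat_lit 0x0,
nat_lit 0x0,
nat_lit 0x0,
nat_lit 0x0,
nat_lit 0x0,
nat_lit 0x0,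
nat_lit 0x0,
nat_lit 0x0,
nat_lit 0x0,
nat_lit 0x0,
nat_lit 0x0,
nat_lit 0x0,
nat_lit 0x0,
nat_lit 0x0,
nat_lit 0x0,
nat_lit 0x0,
nat_lit 0x0,
nat_lit 0x0,
nat_lit 0x0,
nat_lit 0x0,
nat_lit 0x0,
nat_lit 0x0,
nat_lit 0x0,
nat_lit 0x0,
nat_lit 0x0,
nat_lit 0x0,
nat_lit 0x0,
nat_lit 0x0,
nat_lit 0x0,
nat_lit 0x0,
nat_lit 0x0,
nat_lit 0x0,
nat_lit 0x0,
nat_lit 0x0,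
nat_lit 0x0,
nat_lit 0x0,
nat_lit 0x0,
nat_lit 0x0,
nat_lit 0x0,
nat_lit 0x0,
nat_lit 0x0,
nat_lit 0x0,
nat_lit 0x0,
nat_lit 0x0,
nat_lit 0x0,
nat_lit 0x0,
nat_lit 0x0,
nat_lit 0x0,
nat_lit 0x0,
nat_lit 0x0,
nat_lit 0x0,
nat_lit 0x0,
nat_lit 0x0,
nat_lit 0x0,
nat_lit 0x0,
nat_lit 0x0,
nat_lit 0x0,
nat_lit 0x0,
nat_lit 0x0,
nat_lit 0x0,
nat_lit 0x0,
nat_lit 0x0,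
nat_lit 0x0,
nat_lit 0x0,
nat_lit 0x0,
nat_lit 0x0,
nat_lit 0x0,
nat_lit 0x0,
nat_lit 0x0,
nat_lit 0x0,
nat_lit 0x0,
nat_lit 0x0,
nat_lit 0x0,
nat_lit 0x0,
nat_lit 0x0,
nat_lit 0x0,
nat_lit 0x0,
nat_lit 0x0,
nat_lit 0x0,
nat_lit 0x0,
nat_lit 0x0,
nat_lit 0x0,
nat_lit 0x0,
nat_lit 0x0,
nat_lit 0x0,
nat_lit 0x0,
nat_lit 0x0]

theorem facts_ok4608 : checkFacts facts 18364758544493064720 words 128 subs 49982 items4608 4608 = true := by decide +kernel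

noncomputable def items5120 : List ℕ := [
nat_lit 0x0,
nat_lit 0x0,
nat_lit 0x0,
nat_lit 0x0,
nat_lit 0x0,
nat_lit 0x0,
nat_lit 0x0,
nat_lit 0x0,
nat_lit 0x0,
nat_lit 0x0,
nat_lit 0x0,
nat_lit 0x0,
nat_lit 0x0,
nat_lit 0x0,
nat_lit 0x0,
nat_lit 0x0,
nat_lit 0x0,
nat_lit 0x0,
nat_lit 0x0,
nat_lit 0x0,
nat_lit 0x0,
nat_lit 0x0,
nat_lit 0x0,
nat_lit 0x0,
nat_lit 0x0,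
nat_lit 0x0,
nat_lit 0x0,
nat_lit 0x0,
nat_lit 0x0,
nat_lit 0x0,
nat_lit 0x0,
nat_lit 0x0,
nat_lit 0x0,
nat_lit 0x0,
nat_lit 0x0,
nat_lit 0x0,
nat_lit 0x0,
nat_lit 0x0,
nat_lit 0x0,
nat_lit 0x0,
nat_lit 0x0,
nat_lit 0x0,
nat_lit 0x0,
nat_lit 0x0,
nat_lit 0x0,
nat_lit 0x0,
nat_lit 0x0,
nat_lit 0x0,
nat_lit 0x0,
nat_lit 0x0,
nat_lit 0x0,
nat_lit 0x0,
nat_lit 0x0,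
nat_lit 0x0,
nat_lit 0x0,
nat_lit 0x0,
nat_lit 0x0,
nat_lit 0x0,
nat_lit 0x0,
nat_lit 0x0,
nat_lit 0x0,
nat_lit 0x0,
nat_lit 0x0,
nat_lit 0x0,
nat_lit 0x0,
nat_lit 0x0,
nat_lit 0x0,
nat_lit 0x0,
nat_lit 0x0,
nat_lit 0x0,
nat_lit 0x0,
nat_lit 0x0,
nat_lit 0x0,
nat_lit 0x0,
nat_lit 0x0,
nat_lit 0x0,
nat_lit 0x0,
nat_lit 0x0,
nat_lit 0x0,
nat_lit 0x0,
nat_lit 0x0,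
nat_lit 0x0,
nat_lit 0x0,
nat_lit 0x0,
nat_lit 0x0,
nat_lit 0x0,
nat_lit 0x0,
nat_lit 0x0,
nat_lit 0x0,
nat_lit 0x0,
nat_lit 0x0,
nat_lit 0x0,
nat_lit 0x0,
nat_lit 0x0,
nat_lit 0x0,
nat_lit 0x0,
nat_lit 0x0,
nat_lit 0x0,
nat_lit 0x0,
nat_lit 0x0,
nat_lit 0x0,
nat_lit 0x0,
nat_lit 0x0,
nat_lit 0x0,
nat_lit 0x0,
nat_lit 0x0,
nat_lit 0x0,
nat_lit 0x0,
nat_lit 0x0,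
nat_lit 0x0,
nat_lit 0x0,
nat_lit 0x0,
nat_lit 0x0,
nat_lit 0x0,
nat_lit 0x0,
nat_lit 0x0,
nat_lit 0x0,
nat_lit 0x0,
nat_lit 0x0,
nat_lit 0x0,
nat_lit 0x0,
nat_lit 0x0,
nat_lit 0x0,
nat_lit 0x0,
nat_lit 0x0,
nat_lit 0x0,
nat_lit 0x0,
nat_lit 0x0,
nat_lit 0x0,
nat_lit 0x0,
nat_lit 0x0,
nat_lit 0x0,
nat_lit 0x0,
nat_lit 0x0,
nat_lit 0x0,
nat_lit 0x0,
nat_lit 0x0,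
nat_lit 0x0,
nat_lit 0x0,
nat_lit 0x0,
nat_lit 0x0,
nat_lit 0x0,
nat_lit 0x0,
nat_lit 0x0,
nat_lit 0x0,
nat_lit 0x0,
nat_lit 0x0,
nat_lit 0x0,
nat_lit 0x0,
nat_lit 0x0,
nat_lit 0x0,
nat_lit 0x0,
nat_lit 0x0,
nat_lit 0x0,
nat_lit 0x0,
nat_lit 0x0,
nat_lit 0x0,
nat_lit 0x0,
nat_lit 0x0,
nat_lit 0x0,
nat_lit 0x0,
nat_lit 0x0,
nat_lit 0x0,
nat_lit 0x0,
nat_lit 0x0,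
nat_lit 0x0,
nat_lit 0x0,
nat_lit 0x0,
nat_lit 0x0,
nat_lit 0x0,
nat_lit 0x0,
nat_lit 0x0,
nat_lit 0x0,
nat_lit 0x0,
nat_lit 0x0,
nat_lit 0x0,
nat_lit 0x0,
nat_lit 0x0,
nat_lit 0x0,
nat_lit 0x0,
nat_lit 0x0,
nat_lit 0x0,
nat_lit 0x0,
nat_lit 0x0,
nat_lit 0x0,
nat_lit 0x0,
nat_lit 0x0,
nat_lit 0x0,
nat_lit 0x0,
nat_lit 0x0,
nat_lit 0x0,
nat_lit 0x0,
nat_lit 0x0,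
nat_lit 0x0,
nat_lit 0x0,
nat_lit 0x0,
nat_lit 0x0,
nat_lit 0x0,
nat_lit 0x0,
nat_lit 0x0,
nat_lit 0x0,
nat_lit 0x0,
nat_lit 0x0,
nat_lit 0x0,
nat_lit 0x0,
nat_lit 0x0,
nat_lit 0x0,
nat_lit 0x0,
nat_lit 0x0,
nat_lit 0x0,
nat_lit 0x0,
nat_lit 0x0,
nat_lit 0x0,
nat_lit 0x0,
nat_lit 0x0,
nat_lit 0x0,
nat_lit 0x0,
nat_lit 0x0,
nat_lit 0x0,
nat_lit 0x0,
nat_lit 0x0,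
nat_lit 0x0,
nat_lit 0x0,
nat_lit 0x0,
nat_lit 0x0,
nat_lit 0x0,
nat_lit 0x0,
nat_lit 0x0,
nat_lit 0x0,
nat_lit 0x0,
nat_lit 0x0,
nat_lit 0x0,
nat_lit 0x0,
nat_lit 0x0,
nat_lit 0x0,
nat_lit 0x0,
nat_lit 0x0,
nat_lit 0x0,
nat_lit 0x0,
nat_lit 0x0,
nat_lit 0x0,
nat_lit 0x0,
nat_lit 0x0,
nat_lit 0x0,
nat_lit 0x0,
nat_lit 0x0,
nat_lit 0x0,
nat_lit 0x0,
nat_lit 0x0,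
nat_lit 0x0,
nat_lit 0x0,
nat_lit 0x0,
nat_lit 0x0,
nat_lit 0x0,
nat_lit 0x0,
nat_lit 0x0,
nat_lit 0x0,
nat_lit 0x0,
nat_lit 0x0,
nat_lit 0x0,
nat_lit 0x0,
nat_lit 0x0,
nat_lit 0x0,
nat_lit 0x0,
nat_lit 0x0,
nat_lit 0x0,
nat_lit 0x0,
nat_lit 0x0,
nat_lit 0x0,
nat_lit 0x0,
nat_lit 0x0,
nat_lit 0x0,
nat_lit 0x0,
nat_lit 0x0,
nat_lit 0x0,
nat_lit 0x0,
nat_lit 0x0,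
nat_lit 0x0,
nat_lit 0x0,
nat_lit 0x0,
nat_lit 0x0,
nat_lit 0x0,
nat_lit 0x0,
nat_lit 0x0,
nat_lit 0x0,
nat_lit 0x0,
nat_lit 0x0,
nat_lit 0x0,
nat_lit 0x0,
nat_lit 0x0,
nat_lit 0x0,
nat_lit 0x0,
nat_lit 0x0,
nat_lit 0x0,
nat_lit 0x0,
nat_lit 0x0,
nat_lit 0x0,
nat_lit 0x0,
nat_lit 0x0,
nat_lit 0x0,
nat_lit 0x0,
nat_lit 0x0,
nat_lit 0x0,
nat_lit 0x0,
nat_lit 0x0,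
nat_lit 0x0,
nat_lit 0x0,
nat_lit 0x0,
nat_lit 0x0,
nat_lit 0x0,
nat_lit 0x0,
nat_lit 0x0,
nat_lit 0x0,
nat_lit 0x0,
nat_lit 0x0,
nat_lit 0x0,
nat_lit 0x0,
nat_lit 0x0,
nat_lit 0x0,
nat_lit 0x0,
nat_lit 0x0,
nat_lit 0x0,
nat_lit 0x0,
nat_lit 0x0,
nat_lit 0x0,
nat_lit 0x0,
nat_lit 0x0,
nat_lit 0x0,
nat_lit 0x0,
nat_lit 0x0,
nat_lit 0x0,
nat_lit 0x0,
nat_lit 0x0,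
nat_lit 0x0,
nat_lit 0x0,
nat_lit 0x0,
nat_lit 0x0,
nat_lit 0x0,
nat_lit 0x0,
nat_lit 0x0,
nat_lit 0x0,
nat_lit 0x0,
nat_lit 0x0,
nat_lit 0x0,
nat_lit 0x0,
nat_lit 0x0,
nat_lit 0x0,
nat_lit 0x0,
nat_lit 0x0,
nat_lit 0x0,
nat_lit 0x0,
nat_lit 0x0,
nat_lit 0x0,
nat_lit 0x0,
nat_lit 0x0,
nat_lit 0x0,
nat_lit 0x0,
nat_lit 0x0,
nat_lit 0x0,
nat_lit 0x0,
nat_lit 0x0,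
nat_lit 0x0,
nat_lit 0x0,
nat_lit 0x0,
nat_lit 0x0,
nat_lit 0x0,
nat_lit 0x0,
nat_lit 0x0,
nat_lit 0x0,
nat_lit 0x0,
nat_lit 0x0,
nat_lit 0x0,
nat_lit 0x0,
nat_lit 0x0,
nat_lit 0x0,
nat_lit 0x0,
nat_lit 0x0,
nat_lit 0x0,
nat_lit 0x0,
nat_lit 0x0,
nat_lit 0x0,
nat_lit 0x0,
nat_lit 0x0,
nat_lit 0x0,
nat_lit 0x0,
nat_lit 0x0,
nat_lit 0x0,
nat_lit 0x0,
nat_lit 0x0,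
nat_lit 0x0,
nat_lit 0x0,
nat_lit 0x0,
nat_lit 0x0,
nat_lit 0x0,
nat_lit 0x0,
nat_lit 0x0,
nat_lit 0x0,
nat_lit 0x0,
nat_lit 0x0,
nat_lit 0x0,
nat_lit 0x0,
nat_lit 0x0,
nat_lit 0x0,
nat_lit 0x0,
nat_lit 0x0,
nat_lit 0x0,
nat_lit 0x0,
nat_lit 0x0,
nat_lit 0x0,
nat_lit 0x0,
nat_lit 0x0,
nat_lit 0x0,
nat_lit 0x0,
nat_lit 0x0,
nat_lit 0x0,
nat_lit 0x0,
nat_lit 0x0,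
nat_lit 0x0,
nat_lit 0x0,
nat_lit 0x0,
nat_lit 0x0,
nat_lit 0x0,
nat_lit 0x0,
nat_lit 0x0,
nat_lit 0x0,
nat_lit 0x0,
nat_lit 0x0,
nat_lit 0x0,
nat_lit 0x0,
nat_lit 0x0,
nat_lit 0x0,
nat_lit 0x0,
nat_lit 0x0,
nat_lit 0x0,
nat_lit 0x0,
nat_lit 0x0,
nat_lit 0x0,
nat_lit 0x0,
nat_lit 0x0,
nat_lit 0x0,
nat_lit 0x0,
nat_lit 0x0,
nat_lit 0x0,
nat_lit 0x0,
nat_lit 0x0,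
nat_lit 0x0,
nat_lit 0x0,
nat_lit 0x0,
nat_lit 0x0,
nat_lit 0x0,
nat_lit 0x0,
nat_lit 0x0,
nat_lit 0x0,
nat_lit 0x0,
nat_lit 0x0,
nat_lit 0x0,
nat_lit 0x0,
nat_lit 0x0,
nat_lit 0x0,
nat_lit 0x0,
nat_lit 0x0,
nat_lit 0x0,
nat_lit 0x0,
nat_lit 0x0,
nat_lit 0x0,
nat_lit 0x0,
nat_lit 0x0,
nat_lit 0x0,
nat_lit 0x0,
nat_lit 0x0,
nat_lit 0x0,
nat_lit 0x0,
nat_lit 0x0,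
nat_lit 0x0,
nat_lit 0x0,
nat_lit 0x0,
nat_lit 0x0,
nat_lit 0x0,
nat_lit 0x0,
nat_lit 0x0,
nat_lit 0x0,
nat_lit 0x0,
nat_lit 0x0,
nat_lit 0x0,
nat_lit 0x0,
nat_lit 0x0,
nat_lit 0x0,
nat_lit 0x0,
nat_lit 0x0,
nat_lit 0x0,
nat_lit 0x0,
nat_lit 0x0,
nat_lit 0x0,
nat_lit 0x0,
nat_lit 0x0,
nat_lit 0x0,
nat_lit 0x0,
nat_lit 0x0,
nat_lit 0x0,
nat_lit 0x0,
nat_lit 0x0,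
nat_lit 0x0,
nat_lit 0x0,
nat_lit 0x0,
nat_lit 0x0,
nat_lit 0x0,
nat_lit 0x0,
nat_lit 0x0,
nat_lit 0x0,
nat_lit 0x0,
nat_lit 0x0,
nat_lit 0x0]

theorem facts_ok5120 : checkFacts facts 18364758544493064720 words 128 subs 49982 items5120 5120 = true := by decide +kernel

noncomputable def items5632 : List ℕ := [
nat_lit 0x0,
nat_lit 0x0,
nat_lit 0x0,
nat_lit 0x0,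
nat_lit 0x0,
nat_lit 0x0,
nat_lit 0x0,
nat_lit 0x0,
nat_lit 0x0,
nat_lit 0x0,
nat_lit 0x0,
nat_lit 0x0,
nat_lit 0x0,
nat_lit 0x0,
nat_lit 0x0,
nat_lit 0x0,
nat_lit 0x0,
nat_lit 0x0,
nat_lit 0x0,
nat_lit 0x0,
nat_lit 0x0,
nat_lit 0x0,
nat_lit 0x0,
nat_lit 0x0,
nat_lit 0x0,
nat_lit 0x0,
nat_lit 0x0,
nat_lit 0x0,
nat_lit 0x0,
nat_lit 0x0,
nat_lit 0x0,
nat_lit 0x0,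
nat_lit 0x0,
nat_lit 0x0,
nat_lit 0x0,
nat_lit 0x0,
nat_lit 0x0,
nat_lit 0x0,
nat_lit 0x0,
nat_lit 0x0,
nat_lit 0x0,
nat_lit 0x0,
nat_lit 0x0,
nat_lit 0x0,
nat_lit 0x0,
nat_lit 0x0,
nat_lit 0x0,
nat_lit 0x0,
nat_lit 0x0,
nat_lit 0x0,
nat_lit 0x0,
nat_lit 0x0,
nat_lit 0x0,
nat_lit 0x0,
nat_lit 0x0,
nat_lit 0x0,
nat_lit 0x0,
nat_lit 0x0,
nat_lit 0x0,
nat_lit 0x0,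
nat_lit 0x0,
nat_lit 0x0,
nat_lit 0x0,
nat_lit 0x0,
nat_lit 0x0,
nat_lit 0x0,
nat_lit 0x0,
nat_lit 0x0,
nat_lit 0x0,
nat_lit 0x0,
nat_lit 0x0,
nat_lit 0x0,
nat_lit 0x0,
nat_lit 0x0,
nat_lit 0x0,
nat_lit 0x0,
nat_lit 0x0,
nat_lit 0x0,
nat_lit 0x0,
nat_lit 0x0,
nat_lit 0x0,
nat_lit 0x0,
nat_lit 0x0,
nat_lit 0x0,
nat_lit 0x0,
nat_lit 0x0,
nat_lit 0x0,
nat_lit 0x0,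
nat_lit 0x0,
nat_lit 0x0,
nat_lit 0x0,
nat_lit 0x0,
nat_lit 0x0,
nat_lit 0x0,
nat_lit 0x0,
nat_lit 0x0,
nat_lit 0x0,
nat_lit 0x0,
nat_lit 0x0,
nat_lit 0x0,
nat_lit 0x0,
nat_lit 0x0,
nat_lit 0x0,
nat_lit 0x0,
nat_lit 0x0,
nat_lit 0x0,
nat_lit 0x0,
nat_lit 0x0,
nat_lit 0x0,
nat_lit 0x0,
nat_lit 0x0,
nat_lit 0x0,
nat_lit 0x0,
nat_lit 0x0,
nat_lit 0x0,
nat_lit 0x0,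
nat_lit 0x0,
nat_lit 0x0,
nat_lit 0x0,
nat_lit 0x0,
nat_lit 0x0,
nat_lit 0x0,
nat_lit 0x0,
nat_lit 0x0,
nat_lit 0x0,
nat_lit 0x0,
nat_lit 0x0,
nat_lit 0x0,
nat_lit 0x0,
nat_lit 0x0,
nat_lit 0x0,
nat_lit 0x0,
nat_lit 0x0,
nat_lit 0x0,
nat_lit 0x0,
nat_lit 0x0,
nat_lit 0x0,
nat_lit 0x0,
nat_lit 0x0,
nat_lit 0x0,
nat_lit 0x0,
nat_lit 0x0,
nat_lit 0x0,
nat_lit 0x0,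
nat_lit 0x0,
nat_lit 0x0,
nat_lit 0x0,
nat_lit 0x0,
nat_lit 0x0,
nat_lit 0x0,
nat_lit 0x0,
nat_lit 0x0,
nat_lit 0x0,
nat_lit 0x0,
nat_lit 0x0,
nat_lit 0x0,
nat_lit 0x0,
nat_lit 0x0,
nat_lit 0x0,
nat_lit 0x0,
nat_lit 0x0,
nat_lit 0x0,
nat_lit 0x0,
nat_lit 0x0,
nat_lit 0x0,
nat_lit 0x0,
nat_lit 0x0,
nat_lit 0x0,
nat_lit 0x0,
nat_lit 0x0,
nat_lit 0x0,
nat_lit 0x0,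
nat_lit 0x0,
nat_lit 0x0,
nat_lit 0x0,
nat_lit 0x0,
nat_lit 0x0,
nat_lit 0x0,
nat_lit 0x0,
nat_lit 0x0,
nat_lit 0x0,
nat_lit 0x0,
nat_lit 0x0,
nat_lit 0x0,
nat_lit 0x0,
nat_lit 0x0,
nat_lit 0x0,
nat_lit 0x0,
nat_lit 0x0,
nat_lit 0x0,
nat_lit 0x0,
nat_lit 0x0,
nat_lit 0x0,
nat_lit 0x0,
nat_lit 0x0,
nat_lit 0x0,
nat_lit 0x0,
nat_lit 0x0,
nat_lit 0x0,
nat_lit 0x0,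
nat_lit 0x0,
nat_lit 0x0,
nat_lit 0x0,
nat_lit 0x0,
nat_lit 0x0,
nat_lit 0x0,
nat_lit 0x0,
nat_lit 0x0,
nat_lit 0x0,
nat_lit 0x0,
nat_lit 0x0,
nat_lit 0x0,
nat_lit 0x0,
nat_lit 0x0,
nat_lit 0x0,
nat_lit 0x0,
nat_lit 0x0,
nat_lit 0x0,
nat_lit 0x0,
nat_lit 0x0,
nat_lit 0x0,
nat_lit 0x0,
nat_lit 0x0,
nat_lit 0x0,
nat_lit 0x0,
nat_lit 0x0,
nat_lit 0x0,
nat_lit 0x0,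
nat_lit 0x0,
nat_lit 0x0,
nat_lit 0x0,
nat_lit 0x0,
nat_lit 0x0,
nat_lit 0x0,
nat_lit 0x0,
nat_lit 0x0,
nat_lit 0x0,
nat_lit 0x0,
nat_lit 0x0,
nat_lit 0x0,
nat_lit 0x0,
nat_lit 0x0,
nat_lit 0x0,
nat_lit 0x0,
nat_lit 0x0,
nat_lit 0x0,
nat_lit 0x0,
nat_lit 0x0,
nat_lit 0x0,
nat_lit 0x0,
nat_lit 0x0,
nat_lit 0x0,
nat_lit 0x0,
nat_lit 0x0,
nat_lit 0x0,
nat_lit 0x0,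
nat_lit 0x0,
nat_lit 0x0,
nat_lit 0x0,
nat_lit 0x0,
nat_lit 0x0,
nat_lit 0x0,
nat_lit 0x0,
nat_lit 0x0,
nat_lit 0x0,
nat_lit 0x0,
nat_lit 0x0,
nat_lit 0x0,
nat_lit 0x0,
nat_lit 0x0,
nat_lit 0x0,
nat_lit 0x0,
nat_lit 0x0,
nat_lit 0x0,
nat_lit 0x0,
nat_lit 0x0,
nat_lit 0x0,
nat_lit 0x0,
nat_lit 0x0,
nat_lit 0x0,
nat_lit 0x0,
nat_lit 0x0,
nat_lit 0x0,
nat_lit 0x0,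
nat_lit 0x0,
nat_lit 0x0,
nat_lit 0x0,
nat_lit 0x0,
nat_lit 0x0,
nat_lit 0x0,
nat_lit 0x0,
nat_lit 0x0,
nat_lit 0x0,
nat_lit 0x0,
nat_lit 0x0,
nat_lit 0x0,
nat_lit 0x0,
nat_lit 0x0,
nat_lit 0x0,
nat_lit 0x0,
nat_lit 0x0,
nat_lit 0x0,
nat_lit 0x0,
nat_lit 0x0,
nat_lit 0x0,
nat_lit 0x0,
nat_lit 0x0,
nat_lit 0x0,
nat_lit 0x0,
nat_lit 0x0,
nat_lit 0x0,
nat_lit 0x0,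
nat_lit 0x0,
nat_lit 0x0,
nat_lit 0x0,
nat_lit 0x0,
nat_lit 0x0,
nat_lit 0x0,
nat_lit 0x0,
nat_lit 0x0,
nat_lit 0x0,
nat_lit 0x0,
nat_lit 0x0,
nat_lit 0x0,
nat_lit 0x0,
nat_lit 0x0,
nat_lit 0x0,
nat_lit 0x0,
nat_lit 0x0,
nat_lit 0x0,
nat_lit 0x0,
nat_lit 0x0,
nat_lit 0x0,
nat_lit 0x0,
nat_lit 0x0,
nat_lit 0x0,
nat_lit 0x0,
nat_lit 0x0,
nat_lit 0x0,
nat_lit 0x0,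
nat_lit 0x0,
nat_lit 0x0,
nat_lit 0x0,
nat_lit 0x0,
nat_lit 0x0,
nat_lit 0x0,
nat_lit 0x0,
nat_lit 0x0,
nat_lit 0x0,
nat_lit 0x0,
nat_lit 0x0,
nat_lit 0x0,
nat_lit 0x0,
nat_lit 0x0,
nat_lit 0x0,
nat_lit 0x0,
nat_lit 0x0,
nat_lit 0x0,
nat_lit 0x0,
nat_lit 0x0,
nat_lit 0x0,
nat_lit 0x0,
nat_lit 0x0,
nat_lit 0x0,
nat_lit 0x0,
nat_lit 0x0,
nat_lit 0x0,
nat_lit 0x0,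
nat_lit 0x0,
nat_lit 0x0,
nat_lit 0x0,
nat_lit 0x0,
nat_lit 0x0,
nat_lit 0x0,
nat_lit 0x0,
nat_lit 0x0,
nat_lit 0x0,
nat_lit 0x0,
nat_lit 0x0,
nat_lit 0x0,
nat_lit 0x0,
nat_lit 0x0,
nat_lit 0x0,
nat_lit 0x0,
nat_lit 0x0,
nat_lit 0x0,
nat_lit 0x0,
nat_lit 0x0,
nat_lit 0x0,
nat_lit 0x0,
nat_lit 0x0,
nat_lit 0x0,
nat_lit 0x0,
nat_lit 0x0,
nat_lit 0x0,
nat_lit 0x0,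
nat_lit 0x0,
nat_lit 0x0,
nat_lit 0x0,
nat_lit 0x0,
nat_lit 0x0,
nat_lit 0x0,
nat_lit 0x0,
nat_lit 0x0,
nat_lit 0x0,
nat_lit 0x0,
nat_lit 0x0,
nat_lit 0x0,
nat_lit 0x0,
nat_lit 0x0,
nat_lit 0x0,
nat_lit 0x0,
nat_lit 0x0,
nat_lit 0x0,
nat_lit 0x0,
nat_lit 0x0,
nat_lit 0x0,
nat_lit 0x0,
nat_lit 0x0,
nat_lit 0x0,
nat_lit 0x0,
nat_lit 0x0,
nat_lit 0x0,
nat_lit 0x0,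
nat_lit 0x0,
nat_lit 0x0,
nat_lit 0x0,
nat_lit 0x0,
nat_lit 0x0,
nat_lit 0x0,
nat_lit 0x0,
nat_lit 0x0,
nat_lit 0x0,
nat_lit 0x0,
nat_lit 0x0,
nat_lit 0x0,
nat_lit 0x0,
nat_lit 0x0,
nat_lit 0x0,
nat_lit 0x0,
nat_lit 0x0,
nat_lit 0x0,
nat_lit 0x0,
nat_lit 0x0,
nat_lit 0x0,
nat_lit 0x0,
nat_lit 0x0,
nat_lit 0x0,
nat_lit 0x0,
nat_lit 0x0,
nat_lit 0x0,
nat_lit 0x0,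
nat_lit 0x0,
nat_lit 0x0,
nat_lit 0x0,
nat_lit 0x0,
nat_lit 0x0,
nat_lit 0x0,
nat_lit 0x0,
nat_lit 0x0,
nat_lit 0x0,
nat_lit 0x0,
nat_lit 0x0,
nat_lit 0x0,
nat_lit 0x0,
nat_lit 0x0,
nat_lit 0x0,
nat_lit 0x0,
nat_lit 0x0,
nat_lit 0x0,
nat_lit 0x0,
nat_lit 0x0,
nat_lit 0x0,
nat_lit 0x0,
nat_lit 0x0,
nat_lit 0x0,
nat_lit 0x0,
nat_lit 0x0,
nat_lit 0x0,
nat_lit 0x0,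
nat_lit 0x0,
nat_lit 0x0,
nat_lit 0x0,
nat_lit 0x0,
nat_lit 0x0,
nat_lit 0x0,
nat_lit 0x0,
nat_lit 0x0,
nat_lit 0x0,
nat_lit 0x0,
nat_lit 0x0,
nat_lit 0x0,
nat_lit 0x0,
nat_lit 0x0,
nat_lit 0x0,
nat_lit 0x0,
nat_lit 0x0,
nat_lit 0x0,
nat_lit 0x0,
nat_lit 0x0,
nat_lit 0x0,
nat_lit 0x0,
nat_lit 0x0,
nat_lit 0x0,
nat_lit 0x0,
nat_lit 0x0,
nat_lit 0x0,
nat_lit 0x0,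
nat_lit 0x0,
nat_lit 0x0,
nat_lit 0x0,
nat_lit 0x0]

theorem facts_ok5632 : checkFacts facts 18364758544493064720 words 128 subs 49982 items5632 5632 = true := by decide +kernel

noncomputable def items6144 : List ℕ := [
nat_lit 0x0,
nat_lit 0x0,
nat_lit 0x0,
nat_lit 0x0,
nat_lit 0x0,
nat_lit 0x0,
nat_lit 0x0,
nat_lit 0x0,
nat_lit 0x0,
nat_lit 0x0,
nat_lit 0x0,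
nat_lit 0x0,
nat_lit 0x0,
nat_lit 0x0,
nat_lit 0x0,
nat_lit 0x0,
nat_lit 0x0,
nat_lit 0x0,
nat_lit 0x0,
nat_lit 0x0,
nat_lit 0x0,
nat_lit 0x0,
nat_lit 0x0,
nat_lit 0x0,
nat_lit 0x0,
nat_lit 0x0,
nat_lit 0x0,
nat_lit 0x0,
nat_lit 0x0,
nat_lit 0x0,
nat_lit 0x0,
nat_lit 0x0,
nat_lit 0x0,
nat_lit 0x0,
nat_lit 0x0,
nat_lit 0x0,
nat_lit 0x0,
nat_lit 0x0,
nat_lit 0x0,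
nat_lit 0x0,
nat_lit 0x0,
nat_lit 0x0,
nat_lit 0x0,
nat_lit 0x0,
nat_lit 0x0,
nat_lit 0x0,
nat_lit 0x0,
nat_lit 0x0,
nat_lit 0x0,
nat_lit 0x0,
nat_lit 0x0,
nat_lit 0x0,
nat_lit 0x0,
nat_lit 0x0,
nat_lit 0x0,
nat_lit 0x0,
nat_lit 0x0,
nat_lit 0x0,
nat_lit 0x0,
nat_lit 0x0,
nat_lit 0x0,
nat_lit 0x0,
nat_lit 0x0,
nat_lit 0x0,
nat_lit 0x0,
nat_lit 0x0,
nat_lit 0x0,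
nat_lit 0x0,
nat_lit 0x0,
nat_lit 0x0,
nat_lit 0x0,
nat_lit 0x0,
nat_lit 0x0,
nat_lit 0x0,
nat_lit 0x0,
nat_lit 0x0,
nat_lit 0x0,
nat_lit 0x0,
nat_lit 0x0,
nat_lit 0x0,
nat_lit 0x0,
nat_lit 0x0,
nat_lit 0x0,
nat_lit 0x0,
nat_lit 0x0,
nat_lit 0x0,
nat_lit 0x0,
nat_lit 0x0,
nat_lit 0x0,
nat_lit 0x0,
nat_lit 0x0,
nat_lit 0x0,
nat_lit 0x0,
nat_lit 0x0,
nat_lit 0x0,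
nat_lit 0x0,
nat_lit 0x0,
nat_lit 0x0,
nat_lit 0x0,
nat_lit 0x0,
nat_lit 0x0,
nat_lit 0x0,
nat_lit 0x0,
nat_lit 0x0,
nat_lit 0x0,
nat_lit 0x0,
nat_lit 0x0,
nat_lit 0x0,
nat_lit 0x0,
nat_lit 0x0,
nat_lit 0x0,
nat_lit 0x0,
nat_lit 0x0,
nat_lit 0x0,
nat_lit 0x0,
nat_lit 0x0,
nat_lit 0x0,
nat_lit 0x0,
nat_lit 0x0,
nat_lit 0x0,
nat_lit 0x0,
nat_lit 0x0,
nat_lit 0x0,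
nat_lit 0x0,
nat_lit 0x0,
nat_lit 0x0,
nat_lit 0x0,
nat_lit 0x0,
nat_lit 0x0,
nat_lit 0x0,
nat_lit 0x0,
nat_lit 0x0,
nat_lit 0x0,
nat_lit 0x0,
nat_lit 0x0,
nat_lit 0x0,
nat_lit 0x0,
nat_lit 0x0,
nat_lit 0x0,
nat_lit 0x0,
nat_lit 0x0,
nat_lit 0x0,
nat_lit 0x0,
nat_lit 0x0,
nat_lit 0x0,
nat_lit 0x0,
nat_lit 0x0,
nat_lit 0x0,
nat_lit 0x0,
nat_lit 0x0,
nat_lit 0x0,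
nat_lit 0x0,
nat_lit 0x0,
nat_lit 0x0,
nat_lit 0x0,
nat_lit 0x0,
nat_lit 0x0,
nat_lit 0x0,
nat_lit 0x0,
nat_lit 0x0,
nat_lit 0x0,
nat_lit 0x0,
nat_lit 0x0,
nat_lit 0x0,
nat_lit 0x0,
nat_lit 0x0,
nat_lit 0x0,
nat_lit 0x0,
nat_lit 0x0,
nat_lit 0x0,
nat_lit 0x0,
nat_lit 0x0,
nat_lit 0x0,
nat_lit 0x0,
nat_lit 0x0,
nat_lit 0x0,
nat_lit 0x0,
nat_lit 0x0,
nat_lit 0x0,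
nat_lit 0x0,
nat_lit 0x0,
nat_lit 0x0,
nat_lit 0x0,
nat_lit 0x0,
nat_lit 0x0,
nat_lit 0x0,
nat_lit 0x0,
nat_lit 0x0,
nat_lit 0x0,
nat_lit 0x0,
nat_lit 0x0,
nat_lit 0x0,
nat_lit 0x0,
nat_lit 0x0,
nat_lit 0x0,
nat_lit 0x0,
nat_lit 0x0,
nat_lit 0x0,
nat_lit 0x0,
nat_lit 0x0,
nat_lit 0x0,
nat_lit 0x0,
nat_lit 0x0,
nat_lit 0x0,
nat_lit 0x0,
nat_lit 0x0,
nat_lit 0x0,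
nat_lit 0x0,
nat_lit 0x0,
nat_lit 0x0,
nat_lit 0x0,
nat_lit 0x0,
nat_lit 0x0,
nat_lit 0x0,
nat_lit 0x0,
nat_lit 0x0,
nat_lit 0x0,
nat_lit 0x0,
nat_lit 0x0,
nat_lit 0x0,
nat_lit 0x0,
nat_lit 0x0,
nat_lit 0x0,
nat_lit 0x0,
nat_lit 0x0,
nat_lit 0x0,
nat_lit 0x0,
nat_lit 0x0,
nat_lit 0x0,
nat_lit 0x0,
nat_lit 0x0,
nat_lit 0x0,
nat_lit 0x0,
nat_lit 0x0,
nat_lit 0x0,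
nat_lit 0x0,
nat_lit 0x0,
nat_lit 0x0,
nat_lit 0x0,
nat_lit 0x0,
nat_lit 0x0,
nat_lit 0x0,
nat_lit 0x0,
nat_lit 0x0,
nat_lit 0x0,
nat_lit 0x0,
nat_lit 0x0,
nat_lit 0x0,
nat_lit 0x0,
nat_lit 0x0,
nat_lit 0x0,
nat_lit 0x0,
nat_lit 0x0,
nat_lit 0x0,
nat_lit 0x0,
nat_lit 0x0,
nat_lit 0x0,
nat_lit 0x0,
nat_lit 0x0,
nat_lit 0x0,
nat_lit 0x0,
nat_lit 0x0,
nat_lit 0x0,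
nat_lit 0x0,
nat_lit 0x0,
nat_lit 0x0,
nat_lit 0x0,
nat_lit 0x0,
nat_lit 0x0,
nat_lit 0x0,
nat_lit 0x0,
nat_lit 0x0,
nat_lit 0x0,
nat_lit 0x0,
nat_lit 0x0,
nat_lit 0x0,
nat_lit 0x0,
nat_lit 0x0,
nat_lit 0x0,
nat_lit 0x0,
nat_lit 0x0,
nat_lit 0x0,
nat_lit 0x0,
nat_lit 0x0,
nat_lit 0x0,
nat_lit 0x0,
nat_lit 0x0,
nat_lit 0x0,
nat_lit 0x0,
nat_lit 0x0,
nat_lit 0x0,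
nat_lit 0x0,
nat_lit 0x0,
nat_lit 0x0,
nat_lit 0x0,
nat_lit 0x0,
nat_lit 0x0,
nat_lit 0x0,
nat_lit 0x0,
nat_lit 0x0,
nat_lit 0x0,
nat_lit 0x0,
nat_lit 0x0,
nat_lit 0x0,
nat_lit 0x0,
nat_lit 0x0,
nat_lit 0x0,
nat_lit 0x0,
nat_lit 0x0,
nat_lit 0x0,
nat_lit 0x0,
nat_lit 0x0,
nat_lit 0x0,
nat_lit 0x0,
nat_lit 0x0,
nat_lit 0x0,
nat_lit 0x0,
nat_lit 0x0,
nat_lit 0x0,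
nat_lit 0x0,
nat_lit 0x0,
nat_lit 0x0,
nat_lit 0x0,
nat_lit 0x0,
nat_lit 0x0,
nat_lit 0x0,
nat_lit 0x0,
nat_lit 0x0,
nat_lit 0x0,
nat_lit 0x0,
nat_lit 0x0,
nat_lit 0x0,
nat_lit 0x0,
nat_lit 0x0,
nat_lit 0x0,
nat_lit 0x0,
nat_lit 0x0,
nat_lit 0x0,
nat_lit 0x0,
nat_lit 0x0,
nat_lit 0x0,
nat_lit 0x0,
nat_lit 0x0,
nat_lit 0x0,
nat_lit 0x0,
nat_lit 0x0,
nat_lit 0x0,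
nat_lit 0x0,
nat_lit 0x0,
nat_lit 0x0,
nat_lit 0x0,
nat_lit 0x0,
nat_lit 0x0,
nat_lit 0x0,
nat_lit 0x0,
nat_lit 0x0,
nat_lit 0x0,
nat_lit 0x0,
nat_lit 0x0,
nat_lit 0x0,
nat_lit 0x0,
nat_lit 0x0,
nat_lit 0x0,
nat_lit 0x0,
nat_lit 0x0,
nat_lit 0x0,
nat_lit 0x0,
nat_lit 0x0,
nat_lit 0x0,
nat_lit 0x0,
nat_lit 0x0,
nat_lit 0x0,
nat_lit 0x0,
nat_lit 0x0,
nat_lit 0x0,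
nat_lit 0x0,
nat_lit 0x0,
nat_lit 0x0,
nat_lit 0x0,
nat_lit 0x0,
nat_lit 0x0,
nat_lit 0x0,
nat_lit 0x0,
nat_lit 0x0,
nat_lit 0x0,
nat_lit 0x0,
nat_lit 0x0,
nat_lit 0x0,
nat_lit 0x0,
nat_lit 0x0,
nat_lit 0x0,
nat_lit 0x0,
nat_lit 0x0,
nat_lit 0x0,
nat_lit 0x0,
nat_lit 0x0,
nat_lit 0x0,
nat_lit 0x0,
nat_lit 0x0,
nat_lit 0x0,
nat_lit 0x0,
nat_lit 0x0,
nat_lit 0x0,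
nat_lit 0x0,
nat_lit 0x0,
nat_lit 0x0,
nat_lit 0x0,
nat_lit 0x0,
nat_lit 0x0,
nat_lit 0x0,
nat_lit 0x0,
nat_lit 0x0,
nat_lit 0x0,
nat_lit 0x0,
nat_lit 0x0,
nat_lit 0x0,
nat_lit 0x0,
nat_lit 0x0,
nat_lit 0x0,
nat_lit 0x0,
nat_lit 0x0,
nat_lit 0x0,
nat_lit 0x0,
nat_lit 0x0,
nat_lit 0x0,
nat_lit 0x0,
nat_lit 0x0,
nat_lit 0x0,
nat_lit 0x0,
nat_lit 0x0,
nat_lit 0x0,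
nat_lit 0x0,
nat_lit 0x0,
nat_lit 0x0,
nat_lit 0x0,
nat_lit 0x0,
nat_lit 0x0,
nat_lit 0x0,
nat_lit 0x0,
nat_lit 0x0,
nat_lit 0x0,
nat_lit 0x0,
nat_lit 0x0,
nat_lit 0x0,
nat_lit 0x0,
nat_lit 0x0,
nat_lit 0x0,
nat_lit 0x0,
nat_lit 0x0,
nat_lit 0x0,
nat_lit 0x0,
nat_lit 0x0,
nat_lit 0x0,
nat_lit 0x0,
nat_lit 0x0,
nat_lit 0x0,
nat_lit 0x0,
nat_lit 0x0,
nat_lit 0x0,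
nat_lit 0x0,
nat_lit 0x0,
nat_lit 0x0,
nat_lit 0x0,
nat_lit 0x0,
nat_lit 0x0,
nat_lit 0x0,
nat_lit 0x0,
nat_lit 0x0,
nat_lit 0x0,
nat_lit 0x0,
nat_lit 0x0,
nat_lit 0x0,
nat_lit 0x0,
nat_lit 0x0,
nat_lit 0x0,
nat_lit 0x0,
nat_lit 0x0,
nat_lit 0x0,
nat_lit 0x0,
nat_lit 0x0,
nat_lit 0x0,
nat_lit 0x0,
nat_lit 0x0,
nat_lit 0x0,
nat_lit 0x0,
nat_lit 0x0,
nat_lit 0x0,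
nat_lit 0x0,
nat_lit 0x0,
nat_lit 0x0,
nat_lit 0x0,
nat_lit 0x0,
nat_lit 0x0,
nat_lit 0x0,
nat_lit 0x0,
nat_lit 0x0,
nat_lit 0x0,
nat_lit 0x0,
nat_lit 0x0,
nat_lit 0x0,
nat_lit 0x0,
nat_lit 0x0,
nat_lit 0x0,
nat_lit 0x0,
nat_lit 0x0,
nat_lit 0x0,
nat_lit 0x0,
nat_lit 0x0,
nat_lit 0x0,
nat_lit 0x0,
nat_lit 0x0,
nat_lit 0x0]

theorem facts_ok6144 : checkFacts facts 18364758544493064720 words 128 subs 49982 items6144 6144 = true := by decide +kernel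

noncomputable def items6656 : List ℕ := [
nat_lit 0x0,
nat_lit 0x0,
nat_lit 0x0,
nat_lit 0x0,
nat_lit 0x0,
nat_lit 0x0,
nat_lit 0x0,
nat_lit 0x0,
nat_lit 0x0,
nat_lit 0x0,
nat_lit 0x0,
nat_lit 0x0,
nat_lit 0x0,
nat_lit 0x0,
nat_lit 0x0,
nat_lit 0x0,
nat_lit 0x0,
nat_lit 0x0,
nat_lit 0x0,
nat_lit 0x0,
nat_lit 0x0,
nat_lit 0x0,
nat_lit 0x0,
nat_lit 0x0,
nat_lit 0x0,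
nat_lit 0x0,
nat_lit 0x0,
nat_lit 0x0,
nat_lit 0x0,
nat_lit 0x0,
nat_lit 0x0,
nat_lit 0x0,
nat_lit 0x0,
nat_lit 0x0,
nat_lit 0x0,
nat_lit 0x0,
nat_lit 0x0,
nat_lit 0x0,
nat_lit 0x0,
nat_lit 0x0,
nat_lit 0x0,
nat_lit 0x0,
nat_lit 0x0,
nat_lit 0x0,
nat_lit 0x0,
nat_lit 0x0,
nat_lit 0x0,
nat_lit 0x0,
nat_lit 0x0,
nat_lit 0x0,
nat_lit 0x0,
nat_lit 0x0,
nat_lit 0x0,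
nat_lit 0x0,
nat_lit 0x0,
nat_lit 0x0,
nat_lit 0x0,
nat_lit 0x0,
nat_lit 0x0,
nat_lit 0x0,
nat_lit 0x0,
nat_lit 0x0,
nat_lit 0x0,
nat_lit 0x0,
nat_lit 0x0,
nat_lit 0x0,
nat_lit 0x0,
nat_lit 0x0,
nat_lit 0x0,
nat_lit 0x0,
nat_lit 0x0,
nat_lit 0x0,
nat_lit 0x0,
nat_lit 0x0,
nat_lit 0x0,
nat_lit 0x0,
nat_lit 0x0,
nat_lit 0x0,
nat_lit 0x0,
nat_lit 0x0,
nat_lit 0x0,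
nat_lit 0x0,
nat_lit 0x0,
nat_lit 0x0,
nat_lit 0x0,
nat_lit 0x0,
nat_lit 0x0,
nat_lit 0x0,
nat_lit 0x0,
nat_lit 0x0,
nat_lit 0x0,
nat_lit 0x0,
nat_lit 0x0,
nat_lit 0x0,
nat_lit 0x0,
nat_lit 0x0,
nat_lit 0x0,
nat_lit 0x0,
nat_lit 0x0,
nat_lit 0x0,
nat_lit 0x0,
nat_lit 0x0,
nat_lit 0x0,
nat_lit 0x0,
nat_lit 0x0,
nat_lit 0x0,
nat_lit 0x0,
nat_lit 0x0,
nat_lit 0x0,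
nat_lit 0x0,
nat_lit 0x0,
nat_lit 0x0,
nat_lit 0x0,
nat_lit 0x0,
nat_lit 0x0,
nat_lit 0x0,
nat_lit 0x0,
nat_lit 0x0,
nat_lit 0x0,
nat_lit 0x0,
nat_lit 0x0,
nat_lit 0x0,
nat_lit 0x0,
nat_lit 0x0,
nat_lit 0x0,
nat_lit 0x0,
nat_lit 0x0,
nat_lit 0x0,
nat_lit 0x0,
nat_lit 0x0,
nat_lit 0x0,
nat_lit 0x0,
nat_lit 0x0,
nat_lit 0x0,
nat_lit 0x0,
nat_lit 0x0,
nat_lit 0x0,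
nat_lit 0x0,
nat_lit 0x0,
nat_lit 0x0,
nat_lit 0x0,
nat_lit 0x0,
nat_lit 0x0,
nat_lit 0x0,
nat_lit 0x0,
nat_lit 0x0,
nat_lit 0x0,
nat_lit 0x0,
nat_lit 0x0,
nat_lit 0x0,
nat_lit 0x0,
nat_lit 0x0,
nat_lit 0x0,
nat_lit 0x0,
nat_lit 0x0,
nat_lit 0x0,
nat_lit 0x0,
nat_lit 0x0,
nat_lit 0x0,
nat_lit 0x0,
nat_lit 0x0,
nat_lit 0x0,
nat_lit 0x0,
nat_lit 0x0,
nat_lit 0x0,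
nat_lit 0x0,
nat_lit 0x0,
nat_lit 0x0,
nat_lit 0x0,
nat_lit 0x0,
nat_lit 0x0,
nat_lit 0x0,
nat_lit 0x0,
nat_lit 0x0,
nat_lit 0x0,
nat_lit 0x0,
nat_lit 0x0,
nat_lit 0x0,
nat_lit 0x0,
nat_lit 0x0,
nat_lit 0x0,
nat_lit 0x0,
nat_lit 0x0,
nat_lit 0x0,
nat_lit 0x0,
nat_lit 0x0,
nat_lit 0x0,
nat_lit 0x0,
nat_lit 0x0,
nat_lit 0x0,
nat_lit 0x0,
nat_lit 0x0,
nat_lit 0x0,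
nat_lit 0x0,
nat_lit 0x0,
nat_lit 0x0,
nat_lit 0x0,
nat_lit 0x0,
nat_lit 0x0,
nat_lit 0x0,
nat_lit 0x0,
nat_lit 0x0,
nat_lit 0x0,
nat_lit 0x0,
nat_lit 0x0,
nat_lit 0x0,
nat_lit 0x0,
nat_lit 0x0,
nat_lit 0x0,
nat_lit 0x0,
nat_lit 0x0,
nat_lit 0x0,
nat_lit 0x0,
nat_lit 0x0,
nat_lit 0x0,
nat_lit 0x0,
nat_lit 0x0,
nat_lit 0x0,
nat_lit 0x0,
nat_lit 0x0,
nat_lit 0x0,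
nat_lit 0x0,
nat_lit 0x0,
nat_lit 0x0,
nat_lit 0x0,
nat_lit 0x0,
nat_lit 0x0,
nat_lit 0x0,
nat_lit 0x0,
nat_lit 0x0,
nat_lit 0x0,
nat_lit 0x0,
nat_lit 0x0,
nat_lit 0x0,
nat_lit 0x0,
nat_lit 0x0,
nat_lit 0x0,
nat_lit 0x0,
nat_lit 0x0,
nat_lit 0x0,
nat_lit 0x0,
nat_lit 0x0,
nat_lit 0x0,
nat_lit 0x0,
nat_lit 0x0,
nat_lit 0x0,
nat_lit 0x0,
nat_lit 0x0,
nat_lit 0x0,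
nat_lit 0x0,
nat_lit 0x0,
nat_lit 0x0,
nat_lit 0x0,
nat_lit 0x0,
nat_lit 0x0,
nat_lit 0x0,
nat_lit 0x0,
nat_lit 0x0,
nat_lit 0x0,
nat_lit 0x0,
nat_lit 0x0,
nat_lit 0x0,
nat_lit 0x0,
nat_lit 0x0,
nat_lit 0x0,
nat_lit 0x0,
nat_lit 0x0,
nat_lit 0x0,
nat_lit 0x0,
nat_lit 0x0,
nat_lit 0x0,
nat_lit 0x0,
nat_lit 0x0,
nat_lit 0x0,
nat_lit 0x0,
nat_lit 0x0,
nat_lit 0x0,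
nat_lit 0x0,
nat_lit 0x0,
nat_lit 0x0,
nat_lit 0x0,
nat_lit 0x0,
nat_lit 0x0,
nat_lit 0x0,
nat_lit 0x0,
nat_lit 0x0,
nat_lit 0x0,
nat_lit 0x0,
nat_lit 0x0,
nat_lit 0x0,
nat_lit 0x0,
nat_lit 0x0,
nat_lit 0x0,
nat_lit 0x0,
nat_lit 0x0,
nat_lit 0x0,
nat_lit 0x0,
nat_lit 0x0,
nat_lit 0x0,
nat_lit 0x0,
nat_lit 0x0,
nat_lit 0x0,
nat_lit 0x0,
nat_lit 0x0,
nat_lit 0x0,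
nat_lit 0x0,
nat_lit 0x0,
nat_lit 0x0,
nat_lit 0x0,
nat_lit 0x0,
nat_lit 0x0,
nat_lit 0x0,
nat_lit 0x0,
nat_lit 0x0,
nat_lit 0x0,
nat_lit 0x0,
nat_lit 0x0,
nat_lit 0x0,
nat_lit 0x0,
nat_lit 0x0,
nat_lit 0x0,
nat_lit 0x0,
nat_lit 0x0,
nat_lit 0x0,
nat_lit 0x0,
nat_lit 0x0,
nat_lit 0x0,
nat_lit 0x0,
nat_lit 0x0,
nat_lit 0x0,
nat_lit 0x0,
nat_lit 0x0,
nat_lit 0x0,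
nat_lit 0x0,
nat_lit 0x0,
nat_lit 0x0,
nat_lit 0x0,
nat_lit 0x0,
nat_lit 0x0,
nat_lit 0x0,
nat_lit 0x0,
nat_lit 0x0,
nat_lit 0x0,
nat_lit 0x0,
nat_lit 0x0,
nat_lit 0x0,
nat_lit 0x0,
nat_lit 0x0,
nat_lit 0x0,
nat_lit 0x0,
nat_lit 0x0,
nat_lit 0x0,
nat_lit 0x0,
nat_lit 0x0,
nat_lit 0x0,
nat_lit 0x0,
nat_lit 0x0,
nat_lit 0x0,
nat_lit 0x0,
nat_lit 0x0,
nat_lit 0x0,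
nat_lit 0x0,
nat_lit 0x0,
nat_lit 0x0,
nat_lit 0x0,
nat_lit 0x0,
nat_lit 0x0,
nat_lit 0x0,
nat_lit 0x0,
nat_lit 0x0,
nat_lit 0x0,
nat_lit 0x0,
nat_lit 0x0,
nat_lit 0x0,
nat_lit 0x0,
nat_lit 0x0,
nat_lit 0x0,
nat_lit 0x0,
nat_lit 0x0,
nat_lit 0x0,
nat_lit 0x0,
nat_lit 0x0,
nat_lit 0x0,
nat_lit 0x0,
nat_lit 0x0,
nat_lit 0x0,
nat_lit 0x0,
nat_lit 0x0,
nat_lit 0x0,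
nat_lit 0x0,
nat_lit 0x0,
nat_lit 0x0,
nat_lit 0x0,
nat_lit 0x0,
nat_lit 0x0,
nat_lit 0x0,
nat_lit 0x0,
nat_lit 0x0,
nat_lit 0x0,
nat_lit 0x0,
nat_lit 0x0,
nat_lit 0x0,
nat_lit 0x0,
nat_lit 0x0,
nat_lit 0x0,
nat_lit 0x0,
nat_lit 0x0,
nat_lit 0x0,
nat_lit 0x0,
nat_lit 0x0,
nat_lit 0x0,
nat_lit 0x0,
nat_lit 0x0,
nat_lit 0x0,
nat_lit 0x0,
nat_lit 0x0,
nat_lit 0x0,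
nat_lit 0x0,
nat_lit 0x0,
nat_lit 0x0,
nat_lit 0x0,
nat_lit 0x0,
nat_lit 0x0,
nat_lit 0x0,
nat_lit 0x0,
nat_lit 0x0,
nat_lit 0x0,
nat_lit 0x0,
nat_lit 0x0,
nat_lit 0x0,
nat_lit 0x0,
nat_lit 0x0,
nat_lit 0x0,
nat_lit 0x0,
nat_lit 0x0,
nat_lit 0x0,
nat_lit 0x0,
nat_lit 0x0,
nat_lit 0x0,
nat_lit 0x0,
nat_lit 0x0,
nat_lit 0x0,
nat_lit 0x0,
nat_lit 0x0,
nat_lit 0x0,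
nat_lit 0x0,
nat_lit 0x0,
nat_lit 0x0,
nat_lit 0x0,
nat_lit 0x0,
nat_lit 0x0,
nat_lit 0x0,
nat_lit 0x0,
nat_lit 0x0,
nat_lit 0x0,
nat_lit 0x0,
nat_lit 0x0,
nat_lit 0x0,
nat_lit 0x0,
nat_lit 0x0,
nat_lit 0x0,
nat_lit 0x0,
nat_lit 0x0,
nat_lit 0x0,
nat_lit 0x0,
nat_lit 0x0,
nat_lit 0x0,
nat_lit 0x0,
nat_lit 0x0,
nat_lit 0x0,
nat_lit 0x0,
nat_lit 0x0,
nat_lit 0x0,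
nat_lit 0x0,
nat_lit 0x0,
nat_lit 0x0,
nat_lit 0x0,
nat_lit 0x0,
nat_lit 0x0,
nat_lit 0x0,
nat_lit 0x0,
nat_lit 0x0,
nat_lit 0x0,
nat_lit 0x0,
nat_lit 0x0,
nat_lit 0x0,
nat_lit 0x0,
nat_lit 0x0,
nat_lit 0x0,
nat_lit 0x0,
nat_lit 0x0,
nat_lit 0x0,
nat_lit 0x0,
nat_lit 0x0,
nat_lit 0x0,
nat_lit 0x0,
nat_lit 0x0,
nat_lit 0x0,
nat_lit 0x0,
nat_lit 0x0,
nat_lit 0x0,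
nat_lit 0x0,
nat_lit 0x0,
nat_lit 0x0,
nat_lit 0x0,
nat_lit 0x0,
nat_lit 0x0,
nat_lit 0x0,
nat_lit 0x0,
nat_lit 0x0,
nat_lit 0x0,
nat_lit 0x0]

theorem facts_ok6656 : checkFacts facts 18364758544493064720 words 128 subs 49982 items6656 6656 = true := by decide +kernel

noncomputable def items7168 : List ℕ := [
nat_lit 0x0,
nat_lit 0x0,
nat_lit 0x0,
nat_lit 0x0,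
nat_lit 0x0,
nat_lit 0x0,
nat_lit 0x0,
nat_lit 0x0,
nat_lit 0x0,
nat_lit 0x0,
nat_lit 0x0,
nat_lit 0x0,
nat_lit 0x0,
nat_lit 0x0,
nat_lit 0x0,
nat_lit 0x0,
nat_lit 0x0,
nat_lit 0x0,
nat_lit 0x0,
nat_lit 0x0,
nat_lit 0x0,
nat_lit 0x0,
nat_lit 0x0,
nat_lit 0x0,
nat_lit 0x0,
nat_lit 0x0,
nat_lit 0x0,
nat_lit 0x0,
nat_lit 0x0,
nat_lit 0x0,
nat_lit 0x0,
nat_lit 0x0,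
nat_lit 0x0,
nat_lit 0x0,
nat_lit 0x0,
nat_lit 0x0,
nat_lit 0x0,
nat_lit 0x0,
nat_lit 0x0,
nat_lit 0x0,
nat_lit 0x0,
nat_lit 0x0,
nat_lit 0x0,
nat_lit 0x0,
nat_lit 0x0,
nat_lit 0x0,
nat_lit 0x0,
nat_lit 0x0,
nat_lit 0x0,
nat_lit 0x0,
nat_lit 0x0,
nat_lit 0x0,
nat_lit 0x0,
nat_lit 0x0,
nat_lit 0x0,
nat_lit 0x0,
nat_lit 0x0,
nat_lit 0x0,
nat_lit 0x0,
nat_lit 0x0,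
nat_lit 0x0,
nat_lit 0x0,
nat_lit 0x0,
nat_lit 0x0,
nat_lit 0x0,
nat_lit 0x0,
nat_lit 0x0,
nat_lit 0x0,
nat_lit 0x0,
nat_lit 0x0,
nat_lit 0x0,
nat_lit 0x0,
nat_lit 0x0,
nat_lit 0x0,
nat_lit 0x0,
nat_lit 0x0,
nat_lit 0x0,
nat_lit 0x0,
nat_lit 0x0,
nat_lit 0x0,
nat_lit 0x0,
nat_lit 0x0,
nat_lit 0x0,
nat_lit 0x0,
nat_lit 0x0,
nat_lit 0x0,
nat_lit 0x0,
nat_lit 0x0,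
nat_lit 0x0,
nat_lit 0x0,
nat_lit 0x0,
nat_lit 0x0,
nat_lit 0x0,
nat_lit 0x0,
nat_lit 0x0,
nat_lit 0x0,
nat_lit 0x0,
nat_lit 0x0,
nat_lit 0x0,
nat_lit 0x0,
nat_lit 0x0,
nat_lit 0x0,
nat_lit 0x0,
nat_lit 0x0,
nat_lit 0x0,
nat_lit 0x0,
nat_lit 0x0,
nat_lit 0x0,
nat_lit 0x0,
nat_lit 0x0,
nat_lit 0x0,
nat_lit 0x0,
nat_lit 0x0,
nat_lit 0x0,
nat_lit 0x0,
nat_lit 0x0,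
nat_lit 0x0,
nat_lit 0x0,
nat_lit 0x0,
nat_lit 0x0,
nat_lit 0x0,
nat_lit 0x0,
nat_lit 0x0,
nat_lit 0x0,
nat_lit 0x0,
nat_lit 0x0,
nat_lit 0x0,
nat_lit 0x0,
nat_lit 0x0,
nat_lit 0x0,
nat_lit 0x0,
nat_lit 0x0,
nat_lit 0x0,
nat_lit 0x0,
nat_lit 0x0,
nat_lit 0x0,
nat_lit 0x0,
nat_lit 0x0,
nat_lit 0x0,
nat_lit 0x0,
nat_lit 0x0,
nat_lit 0x0,
nat_lit 0x0,
nat_lit 0x0,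
nat_lit 0x0,
nat_lit 0x0,
nat_lit 0x0,
nat_lit 0x0,
nat_lit 0x0,
nat_lit 0x0,
nat_lit 0x0,
nat_lit 0x0,
nat_lit 0x0,
nat_lit 0x0,
nat_lit 0x0,
nat_lit 0x0,
nat_lit 0x0,
nat_lit 0x0,
nat_lit 0x0,
nat_lit 0x0,
nat_lit 0x0,
nat_lit 0x0,
nat_lit 0x0,
nat_lit 0x0,
nat_lit 0x0,
nat_lit 0x0,
nat_lit 0x0,
nat_lit 0x0,
nat_lit 0x0,
nat_lit 0x0,
nat_lit 0x0,
nat_lit 0x0,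
nat_lit 0x0,
nat_lit 0x0,
nat_lit 0x0,
nat_lit 0x0,
nat_lit 0x0,
nat_lit 0x0,
nat_lit 0x0,
nat_lit 0x0,
nat_lit 0x0,
nat_lit 0x0,
nat_lit 0x0,
nat_lit 0x0,
nat_lit 0x0,
nat_lit 0x0,
nat_lit 0x0,
nat_lit 0x0,
nat_lit 0x0,
nat_lit 0x0,
nat_lit 0x0,
nat_lit 0x0,
nat_lit 0x0,
nat_lit 0x0,
nat_lit 0x0,
nat_lit 0x0,
nat_lit 0x0,
nat_lit 0x0,
nat_lit 0x0,
nat_lit 0x0,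
nat_lit 0x0,
nat_lit 0x0,
nat_lit 0x0,
nat_lit 0x0,
nat_lit 0x0,
nat_lit 0x0,
nat_lit 0x0,
nat_lit 0x0,
nat_lit 0x0,
nat_lit 0x0,
nat_lit 0x0,
nat_lit 0x0,
nat_lit 0x0,
nat_lit 0x0,
nat_lit 0x0,
nat_lit 0x0,
nat_lit 0x0,
nat_lit 0x0,
nat_lit 0x0,
nat_lit 0x0,
nat_lit 0x0,
nat_lit 0x0,
nat_lit 0x0,
nat_lit 0x0,
nat_lit 0x0,
nat_lit 0x0,
nat_lit 0x0,
nat_lit 0x0,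
nat_lit 0x0,
nat_lit 0x0,
nat_lit 0x0,
nat_lit 0x0,
nat_lit 0x0,
nat_lit 0x0,
nat_lit 0x0,
nat_lit 0x0,
nat_lit 0x0,
nat_lit 0x0,
nat_lit 0x0,
nat_lit 0x0,
nat_lit 0x0,
nat_lit 0x0,
nat_lit 0x0,
nat_lit 0x0,
nat_lit 0x0,
nat_lit 0x0,
nat_lit 0x0,
nat_lit 0x0,
nat_lit 0x0,
nat_lit 0x0,
nat_lit 0x0,
nat_lit 0x0,
nat_lit 0x0,
nat_lit 0x0,
nat_lit 0x0,
nat_lit 0x0,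
nat_lit 0x0,
nat_lit 0x0,
nat_lit 0x0,
nat_lit 0x0,
nat_lit 0x0,
nat_lit 0x0,
nat_lit 0x0,
nat_lit 0x0,
nat_lit 0x0,
nat_lit 0x0,
nat_lit 0x0,
nat_lit 0x0,
nat_lit 0x0,
nat_lit 0x0,
nat_lit 0x0,
nat_lit 0x0,
nat_lit 0x0,
nat_lit 0x0,
nat_lit 0x0,
nat_lit 0x0,
nat_lit 0x0,
nat_lit 0x0,
nat_lit 0x0,
nat_lit 0x0,
nat_lit 0x0,
nat_lit 0x0,
nat_lit 0x0,
nat_lit 0x0,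
nat_lit 0x0,
nat_lit 0x0,
nat_lit 0x0,
nat_lit 0x0,
nat_lit 0x0,
nat_lit 0x0,
nat_lit 0x0,
nat_lit 0x0,
nat_lit 0x0,
nat_lit 0x0,
nat_lit 0x0,
nat_lit 0x0,
nat_lit 0x0,
nat_lit 0x0,
nat_lit 0x0,
nat_lit 0x0,
nat_lit 0x0,
nat_lit 0x0,
nat_lit 0x0,
nat_lit 0x0,
nat_lit 0x0,
nat_lit 0x0,
nat_lit 0x0,
nat_lit 0x0,
nat_lit 0x0,
nat_lit 0x0,
nat_lit 0x0,
nat_lit 0x0,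
nat_lit 0x0,
nat_lit 0x0,
nat_lit 0x0,
nat_lit 0x0,
nat_lit 0x0,
nat_lit 0x0,
nat_lit 0x0,
nat_lit 0x0,
nat_lit 0x0,
nat_lit 0x0,
nat_lit 0x0,
nat_lit 0x0,
nat_lit 0x0,
nat_lit 0x0,
nat_lit 0x0,
nat_lit 0x0,
nat_lit 0x0,
nat_lit 0x0,
nat_lit 0x0,
nat_lit 0x0,
nat_lit 0x0,
nat_lit 0x0,
nat_lit 0x0,
nat_lit 0x0,
nat_lit 0x0,
nat_lit 0x0,
nat_lit 0x0,
nat_lit 0x0,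
nat_lit 0x0,
nat_lit 0x0,
nat_lit 0x0,
nat_lit 0x0,
nat_lit 0x0,
nat_lit 0x0,
nat_lit 0x0,
nat_lit 0x0,
nat_lit 0x0,
nat_lit 0x0,
nat_lit 0x0,
nat_lit 0x0,
nat_lit 0x0,
nat_lit 0x0,
nat_lit 0x0,
nat_lit 0x0,
nat_lit 0x0,
nat_lit 0x0,
nat_lit 0x0,
nat_lit 0x0,
nat_lit 0x0,
nat_lit 0x0,
nat_lit 0x0,
nat_lit 0x0,
nat_lit 0x0,
nat_lit 0x0,
nat_lit 0x0,
nat_lit 0x0,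
nat_lit 0x0,
nat_lit 0x0,
nat_lit 0x0,
nat_lit 0x0,
nat_lit 0x0,
nat_lit 0x0,
nat_lit 0x0,
nat_lit 0x0,
nat_lit 0x0,
nat_lit 0x0,
nat_lit 0x0,
nat_lit 0x0,
nat_lit 0x0,
nat_lit 0x0,
nat_lit 0x0,
nat_lit 0x0,
nat_lit 0x0,
nat_lit 0x0,
nat_lit 0x0,
nat_lit 0x0,
nat_lit 0x0,
nat_lit 0x0,
nat_lit 0x0,
nat_lit 0x0,
nat_lit 0x0,
nat_lit 0x0,
nat_lit 0x0,
nat_lit 0x0,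
nat_lit 0x0,
nat_lit 0x0,
nat_lit 0x0,
nat_lit 0x0,
nat_lit 0x0,
nat_lit 0x0,
nat_lit 0x0,
nat_lit 0x0,
nat_lit 0x0,
nat_lit 0x0,
nat_lit 0x0,
nat_lit 0x0,
nat_lit 0x0,
nat_lit 0x0,
nat_lit 0x0,
nat_lit 0x0,
nat_lit 0x0,
nat_lit 0x0,
nat_lit 0x0,
nat_lit 0x0,
nat_lit 0x0,
nat_lit 0x0,
nat_lit 0x0,
nat_lit 0x0,
nat_lit 0x0,
nat_lit 0x0,
nat_lit 0x0,
nat_lit 0x0,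
nat_lit 0x0,
nat_lit 0x0,
nat_lit 0x0,
nat_lit 0x0,
nat_lit 0x0,
nat_lit 0x0,
nat_lit 0x0,
nat_lit 0x0,
nat_lit 0x0,
nat_lit 0x0,
nat_lit 0x0,
nat_lit 0x0,
nat_lit 0x0,
nat_lit 0x0,
nat_lit 0x0,
nat_lit 0x0,
nat_lit 0x0,
nat_lit 0x0,
nat_lit 0x0,
nat_lit 0x0,
nat_lit 0x0,
nat_lit 0x0,
nat_lit 0x0,
nat_lit 0x0,
nat_lit 0x0,
nat_lit 0x0,
nat_lit 0x0,
nat_lit 0x0,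
nat_lit 0x0,
nat_lit 0x0,
nat_lit 0x0,
nat_lit 0x0,
nat_lit 0x0,
nat_lit 0x0,
nat_lit 0x0,
nat_lit 0x0,
nat_lit 0x0,
nat_lit 0x0,
nat_lit 0x0,
nat_lit 0x0,
nat_lit 0x0,
nat_lit 0x0,
nat_lit 0x0,
nat_lit 0x0,
nat_lit 0x0,
nat_lit 0x0,
nat_lit 0x0,
nat_lit 0x0,
nat_lit 0x0,
nat_lit 0x0,
nat_lit 0x0,
nat_lit 0x0,
nat_lit 0x0,
nat_lit 0x0,
nat_lit 0x0,
nat_lit 0x0,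
nat_lit 0x0,
nat_lit 0x0,
nat_lit 0x0,
nat_lit 0x0,
nat_lit 0x0,
nat_lit 0x0,
nat_lit 0x0,
nat_lit 0x0,
nat_lit 0x0,
nat_lit 0x0,
nat_lit 0x0,
nat_lit 0x0,
nat_lit 0x0,
nat_lit 0x0,
nat_lit 0x0,
nat_lit 0x0,
nat_lit 0x0,
nat_lit 0x0,
nat_lit 0x0,
nat_lit 0x0,
nat_lit 0x0,
nat_lit 0x0,
nat_lit 0x0,
nat_lit 0x0,
nat_lit 0x0,
nat_lit 0x0,
nat_lit 0x0,
nat_lit 0x0,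
nat_lit 0x0,
nat_lit 0x0,
nat_lit 0x0,
nat_lit 0x0]

theorem facts_ok7168 : checkFacts facts 18364758544493064720 words 128 subs 49982 items7168 7168 = true := by decide +kernel

noncomputable def items7680 : List ℕ := [
nat_lit 0x0,
nat_lit 0x0,
nat_lit 0x0,
nat_lit 0x0,
nat_lit 0x0,
nat_lit 0x0,
nat_lit 0x0,
nat_lit 0x0,
nat_lit 0x0,
nat_lit 0x0,
nat_lit 0x0,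
nat_lit 0x0,
nat_lit 0x0,
nat_lit 0x0,
nat_lit 0x0,
nat_lit 0x0,
nat_lit 0x0,
nat_lit 0x0,
nat_lit 0x0,
nat_lit 0x0,
nat_lit 0x0,
nat_lit 0x0,
nat_lit 0x0,
nat_lit 0x0,
nat_lit 0x0,
nat_lit 0x0,
nat_lit 0x0,
nat_lit 0x0,
nat_lit 0x0,
nat_lit 0x0,
nat_lit 0x0,
nat_lit 0x0,
nat_lit 0x0,
nat_lit 0x0,
nat_lit 0x0,
nat_lit 0x0,
nat_lit 0x0,
nat_lit 0x0,
nat_lit 0x0,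
nat_lit 0x0,
nat_lit 0x0,
nat_lit 0x0,
nat_lit 0x0,
nat_lit 0x0,
nat_lit 0x0,
nat_lit 0x0,
nat_lit 0x0,
nat_lit 0x0,
nat_lit 0x0,
nat_lit 0x0,
nat_lit 0x0,
nat_lit 0x0,
nat_lit 0x0,
nat_lit 0x0,
nat_lit 0x0,
nat_lit 0x0,
nat_lit 0x0,
nat_lit 0x0,
nat_lit 0x0,
nat_lit 0x0,
nat_lit 0x0,
nat_lit 0x0,
nat_lit 0x0,
nat_lit 0x0,
nat_lit 0x0,
nat_lit 0x0,
nat_lit 0x0,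
nat_lit 0x0,
nat_lit 0x0,
nat_lit 0x0,
nat_lit 0x0,
nat_lit 0x0,
nat_lit 0x0,
nat_lit 0x0,
nat_lit 0x0,
nat_lit 0x0,
nat_lit 0x0,
nat_lit 0x0,
nat_lit 0x0,
nat_lit 0x0,
nat_lit 0x0,
nat_lit 0x0,
nat_lit 0x0,
nat_lit 0x0,
nat_lit 0x0,
nat_lit 0x0,
nat_lit 0x0,
nat_lit 0x0,
nat_lit 0x0,
nat_lit 0x0,
nat_lit 0x0,
nat_lit 0x0,
nat_lit 0x0,
nat_lit 0x0,
nat_lit 0x0,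
nat_lit 0x0,
nat_lit 0x0,
nat_lit 0x0,
nat_lit 0x0,
nat_lit 0x0,
nat_lit 0x0,
nat_lit 0x0,
nat_lit 0x0,
nat_lit 0x0,
nat_lit 0x0,
nat_lit 0x0,
nat_lit 0x0,
nat_lit 0x0,
nat_lit 0x0,
nat_lit 0x0,
nat_lit 0x0,
nat_lit 0x0,
nat_lit 0x0,
nat_lit 0x0,
nat_lit 0x0,
nat_lit 0x0,
nat_lit 0x0,
nat_lit 0x0,
nat_lit 0x0,
nat_lit 0x0,
nat_lit 0x0,
nat_lit 0x0,
nat_lit 0x0,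
nat_lit 0x0,
nat_lit 0x0,
nat_lit 0x0,
nat_lit 0x0,
nat_lit 0x0,
nat_lit 0x0,
nat_lit 0x0,
nat_lit 0x0,
nat_lit 0x0,
nat_lit 0x0,
nat_lit 0x0,
nat_lit 0x0,
nat_lit 0x0,
nat_lit 0x0,
nat_lit 0x0,
nat_lit 0x0,
nat_lit 0x0,
nat_lit 0x0,
nat_lit 0x0,
nat_lit 0x0,
nat_lit 0x0,
nat_lit 0x0,
nat_lit 0x0,
nat_lit 0x0,
nat_lit 0x0,
nat_lit 0x0,
nat_lit 0x0,
nat_lit 0x0,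
nat_lit 0x0,
nat_lit 0x0,
nat_lit 0x0,
nat_lit 0x0,
nat_lit 0x0,
nat_lit 0x0,
nat_lit 0x0,
nat_lit 0x0,
nat_lit 0x0,
nat_lit 0x0,
nat_lit 0x0,
nat_lit 0x0,
nat_lit 0x0,
nat_lit 0x0,
nat_lit 0x0,
nat_lit 0x0,
nat_lit 0x0,
nat_lit 0x0,
nat_lit 0x0,
nat_lit 0x0,
nat_lit 0x0,
nat_lit 0x0,
nat_lit 0x0,
nat_lit 0x0,
nat_lit 0x0,
nat_lit 0x0,
nat_lit 0x0,
nat_lit 0x0,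
nat_lit 0x0,
nat_lit 0x0,
nat_lit 0x0,
nat_lit 0x0,
nat_lit 0x0,
nat_lit 0x0,
nat_lit 0x0,
nat_lit 0x0,
nat_lit 0x0,
nat_lit 0x0,
nat_lit 0x0,
nat_lit 0x0,
nat_lit 0x0,
nat_lit 0x0,
nat_lit 0x0,
nat_lit 0x0,
nat_lit 0x0,
nat_lit 0x0,
nat_lit 0x0,
nat_lit 0x0,
nat_lit 0x0,
nat_lit 0x0,
nat_lit 0x0,
nat_lit 0x0,
nat_lit 0x0,
nat_lit 0x0,
nat_lit 0x0,
nat_lit 0x0,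
nat_lit 0x0,
nat_lit 0x0,
nat_lit 0x0,
nat_lit 0x0,
nat_lit 0x0,
nat_lit 0x0,
nat_lit 0x0,
nat_lit 0x0,
nat_lit 0x0,
nat_lit 0x0,
nat_lit 0x0,
nat_lit 0x0,
nat_lit 0x0,
nat_lit 0x0,
nat_lit 0x0,
nat_lit 0x0,
nat_lit 0x0,
nat_lit 0x0,
nat_lit 0x0,
nat_lit 0x0,
nat_lit 0x0,
nat_lit 0x0,
nat_lit 0x0,
nat_lit 0x0,
nat_lit 0x0,
nat_lit 0x0,
nat_lit 0x0,
nat_lit 0x0,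
nat_lit 0x0,
nat_lit 0x0,
nat_lit 0x0,
nat_lit 0x0,
nat_lit 0x0,
nat_lit 0x0,
nat_lit 0x0,
nat_lit 0x0,
nat_lit 0x0,
nat_lit 0x0,
nat_lit 0x0,
nat_lit 0x0,
nat_lit 0x0,
nat_lit 0x0,
nat_lit 0x0,
nat_lit 0x0,
nat_lit 0x0,
nat_lit 0x0,
nat_lit 0x0,
nat_lit 0x0,
nat_lit 0x0,
nat_lit 0x0,
nat_lit 0x0,
nat_lit 0x0,
nat_lit 0x0,
nat_lit 0x0,
nat_lit 0x0,
nat_lit 0x0,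
nat_lit 0x0,
nat_lit 0x0,
nat_lit 0x0,
nat_lit 0x0,
nat_lit 0x0,
nat_lit 0x0,
nat_lit 0x0,
nat_lit 0x0,
nat_lit 0x0,
nat_lit 0x0,
nat_lit 0x0,
nat_lit 0x0,
nat_lit 0x0,
nat_lit 0x0,
nat_lit 0x0,
nat_lit 0x0,
nat_lit 0x0,
nat_lit 0x0,
nat_lit 0x0,
nat_lit 0x0,
nat_lit 0x0,
nat_lit 0x0,
nat_lit 0x0,
nat_lit 0x0,
nat_lit 0x0,
nat_lit 0x0,
nat_lit 0x0,
nat_lit 0x0,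
nat_lit 0x0,
nat_lit 0x0,
nat_lit 0x0,
nat_lit 0x0,
nat_lit 0x0,
nat_lit 0x0,
nat_lit 0x0,
nat_lit 0x0,
nat_lit 0x0,
nat_lit 0x0,
nat_lit 0x0,
nat_lit 0x0,
nat_lit 0x0,
nat_lit 0x0,
nat_lit 0x0,
nat_lit 0x0,
nat_lit 0x0,
nat_lit 0x0,
nat_lit 0x0,
nat_lit 0x0,
nat_lit 0x0,
nat_lit 0x0,
nat_lit 0x0,
nat_lit 0x0,
nat_lit 0x0,
nat_lit 0x0,
nat_lit 0x0,
nat_lit 0x0,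
nat_lit 0x0,
nat_lit 0x0,
nat_lit 0x0,
nat_lit 0x0,
nat_lit 0x0,
nat_lit 0x0,
nat_lit 0x0,
nat_lit 0x0,
nat_lit 0x0,
nat_lit 0x0,
nat_lit 0x0,
nat_lit 0x0,
nat_lit 0x0,
nat_lit 0x0,
nat_lit 0x0,
nat_lit 0x0,
nat_lit 0x0,
nat_lit 0x0,
nat_lit 0x0,
nat_lit 0x0,
nat_lit 0x0,
nat_lit 0x0,
nat_lit 0x0,
nat_lit 0x0,
nat_lit 0x0,
nat_lit 0x0,
nat_lit 0x0,
nat_lit 0x0,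
nat_lit 0x0,
nat_lit 0x0,
nat_lit 0x0,
nat_lit 0x0,
nat_lit 0x0,
nat_lit 0x0,
nat_lit 0x0,
nat_lit 0x0,
nat_lit 0x0,
nat_lit 0x0,
nat_lit 0x0,
nat_lit 0x0,
nat_lit 0x0,
nat_lit 0x0,
nat_lit 0x0,
nat_lit 0x0,
nat_lit 0x0,
nat_lit 0x0,
nat_lit 0x0,
nat_lit 0x0,
nat_lit 0x0,
nat_lit 0x0,
nat_lit 0x0,
nat_lit 0x0,
nat_lit 0x0,
nat_lit 0x0,
nat_lit 0x0,
nat_lit 0x0,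
nat_lit 0x0,
nat_lit 0x0,
nat_lit 0x0,
nat_lit 0x0,
nat_lit 0x0,
nat_lit 0x0,
nat_lit 0x0,
nat_lit 0x0,
nat_lit 0x0,
nat_lit 0x0,
nat_lit 0x0,
nat_lit 0x0,
nat_lit 0x0,
nat_lit 0x0,
nat_lit 0x0,
nat_lit 0x0,
nat_lit 0x0,
nat_lit 0x0,
nat_lit 0x0,
nat_lit 0x0,
nat_lit 0x0,
nat_lit 0x0,
nat_lit 0x0,
nat_lit 0x0,
nat_lit 0x0,
nat_lit 0x0,
nat_lit 0x0,
nat_lit 0x0,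
nat_lit 0x0,
nat_lit 0x0,
nat_lit 0x0,
nat_lit 0x0,
nat_lit 0x0,
nat_lit 0x0,
nat_lit 0x0,
nat_lit 0x0,
nat_lit 0x0,
nat_lit 0x0,
nat_lit 0x0,
nat_lit 0x0,
nat_lit 0x0,
nat_lit 0x0,
nat_lit 0x0,
nat_lit 0x0,
nat_lit 0x0,
nat_lit 0x0,
nat_lit 0x0,
nat_lit 0x0,
nat_lit 0x0,
nat_lit 0x0,
nat_lit 0x0,
nat_lit 0x0,
nat_lit 0x0,
nat_lit 0x0,
nat_lit 0x0,
nat_lit 0x0,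
nat_lit 0x0,
nat_lit 0x0,
nat_lit 0x0,
nat_lit 0x0,
nat_lit 0x0,
nat_lit 0x0,
nat_lit 0x0,
nat_lit 0x0,
nat_lit 0x0,
nat_lit 0x0,
nat_lit 0x0,
nat_lit 0x0,
nat_lit 0x0,
nat_lit 0x0,
nat_lit 0x0,
nat_lit 0x0,
nat_lit 0x0,
nat_lit 0x0,
nat_lit 0x0,
nat_lit 0x0,
nat_lit 0x0,
nat_lit 0x0,
nat_lit 0x0,
nat_lit 0x0,
nat_lit 0x0,
nat_lit 0x0,
nat_lit 0x0,
nat_lit 0x0,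
nat_lit 0x0,
nat_lit 0x0,
nat_lit 0x0,
nat_lit 0x0,
nat_lit 0x0,
nat_lit 0x0,
nat_lit 0x0,
nat_lit 0x0,
nat_lit 0x0,
nat_lit 0x0,
nat_lit 0x0,
nat_lit 0x0,
nat_lit 0x0,
nat_lit 0x0,
nat_lit 0x0,
nat_lit 0x0,
nat_lit 0x0,
nat_lit 0x0,
nat_lit 0x0,
nat_lit 0x0,
nat_lit 0x0,
nat_lit 0x0,
nat_lit 0x0,
nat_lit 0x0,
nat_lit 0x0,
nat_lit 0x0,
nat_lit 0x0,
nat_lit 0x0,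
nat_lit 0x0,
nat_lit 0x0,
nat_lit 0x0,
nat_lit 0x0,
nat_lit 0x0,
nat_lit 0x0,
nat_lit 0x0,
nat_lit 0x0,
nat_lit 0x0,
nat_lit 0x0,
nat_lit 0x0,
nat_lit 0x0,
nat_lit 0x0,
nat_lit 0x0,
nat_lit 0x0,
nat_lit 0x0,
nat_lit 0x0,
nat_lit 0x0,
nat_lit 0x0,
nat_lit 0x0,
nat_lit 0x0,
nat_lit 0x0,
nat_lit 0x0,
nat_lit 0x0,
nat_lit 0x0]

theorem facts_ok7680 : checkFacts facts 18364758544493064720 words 128 subs 49982 items7680 7680 = true := by decide +kernel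

noncomputable def items8192 : List ℕ := [
nat_lit 0x0,
nat_lit 0x0,
nat_lit 0x0,
nat_lit 0x0,
nat_lit 0x0,
nat_lit 0x0,
nat_lit 0x0,
nat_lit 0x0,
nat_lit 0x0,
nat_lit 0x0,
nat_lit 0x0,
nat_lit 0x0,
nat_lit 0x0,
nat_lit 0x0,
nat_lit 0x0,
nat_lit 0x0,
nat_lit 0x0,
nat_lit 0x0,
nat_lit 0x0,
nat_lit 0x0,
nat_lit 0x0,
nat_lit 0x0,
nat_lit 0x0,
nat_lit 0x0,
nat_lit 0x0,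
nat_lit 0x0,
nat_lit 0x0,
nat_lit 0x0,
nat_lit 0x0,
nat_lit 0x0,
nat_lit 0x0,
nat_lit 0x0,
nat_lit 0x0,
nat_lit 0x0,
nat_lit 0x0,
nat_lit 0x0,
nat_lit 0x0,
nat_lit 0x0,
nat_lit 0x0,
nat_lit 0x0,
nat_lit 0x0,
nat_lit 0x0,
nat_lit 0x0,
nat_lit 0x0,
nat_lit 0x0,
nat_lit 0x0,
nat_lit 0x0,
nat_lit 0x0,
nat_lit 0x0,
nat_lit 0x0,
nat_lit 0x0,
nat_lit 0x0,
nat_lit 0x0,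
nat_lit 0x0,
nat_lit 0x0,
nat_lit 0x0,
nat_lit 0x0,
nat_lit 0x0,
nat_lit 0x0,
nat_lit 0x0,
nat_lit 0x0,
nat_lit 0x0,
nat_lit 0x0,
nat_lit 0x0,
nat_lit 0x0,
nat_lit 0x0,
nat_lit 0x0,
nat_lit 0x0,
nat_lit 0x0,
nat_lit 0x0,
nat_lit 0x0,
nat_lit 0x0,
nat_lit 0x0,
nat_lit 0x0,
nat_lit 0x0,
nat_lit 0x0,
nat_lit 0x0,
nat_lit 0x0,
nat_lit 0x0,
nat_lit 0x0,
nat_lit 0x0,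
nat_lit 0x0,
nat_lit 0x0,
nat_lit 0x0,
nat_lit 0x0,
nat_lit 0x0,
nat_lit 0x0,
nat_lit 0x0,
nat_lit 0x0,
nat_lit 0x0,
nat_lit 0x0,
nat_lit 0x0,
nat_lit 0x0,
nat_lit 0x0,
nat_lit 0x0,
nat_lit 0x0,
nat_lit 0x0,
nat_lit 0x0,
nat_lit 0x0,
nat_lit 0x0,
nat_lit 0x0,
nat_lit 0x0,
nat_lit 0x0,
nat_lit 0x0,
nat_lit 0x0,
nat_lit 0x0,
nat_lit 0x0,
nat_lit 0x0,
nat_lit 0x0,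
nat_lit 0x0,
nat_lit 0x0,
nat_lit 0x0,
nat_lit 0x0,
nat_lit 0x0,
nat_lit 0x0,
nat_lit 0x0,
nat_lit 0x0,
nat_lit 0x0,
nat_lit 0x0,
nat_lit 0x0,
nat_lit 0x0,
nat_lit 0x0,
nat_lit 0x0,
nat_lit 0x0,
nat_lit 0x0,
nat_lit 0x0,
nat_lit 0x0,
nat_lit 0x0,
nat_lit 0x0,
nat_lit 0x0,
nat_lit 0x0,
nat_lit 0x0,
nat_lit 0x0,
nat_lit 0x0,
nat_lit 0x0,
nat_lit 0x0,
nat_lit 0x0,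
nat_lit 0x0,
nat_lit 0x0,
nat_lit 0x0,
nat_lit 0x0,
nat_lit 0x0,
nat_lit 0x0,
nat_lit 0x0,
nat_lit 0x0,
nat_lit 0x0,
nat_lit 0x0,
nat_lit 0x0,
nat_lit 0x0,
nat_lit 0x0,
nat_lit 0x0,
nat_lit 0x0,
nat_lit 0x0,
nat_lit 0x0,
nat_lit 0x0,
nat_lit 0x0,
nat_lit 0x0,
nat_lit 0x0,
nat_lit 0x0,
nat_lit 0x0,
nat_lit 0x0,
nat_lit 0x0,
nat_lit 0x0,
nat_lit 0x0,
nat_lit 0x0,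
nat_lit 0x0,
nat_lit 0x0,
nat_lit 0x0,
nat_lit 0x0,
nat_lit 0x0,
nat_lit 0x0,
nat_lit 0x0,
nat_lit 0x0,
nat_lit 0x0,
nat_lit 0x0,
nat_lit 0x0,
nat_lit 0x0,
nat_lit 0x0,
nat_lit 0x0,
nat_lit 0x0,
nat_lit 0x0,
nat_lit 0x0,
nat_lit 0x0,
nat_lit 0x0,
nat_lit 0x0,
nat_lit 0x0,
nat_lit 0x0,
nat_lit 0x0,
nat_lit 0x0,
nat_lit 0x0,
nat_lit 0x0,
nat_lit 0x0,
nat_lit 0x0,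
nat_lit 0x0,
nat_lit 0x0,
nat_lit 0x0,
nat_lit 0x0,
nat_lit 0x0,
nat_lit 0x0,
nat_lit 0x0,
nat_lit 0x0,
nat_lit 0x0,
nat_lit 0x0,
nat_lit 0x0,
nat_lit 0x0,
nat_lit 0x0,
nat_lit 0x0,
nat_lit 0x0,
nat_lit 0x0,
nat_lit 0x0,
nat_lit 0x0,
nat_lit 0x0,
nat_lit 0x0,
nat_lit 0x0,
nat_lit 0x0,
nat_lit 0x0,
nat_lit 0x0,
nat_lit 0x0,
nat_lit 0x0,
nat_lit 0x0,
nat_lit 0x0,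
nat_lit 0x0,
nat_lit 0x0,
nat_lit 0x0,
nat_lit 0x0,
nat_lit 0x0,
nat_lit 0x0,
nat_lit 0x0,
nat_lit 0x0,
nat_lit 0x0,
nat_lit 0x0,
nat_lit 0x0,
nat_lit 0x0,
nat_lit 0x0,
nat_lit 0x0,
nat_lit 0x0,
nat_lit 0x0,
nat_lit 0x0,
nat_lit 0x0,
nat_lit 0x0,
nat_lit 0x0,
nat_lit 0x0,
nat_lit 0x0,
nat_lit 0x0,
nat_lit 0x0,
nat_lit 0x0,
nat_lit 0x0,
nat_lit 0x0,
nat_lit 0x0,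
nat_lit 0x0,
nat_lit 0x0,
nat_lit 0x0,
nat_lit 0x0,
nat_lit 0x0,
nat_lit 0x0,
nat_lit 0x0,
nat_lit 0x0,
nat_lit 0x0,
nat_lit 0x0,
nat_lit 0x0,
nat_lit 0x0,
nat_lit 0x0,
nat_lit 0x0,
nat_lit 0x0,
nat_lit 0x0,
nat_lit 0x0,
nat_lit 0x0,
nat_lit 0x0,
nat_lit 0x0,
nat_lit 0x0,
nat_lit 0x0,
nat_lit 0x0,
nat_lit 0x0,
nat_lit 0x0,
nat_lit 0x0,
nat_lit 0x0,
nat_lit 0x0,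
nat_lit 0x0,
nat_lit 0x0,
nat_lit 0x0,
nat_lit 0x0,
nat_lit 0x0,
nat_lit 0x0,
nat_lit 0x0,
nat_lit 0x0,
nat_lit 0x0,
nat_lit 0x0,
nat_lit 0x0,
nat_lit 0x0,
nat_lit 0x0,
nat_lit 0x0,
nat_lit 0x0,
nat_lit 0x0,
nat_lit 0x0,
nat_lit 0x0,
nat_lit 0x0,
nat_lit 0x0,
nat_lit 0x0,
nat_lit 0x0,
nat_lit 0x0,
nat_lit 0x0,
nat_lit 0x0,
nat_lit 0x0,
nat_lit 0x0,
nat_lit 0x0,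
nat_lit 0x0,
nat_lit 0x0,
nat_lit 0x0,
nat_lit 0x0,
nat_lit 0x0,
nat_lit 0x0,
nat_lit 0x0,
nat_lit 0x0,
nat_lit 0x0,
nat_lit 0x0,
nat_lit 0x0,
nat_lit 0x0,
nat_lit 0x0,
nat_lit 0x0,
nat_lit 0x0,
nat_lit 0x0,
nat_lit 0x0,
nat_lit 0x0,
nat_lit 0x0,
nat_lit 0x0,
nat_lit 0x0,
nat_lit 0x0,
nat_lit 0x0,
nat_lit 0x0,
nat_lit 0x0,
nat_lit 0x0,
nat_lit 0x0,
nat_lit 0x0,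
nat_lit 0x0,
nat_lit 0x0,
nat_lit 0x0,
nat_lit 0x0,
nat_lit 0x0,
nat_lit 0x0,
nat_lit 0x0,
nat_lit 0x0,
nat_lit 0x0,
nat_lit 0x0,
nat_lit 0x0,
nat_lit 0x0,
nat_lit 0x0,
nat_lit 0x0,
nat_lit 0x0,
nat_lit 0x0,
nat_lit 0x0,
nat_lit 0x0,
nat_lit 0x0,
nat_lit 0x0,
nat_lit 0x0,
nat_lit 0x0,
nat_lit 0x0,
nat_lit 0x0,
nat_lit 0x0,
nat_lit 0x0,
nat_lit 0x0,
nat_lit 0x0,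
nat_lit 0x0,
nat_lit 0x0,
nat_lit 0x0,
nat_lit 0x0,
nat_lit 0x0,
nat_lit 0x0,
nat_lit 0x0,
nat_lit 0x0,
nat_lit 0x0,
nat_lit 0x0,
nat_lit 0x0,
nat_lit 0x0,
nat_lit 0x0,
nat_lit 0x0,
nat_lit 0x0,
nat_lit 0x0,
nat_lit 0x0,
nat_lit 0x0,
nat_lit 0x0,
nat_lit 0x0,
nat_lit 0x0,
nat_lit 0x0,
nat_lit 0x0,
nat_lit 0x0,
nat_lit 0x0,
nat_lit 0x0,
nat_lit 0x0,
nat_lit 0x0,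
nat_lit 0x0,
nat_lit 0x0,
nat_lit 0x0,
nat_lit 0x0,
nat_lit 0x0,
nat_lit 0x0,
nat_lit 0x0,
nat_lit 0x0,
nat_lit 0x0,
nat_lit 0x0,
nat_lit 0x0,
nat_lit 0x0,
nat_lit 0x0,
nat_lit 0x0,
nat_lit 0x0,
nat_lit 0x0,
nat_lit 0x0,
nat_lit 0x0,
nat_lit 0x0,
nat_lit 0x0,
nat_lit 0x0,
nat_lit 0x0,
nat_lit 0x0,
nat_lit 0x0,
nat_lit 0x0,
nat_lit 0x0,
nat_lit 0x0,
nat_lit 0x0,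
nat_lit 0x0,
nat_lit 0x0,
nat_lit 0x0,
nat_lit 0x0,
nat_lit 0x0,
nat_lit 0x0,
nat_lit 0x0,
nat_lit 0x0,
nat_lit 0x0,
nat_lit 0x0,
nat_lit 0x0,
nat_lit 0x0,
nat_lit 0x0,
nat_lit 0x0,
nat_lit 0x0,
nat_lit 0x0,
nat_lit 0x0,
nat_lit 0x0,
nat_lit 0x0,
nat_lit 0x0,
nat_lit 0x0,
nat_lit 0x0,
nat_lit 0x0,
nat_lit 0x0,
nat_lit 0x0,
nat_lit 0x0,
nat_lit 0x0,
nat_lit 0x0,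
nat_lit 0x0,
nat_lit 0x0,
nat_lit 0x0,
nat_lit 0x0,
nat_lit 0x0,
nat_lit 0x0,
nat_lit 0x0,
nat_lit 0x0,
nat_lit 0x0,
nat_lit 0x0,
nat_lit 0x0,
nat_lit 0x0,
nat_lit 0x0,
nat_lit 0x0,
nat_lit 0x0,
nat_lit 0x0,
nat_lit 0x0,
nat_lit 0x0,
nat_lit 0x0,
nat_lit 0x0,
nat_lit 0x0,
nat_lit 0x0,
nat_lit 0x0,
nat_lit 0x0,
nat_lit 0x0,
nat_lit 0x0,
nat_lit 0x0,
nat_lit 0x0,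
nat_lit 0x0,
nat_lit 0x0,
nat_lit 0x0,
nat_lit 0x0,
nat_lit 0x0,
nat_lit 0x0,
nat_lit 0x0,
nat_lit 0x0,
nat_lit 0x0,
nat_lit 0x0,
nat_lit 0x0,
nat_lit 0x0,
nat_lit 0x0,
nat_lit 0x0,
nat_lit 0x0,
nat_lit 0x0,
nat_lit 0x0,
nat_lit 0x0,
nat_lit 0x0,
nat_lit 0x0,
nat_lit 0x0,
nat_lit 0x0,
nat_lit 0x0,
nat_lit 0x0,
nat_lit 0x0,
nat_lit 0x0,
nat_lit 0x0,
nat_lit 0x0,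
nat_lit 0x0,
nat_lit 0x0,
nat_lit 0x0,
nat_lit 0x0,
nat_lit 0x0,
nat_lit 0x0,
nat_lit 0x0,
nat_lit 0x0,
nat_lit 0x0,
nat_lit 0x0,
nat_lit 0x0]

theorem facts_ok8192 : checkFacts facts 18364758544493064720 words 128 subs 49982 items8192 8192 = true := by decide +kernel

noncomputable def items8704 : List ℕ := [
nat_lit 0x0,
nat_lit 0x0,
nat_lit 0x0,
nat_lit 0x0,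
nat_lit 0x0,
nat_lit 0x0,
nat_lit 0x0,
nat_lit 0x0,
nat_lit 0x0,
nat_lit 0x0,
nat_lit 0x0,
nat_lit 0x0,
nat_lit 0x0,
nat_lit 0x0,
nat_lit 0x0,
nat_lit 0x0,
nat_lit 0x0,
nat_lit 0x0,
nat_lit 0x0,
nat_lit 0x0,
nat_lit 0x0,
nat_lit 0x0,
nat_lit 0x0,
nat_lit 0x0,
nat_lit 0x0,
nat_lit 0x0,
nat_lit 0x0,
nat_lit 0x0,
nat_lit 0x0,
nat_lit 0x0,
nat_lit 0x0,
nat_lit 0x0,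
nat_lit 0x0,
nat_lit 0x0,
nat_lit 0x0,
nat_lit 0x0,
nat_lit 0x0,
nat_lit 0x0,
nat_lit 0x0,
nat_lit 0x0,
nat_lit 0x0,
nat_lit 0x0,
nat_lit 0x0,
nat_lit 0x0,
nat_lit 0x0,
nat_lit 0x0,
nat_lit 0x0,
nat_lit 0x0,
nat_lit 0x0,
nat_lit 0x0,
nat_lit 0x0,
nat_lit 0x0,
nat_lit 0x0,
nat_lit 0x0,
nat_lit 0x0,
nat_lit 0x0,
nat_lit 0x0,
nat_lit 0x0,
nat_lit 0x0,
nat_lit 0x0,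
nat_lit 0x0,
nat_lit 0x0,
nat_lit 0x0,
nat_lit 0x0,
nat_lit 0x0,
nat_lit 0x0,
nat_lit 0x0,
nat_lit 0x0,
nat_lit 0x0,
nat_lit 0x0,
nat_lit 0x0,
nat_lit 0x0,
nat_lit 0x0,
nat_lit 0x0,
nat_lit 0x0,
nat_lit 0x0,
nat_lit 0x0,
nat_lit 0x0,
nat_lit 0x0,
nat_lit 0x0,
nat_lit 0x0,
nat_lit 0x0,
nat_lit 0x0,
nat_lit 0x0,
nat_lit 0x0,
nat_lit 0x0,
nat_lit 0x0,
nat_lit 0x0,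
nat_lit 0x0,
nat_lit 0x0,
nat_lit 0x0,
nat_lit 0x0,
nat_lit 0x0,
nat_lit 0x0,
nat_lit 0x0,
nat_lit 0x0,
nat_lit 0x0,
nat_lit 0x0,
nat_lit 0x0,
nat_lit 0x0,
nat_lit 0x0,
nat_lit 0x0,
nat_lit 0x0,
nat_lit 0x0,
nat_lit 0x0,
nat_lit 0x0,
nat_lit 0x0,
nat_lit 0x0,
nat_lit 0x0,
nat_lit 0x0,
nat_lit 0x0,
nat_lit 0x0,
nat_lit 0x0,
nat_lit 0x0,
nat_lit 0x0,
nat_lit 0x0,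
nat_lit 0x0,
nat_lit 0x0,
nat_lit 0x0,
nat_lit 0x0,
nat_lit 0x0,
nat_lit 0x0,
nat_lit 0x0,
nat_lit 0x0,
nat_lit 0x0,
nat_lit 0x0,
nat_lit 0x0,
nat_lit 0x0,
nat_lit 0x0,
nat_lit 0x0,
nat_lit 0x0,
nat_lit 0x0,
nat_lit 0x0,
nat_lit 0x0,
nat_lit 0x0,
nat_lit 0x0,
nat_lit 0x0,
nat_lit 0x0,
nat_lit 0x0,
nat_lit 0x0,
nat_lit 0x0,
nat_lit 0x0,
nat_lit 0x0,
nat_lit 0x0,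
nat_lit 0x0,
nat_lit 0x0,
nat_lit 0x0,
nat_lit 0x0,
nat_lit 0x0,
nat_lit 0x0,
nat_lit 0x0,
nat_lit 0x0,
nat_lit 0x0,
nat_lit 0x0,
nat_lit 0x0,
nat_lit 0x0,
nat_lit 0x0,
nat_lit 0x0,
nat_lit 0x0,
nat_lit 0x0,
nat_lit 0x0,
nat_lit 0x0,
nat_lit 0x0,
nat_lit 0x0,
nat_lit 0x0,
nat_lit 0x0,
nat_lit 0x0,
nat_lit 0x0,
nat_lit 0x0,
nat_lit 0x0,
nat_lit 0x0,
nat_lit 0x0,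
nat_lit 0x0,
nat_lit 0x0,
nat_lit 0x0,
nat_lit 0x0,
nat_lit 0x0,
nat_lit 0x0,
nat_lit 0x0,
nat_lit 0x0,
nat_lit 0x0,
nat_lit 0x0,
nat_lit 0x0,
nat_lit 0x0,
nat_lit 0x0,
nat_lit 0x0,
nat_lit 0x0,
nat_lit 0x0,
nat_lit 0x0,
nat_lit 0x0,
nat_lit 0x0,
nat_lit 0x0,
nat_lit 0x0,
nat_lit 0x0,
nat_lit 0x0,
nat_lit 0x0,
nat_lit 0x0,
nat_lit 0x0,
nat_lit 0x0,
nat_lit 0x0,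
nat_lit 0x0,
nat_lit 0x0,
nat_lit 0x0,
nat_lit 0x0,
nat_lit 0x0,
nat_lit 0x0,
nat_lit 0x0,
nat_lit 0x0,
nat_lit 0x0,
nat_lit 0x0,
nat_lit 0x0,
nat_lit 0x0,
nat_lit 0x0,
nat_lit 0x0,
nat_lit 0x0,
nat_lit 0x0,
nat_lit 0x0,
nat_lit 0x0,
nat_lit 0x0,
nat_lit 0x0,
nat_lit 0x0,
nat_lit 0x0,
nat_lit 0x0,
nat_lit 0x0,
nat_lit 0x0,
nat_lit 0x0,
nat_lit 0x0,
nat_lit 0x0,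
nat_lit 0x0,
nat_lit 0x0,
nat_lit 0x0,
nat_lit 0x0,
nat_lit 0x0,
nat_lit 0x0,
nat_lit 0x0,
nat_lit 0x0,
nat_lit 0x0,
nat_lit 0x0,
nat_lit 0x0,
nat_lit 0x0,
nat_lit 0x0,
nat_lit 0x0,
nat_lit 0x0,
nat_lit 0x0,
nat_lit 0x0,
nat_lit 0x0,
nat_lit 0x0,
nat_lit 0x0,
nat_lit 0x0,
nat_lit 0x0,
nat_lit 0x0,
nat_lit 0x0,
nat_lit 0x0,
nat_lit 0x0,
nat_lit 0x0,
nat_lit 0x0,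
nat_lit 0x0,
nat_lit 0x0,
nat_lit 0x0,
nat_lit 0x0,
nat_lit 0x0,
nat_lit 0x0,
nat_lit 0x0,
nat_lit 0x0,
nat_lit 0x0,
nat_lit 0x0,
nat_lit 0x0,
nat_lit 0x0,
nat_lit 0x0,
nat_lit 0x0,
nat_lit 0x0,
nat_lit 0x0,
nat_lit 0x0,
nat_lit 0x0,
nat_lit 0x0,
nat_lit 0x0,
nat_lit 0x0,
nat_lit 0x0,
nat_lit 0x0,
nat_lit 0x0,
nat_lit 0x0,
nat_lit 0x0,
nat_lit 0x0,
nat_lit 0x0,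
nat_lit 0x0,
nat_lit 0x0,
nat_lit 0x0,
nat_lit 0x0,
nat_lit 0x0,
nat_lit 0x0,
nat_lit 0x0,
nat_lit 0x0,
nat_lit 0x0,
nat_lit 0x0,
nat_lit 0x0,
nat_lit 0x0,
nat_lit 0x0,
nat_lit 0x0,
nat_lit 0x0,
nat_lit 0x0,
nat_lit 0x0,
nat_lit 0x0,
nat_lit 0x0,
nat_lit 0x0,
nat_lit 0x0,
nat_lit 0x0,
nat_lit 0x0,
nat_lit 0x0,
nat_lit 0x0,
nat_lit 0x0,
nat_lit 0x0,
nat_lit 0x0,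
nat_lit 0x0,
nat_lit 0x0,
nat_lit 0x0,
nat_lit 0x0,
nat_lit 0x0,
nat_lit 0x0,
nat_lit 0x0,
nat_lit 0x0,
nat_lit 0x0,
nat_lit 0x0,
nat_lit 0x0,
nat_lit 0x0,
nat_lit 0x0,
nat_lit 0x0,
nat_lit 0x0,
nat_lit 0x0,
nat_lit 0x0,
nat_lit 0x0,
nat_lit 0x0,
nat_lit 0x0,
nat_lit 0x0,
nat_lit 0x0,
nat_lit 0x0,
nat_lit 0x0,
nat_lit 0x0,
nat_lit 0x0,
nat_lit 0x0,
nat_lit 0x0,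
nat_lit 0x0,
nat_lit 0x0,
nat_lit 0x0,
nat_lit 0x0,
nat_lit 0x0,
nat_lit 0x0,
nat_lit 0x0,
nat_lit 0x0,
nat_lit 0x0,
nat_lit 0x0,
nat_lit 0x0,
nat_lit 0x0,
nat_lit 0x0,
nat_lit 0x0,
nat_lit 0x0,
nat_lit 0x0,
nat_lit 0x0,
nat_lit 0x0,
nat_lit 0x0,
nat_lit 0x0,
nat_lit 0x0,
nat_lit 0x0,
nat_lit 0x0,
nat_lit 0x0,
nat_lit 0x0,
nat_lit 0x0,
nat_lit 0x0,
nat_lit 0x0,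
nat_lit 0x0,
nat_lit 0x0,
nat_lit 0x0,
nat_lit 0x0,
nat_lit 0x0,
nat_lit 0x0,
nat_lit 0x0,
nat_lit 0x0,
nat_lit 0x0,
nat_lit 0x0,
nat_lit 0x0,
nat_lit 0x0,
nat_lit 0x0,
nat_lit 0x0,
nat_lit 0x0,
nat_lit 0x0,
nat_lit 0x0,
nat_lit 0x0,
nat_lit 0x0,
nat_lit 0x0,
nat_lit 0x0,
nat_lit 0x0,
nat_lit 0x0,
nat_lit 0x0,
nat_lit 0x0,
nat_lit 0x0,
nat_lit 0x0,
nat_lit 0x0,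
nat_lit 0x0,
nat_lit 0x0,
nat_lit 0x0,
nat_lit 0x0,
nat_lit 0x0,
nat_lit 0x0,
nat_lit 0x0,
nat_lit 0x0,
nat_lit 0x0,
nat_lit 0x0,
nat_lit 0x0,
nat_lit 0x0,
nat_lit 0x0,
nat_lit 0x0,
nat_lit 0x0,
nat_lit 0x0,
nat_lit 0x0,
nat_lit 0x0,
nat_lit 0x0,
nat_lit 0x0,
nat_lit 0x0,
nat_lit 0x0,
nat_lit 0x0,
nat_lit 0x0,
nat_lit 0x0,
nat_lit 0x0,
nat_lit 0x0,
nat_lit 0x0,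
nat_lit 0x0,
nat_lit 0x0,
nat_lit 0x0,
nat_lit 0x0,
nat_lit 0x0,
nat_lit 0x0,
nat_lit 0x0,
nat_lit 0x0,
nat_lit 0x0,
nat_lit 0x0,
nat_lit 0x0,
nat_lit 0x0,
nat_lit 0x0,
nat_lit 0x0,
nat_lit 0x0,
nat_lit 0x0,
nat_lit 0x0,
nat_lit 0x0,
nat_lit 0x0,
nat_lit 0x0,
nat_lit 0x0,
nat_lit 0x0,
nat_lit 0x0,
nat_lit 0x0,
nat_lit 0x0,
nat_lit 0x0,
nat_lit 0x0,
nat_lit 0x0,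
nat_lit 0x0,
nat_lit 0x0,
nat_lit 0x0,
nat_lit 0x0,
nat_lit 0x0,
nat_lit 0x0,
nat_lit 0x0,
nat_lit 0x0,
nat_lit 0x0,
nat_lit 0x0,
nat_lit 0x0,
nat_lit 0x0,
nat_lit 0x0,
nat_lit 0x0,
nat_lit 0x0,
nat_lit 0x0,
nat_lit 0x0,
nat_lit 0x0,
nat_lit 0x0,
nat_lit 0x0,
nat_lit 0x0,
nat_lit 0x0,
nat_lit 0x0,
nat_lit 0x0,
nat_lit 0x0,
nat_lit 0x0,
nat_lit 0x0,
nat_lit 0x0,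
nat_lit 0x0,
nat_lit 0x0,
nat_lit 0x0,
nat_lit 0x0,
nat_lit 0x0,
nat_lit 0x0,
nat_lit 0x0,
nat_lit 0x0,
nat_lit 0x0,
nat_lit 0x0,
nat_lit 0x0,
nat_lit 0x0,
nat_lit 0x0,
nat_lit 0x0,
nat_lit 0x0,
nat_lit 0x0,
nat_lit 0x0,
nat_lit 0x0,
nat_lit 0x0,
nat_lit 0x0,
nat_lit 0x0,
nat_lit 0x0,
nat_lit 0x0,
nat_lit 0x0,
nat_lit 0x0,
nat_lit 0x0,
nat_lit 0x0,
nat_lit 0x0,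
nat_lit 0x0,
nat_lit 0x0,
nat_lit 0x0,
nat_lit 0x0]

theorem facts_ok8704 : checkFacts facts 18364758544493064720 words 128 subs 49982 items8704 8704 = true := by decide +kernel

noncomputable def items9216 : List ℕ := [
nat_lit 0x0,
nat_lit 0x0,
nat_lit 0x0,
nat_lit 0x0,
nat_lit 0x0,
nat_lit 0x0,
nat_lit 0x0,
nat_lit 0x0,
nat_lit 0x0,
nat_lit 0x0,
nat_lit 0x0,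
nat_lit 0x0,
nat_lit 0x0,
nat_lit 0x0,
nat_lit 0x0,
nat_lit 0x0,
nat_lit 0x0,
nat_lit 0x0,
nat_lit 0x0,
nat_lit 0x0,
nat_lit 0x0,
nat_lit 0x0,
nat_lit 0x0,
nat_lit 0x0,
nat_lit 0x0,
nat_lit 0x0,
nat_lit 0x0,
nat_lit 0x0,
nat_lit 0x0,
nat_lit 0x0,
nat_lit 0x0,
nat_lit 0x0,
nat_lit 0x0,
nat_lit 0x0,
nat_lit 0x0,
nat_lit 0x0,
nat_lit 0x0,
nat_lit 0x0,
nat_lit 0x0,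
nat_lit 0x0,
nat_lit 0x0,
nat_lit 0x0,
nat_lit 0x0,
nat_lit 0x0,
nat_lit 0x0,
nat_lit 0x0,
nat_lit 0x0,
nat_lit 0x0,
nat_lit 0x0,
nat_lit 0x0,
nat_lit 0x0,
nat_lit 0x0,
nat_lit 0x0,
nat_lit 0x0,
nat_lit 0x0,
nat_lit 0x0,
nat_lit 0x0,
nat_lit 0x0,
nat_lit 0x0,
nat_lit 0x0,
nat_lit 0x0,
nat_lit 0x0,
nat_lit 0x0,
nat_lit 0x0,
nat_lit 0x0,
nat_lit 0x0,
nat_lit 0x0,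
nat_lit 0x0,
nat_lit 0x0,
nat_lit 0x0,
nat_lit 0x0,
nat_lit 0x0,
nat_lit 0x0,
nat_lit 0x0,
nat_lit 0x0,
nat_lit 0x0,
nat_lit 0x0,
nat_lit 0x0,
nat_lit 0x0,
nat_lit 0x0,
nat_lit 0x0,
nat_lit 0x0,
nat_lit 0x0,
nat_lit 0x0,
nat_lit 0x0,
nat_lit 0x0,
nat_lit 0x0,
nat_lit 0x0,
nat_lit 0x0,
nat_lit 0x0,
nat_lit 0x0,
nat_lit 0x0,
nat_lit 0x0,
nat_lit 0x0,
nat_lit 0x0,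
nat_lit 0x0,
nat_lit 0x0,
nat_lit 0x0,
nat_lit 0x0,
nat_lit 0x0,
nat_lit 0x0,
nat_lit 0x0,
nat_lit 0x0,
nat_lit 0x0,
nat_lit 0x0,
nat_lit 0x0,
nat_lit 0x0,
nat_lit 0x0,
nat_lit 0x0,
nat_lit 0x0,
nat_lit 0x0,
nat_lit 0x0,
nat_lit 0x0,
nat_lit 0x0,
nat_lit 0x0,
nat_lit 0x0,
nat_lit 0x0,
nat_lit 0x0,
nat_lit 0x0,
nat_lit 0x0,
nat_lit 0x0,
nat_lit 0x0,
nat_lit 0x0,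
nat_lit 0x0,
nat_lit 0x0,
nat_lit 0x0,
nat_lit 0x0,
nat_lit 0x0,
nat_lit 0x0,
nat_lit 0x0,
nat_lit 0x0,
nat_lit 0x0,
nat_lit 0x0,
nat_lit 0x0,
nat_lit 0x0,
nat_lit 0x0,
nat_lit 0x0,
nat_lit 0x0,
nat_lit 0x0,
nat_lit 0x0,
nat_lit 0x0,
nat_lit 0x0,
nat_lit 0x0,
nat_lit 0x0,
nat_lit 0x0,
nat_lit 0x0,
nat_lit 0x0,
nat_lit 0x0,
nat_lit 0x0,
nat_lit 0x0,
nat_lit 0x0,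
nat_lit 0x0,
nat_lit 0x0,
nat_lit 0x0,
nat_lit 0x0,
nat_lit 0x0,
nat_lit 0x0,
nat_lit 0x0,
nat_lit 0x0,
nat_lit 0x0,
nat_lit 0x0,
nat_lit 0x0,
nat_lit 0x0,
nat_lit 0x0,
nat_lit 0x0,
nat_lit 0x0,
nat_lit 0x0,
nat_lit 0x0,
nat_lit 0x0,
nat_lit 0x0,
nat_lit 0x0,
nat_lit 0x0,
nat_lit 0x0,
nat_lit 0x0,
nat_lit 0x0,
nat_lit 0x0,
nat_lit 0x0,
nat_lit 0x0,
nat_lit 0x0,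
nat_lit 0x0,
nat_lit 0x0,
nat_lit 0x0,
nat_lit 0x0,
nat_lit 0x0,
nat_lit 0x0,
nat_lit 0x0,
nat_lit 0x0,
nat_lit 0x0,
nat_lit 0x0,
nat_lit 0x0,
nat_lit 0x0,
nat_lit 0x0,
nat_lit 0x0,
nat_lit 0x0,
nat_lit 0x0,
nat_lit 0x0,
nat_lit 0x0,
nat_lit 0x0,
nat_lit 0x0,
nat_lit 0x0,
nat_lit 0x0,
nat_lit 0x0,
nat_lit 0x0,
nat_lit 0x0,
nat_lit 0x0,
nat_lit 0x0,
nat_lit 0x0,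
nat_lit 0x0,
nat_lit 0x0,
nat_lit 0x0,
nat_lit 0x0,
nat_lit 0x0,
nat_lit 0x0,
nat_lit 0x0,
nat_lit 0x0,
nat_lit 0x0,
nat_lit 0x0,
nat_lit 0x0,
nat_lit 0x0,
nat_lit 0x0,
nat_lit 0x0,
nat_lit 0x0,
nat_lit 0x0,
nat_lit 0x0,
nat_lit 0x0,
nat_lit 0x0,
nat_lit 0x0,
nat_lit 0x0,
nat_lit 0x0,
nat_lit 0x0,
nat_lit 0x0,
nat_lit 0x0,
nat_lit 0x0,
nat_lit 0x0,
nat_lit 0x0,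
nat_lit 0x0,
nat_lit 0x0,
nat_lit 0x0,
nat_lit 0x0,
nat_lit 0x0,
nat_lit 0x0,
nat_lit 0x0,
nat_lit 0x0,
nat_lit 0x0,
nat_lit 0x0,
nat_lit 0x0,
nat_lit 0x0,
nat_lit 0x0,
nat_lit 0x0,
nat_lit 0x0,
nat_lit 0x0,
nat_lit 0x0,
nat_lit 0x0,
nat_lit 0x0,
nat_lit 0x0,
nat_lit 0x0,
nat_lit 0x0,
nat_lit 0x0,
nat_lit 0x0,
nat_lit 0x0,
nat_lit 0x0,
nat_lit 0x0,
nat_lit 0x0,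
nat_lit 0x0,
nat_lit 0x0,
nat_lit 0x0,
nat_lit 0x0,
nat_lit 0x0,
nat_lit 0x0,
nat_lit 0x0,
nat_lit 0x0,
nat_lit 0x0,
nat_lit 0x0,
nat_lit 0x0,
nat_lit 0x0,
nat_lit 0x0,
nat_lit 0x0,
nat_lit 0x0,
nat_lit 0x0,
nat_lit 0x0,
nat_lit 0x0,
nat_lit 0x0,
nat_lit 0x0,
nat_lit 0x0,
nat_lit 0x0,
nat_lit 0x0,
nat_lit 0x0,
nat_lit 0x0,
nat_lit 0x0,
nat_lit 0x0,
nat_lit 0x0,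
nat_lit 0x0,
nat_lit 0x0,
nat_lit 0x0,
nat_lit 0x0,
nat_lit 0x0,
nat_lit 0x0,
nat_lit 0x0,
nat_lit 0x0,
nat_lit 0x0,
nat_lit 0x0,
nat_lit 0x0,
nat_lit 0x0,
nat_lit 0x0,
nat_lit 0x0,
nat_lit 0x0,
nat_lit 0x0,
nat_lit 0x0,
nat_lit 0x0,
nat_lit 0x0,
nat_lit 0x0,
nat_lit 0x0,
nat_lit 0x0,
nat_lit 0x0,
nat_lit 0x0,
nat_lit 0x0,
nat_lit 0x0,
nat_lit 0x0,
nat_lit 0x0,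
nat_lit 0x0,
nat_lit 0x0,
nat_lit 0x0,
nat_lit 0x0,
nat_lit 0x0,
nat_lit 0x0,
nat_lit 0x0,
nat_lit 0x0,
nat_lit 0x0,
nat_lit 0x0,
nat_lit 0x0,
nat_lit 0x0,
nat_lit 0x0,
nat_lit 0x0,
nat_lit 0x0,
nat_lit 0x0,
nat_lit 0x0,
nat_lit 0x0,
nat_lit 0x0,
nat_lit 0x0,
nat_lit 0x0,
nat_lit 0x0,
nat_lit 0x0,
nat_lit 0x0,
nat_lit 0x0,
nat_lit 0x0,
nat_lit 0x0,
nat_lit 0x0,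
nat_lit 0x0,
nat_lit 0x0,
nat_lit 0x0,
nat_lit 0x0,
nat_lit 0x0,
nat_lit 0x0,
nat_lit 0x0,
nat_lit 0x0,
nat_lit 0x0,
nat_lit 0x0,
nat_lit 0x0,
nat_lit 0x0,
nat_lit 0x0,
nat_lit 0x0,
nat_lit 0x0,
nat_lit 0x0,
nat_lit 0x0,
nat_lit 0x0,
nat_lit 0x0,
nat_lit 0x0,
nat_lit 0x0,
nat_lit 0x0,
nat_lit 0x0,
nat_lit 0x0,
nat_lit 0x0,
nat_lit 0x0,
nat_lit 0x0,
nat_lit 0x0,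
nat_lit 0x0,
nat_lit 0x0,
nat_lit 0x0,
nat_lit 0x0,
nat_lit 0x0,
nat_lit 0x0,
nat_lit 0x0,
nat_lit 0x0,
nat_lit 0x0,
nat_lit 0x0,
nat_lit 0x0,
nat_lit 0x0,
nat_lit 0x0,
nat_lit 0x0,
nat_lit 0x0,
nat_lit 0x0,
nat_lit 0x0,
nat_lit 0x0,
nat_lit 0x0,
nat_lit 0x0,
nat_lit 0x0,
nat_lit 0x0,
nat_lit 0x0,
nat_lit 0x0,
nat_lit 0x0,
nat_lit 0x0,
nat_lit 0x0,
nat_lit 0x0,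
nat_lit 0x0,
nat_lit 0x0,
nat_lit 0x0,
nat_lit 0x0,
nat_lit 0x0,
nat_lit 0x0,
nat_lit 0x0,
nat_lit 0x0,
nat_lit 0x0,
nat_lit 0x0,
nat_lit 0x0,
nat_lit 0x0,
nat_lit 0x0,
nat_lit 0x0,
nat_lit 0x0,
nat_lit 0x0,
nat_lit 0x0,
nat_lit 0x0,
nat_lit 0x0,
nat_lit 0x0,
nat_lit 0x0,
nat_lit 0x0,
nat_lit 0x0,
nat_lit 0x0,
nat_lit 0x0,
nat_lit 0x0,
nat_lit 0x0,
nat_lit 0x0,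
nat_lit 0x0,
nat_lit 0x0,
nat_lit 0x0,
nat_lit 0x0,
nat_lit 0x0,
nat_lit 0x0,
nat_lit 0x0,
nat_lit 0x0,
nat_lit 0x0,
nat_lit 0x0,
nat_lit 0x0,
nat_lit 0x0,
nat_lit 0x0,
nat_lit 0x0,
nat_lit 0x0,
nat_lit 0x0,
nat_lit 0x0,
nat_lit 0x0,
nat_lit 0x0,
nat_lit 0x0,
nat_lit 0x0,
nat_lit 0x0,
nat_lit 0x0,
nat_lit 0x0,
nat_lit 0x0,
nat_lit 0x0,
nat_lit 0x0,
nat_lit 0x0,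
nat_lit 0x0,
nat_lit 0x0,
nat_lit 0x0,
nat_lit 0x0,
nat_lit 0x0,
nat_lit 0x0,
nat_lit 0x0,
nat_lit 0x0,
nat_lit 0x0,
nat_lit 0x0,
nat_lit 0x0,
nat_lit 0x0,
nat_lit 0x0,
nat_lit 0x0,
nat_lit 0x0,
nat_lit 0x0,
nat_lit 0x0,
nat_lit 0x0,
nat_lit 0x0,
nat_lit 0x0,
nat_lit 0x0,
nat_lit 0x0,
nat_lit 0x0,
nat_lit 0x0,
nat_lit 0x0,
nat_lit 0x0,
nat_lit 0x0,
nat_lit 0x0,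
nat_lit 0x0,
nat_lit 0x0,
nat_lit 0x0,
nat_lit 0x0,
nat_lit 0x0,
nat_lit 0x0,
nat_lit 0x0,
nat_lit 0x0,
nat_lit 0x0,
nat_lit 0x0,
nat_lit 0x0,
nat_lit 0x0,
nat_lit 0x0,
nat_lit 0x0,
nat_lit 0x0,
nat_lit 0x0,
nat_lit 0x0,
nat_lit 0x0,
nat_lit 0x0,
nat_lit 0x0,
nat_lit 0x0,
nat_lit 0x0,
nat_lit 0x0,
nat_lit 0x0,
nat_lit 0x0]

theorem facts_ok9216 : checkFacts facts 18364758544493064720 words 128 subs 49982 items9216 9216 = true := by decide +kernel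

noncomputable def items9728 : List ℕ := [
nat_lit 0x0,
nat_lit 0x0,
nat_lit 0x0,
nat_lit 0x0,
nat_lit 0x0,
nat_lit 0x0,
nat_lit 0x0,
nat_lit 0x0,
nat_lit 0x0,
nat_lit 0x0,
nat_lit 0x0,
nat_lit 0x0,
nat_lit 0x0,
nat_lit 0x0,
nat_lit 0x0,
nat_lit 0x0,
nat_lit 0x0,
nat_lit 0x0,
nat_lit 0x0,
nat_lit 0x0,
nat_lit 0x0,
nat_lit 0x0,
nat_lit 0x0,
nat_lit 0x0,
nat_lit 0x0,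
nat_lit 0x0,
nat_lit 0x0,
nat_lit 0x0,
nat_lit 0x0,
nat_lit 0x0,
nat_lit 0x0,
nat_lit 0x0,
nat_lit 0x0,
nat_lit 0x0,
nat_lit 0x0,
nat_lit 0x0,
nat_lit 0x0,
nat_lit 0x0,
nat_lit 0x0,
nat_lit 0x0,
nat_lit 0x0,
nat_lit 0x0,
nat_lit 0x0,
nat_lit 0x0,
nat_lit 0x0,
nat_lit 0x0,
nat_lit 0x0,
nat_lit 0x0,
nat_lit 0x0,
nat_lit 0x0,
nat_lit 0x0,
nat_lit 0x0,
nat_lit 0x0,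
nat_lit 0x0,
nat_lit 0x0,
nat_lit 0x0,
nat_lit 0x0,
nat_lit 0x0,
nat_lit 0x0,
nat_lit 0x0,
nat_lit 0x0,
nat_lit 0x0,
nat_lit 0x0,
nat_lit 0x0,
nat_lit 0x0,
nat_lit 0x0,
nat_lit 0x0,
nat_lit 0x0,
nat_lit 0x0,
nat_lit 0x0,
nat_lit 0x0,
nat_lit 0x0,
nat_lit 0x0,
nat_lit 0x0,
nat_lit 0x0,
nat_lit 0x0,
nat_lit 0x0,
nat_lit 0x0,
nat_lit 0x0,
nat_lit 0x0,
nat_lit 0x0,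
nat_lit 0x0,
nat_lit 0x0,
nat_lit 0x0,
nat_lit 0x0,
nat_lit 0x0,
nat_lit 0x0,
nat_lit 0x0,
nat_lit 0x0,
nat_lit 0x0,
nat_lit 0x0,
nat_lit 0x0,
nat_lit 0x0,
nat_lit 0x0,
nat_lit 0x0,
nat_lit 0x0,
nat_lit 0x0,
nat_lit 0x0,
nat_lit 0x0,
nat_lit 0x0,
nat_lit 0x0,
nat_lit 0x0,
nat_lit 0x0,
nat_lit 0x0,
nat_lit 0x0,
nat_lit 0x0,
nat_lit 0x0,
nat_lit 0x0,
nat_lit 0x0,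
nat_lit 0x0,
nat_lit 0x0,
nat_lit 0x0,
nat_lit 0x0,
nat_lit 0x0,
nat_lit 0x0,
nat_lit 0x0,
nat_lit 0x0,
nat_lit 0x0,
nat_lit 0x0,
nat_lit 0x0,
nat_lit 0x0,
nat_lit 0x0,
nat_lit 0x0,
nat_lit 0x0,
nat_lit 0x0,
nat_lit 0x0,
nat_lit 0x0,
nat_lit 0x0,
nat_lit 0x0,
nat_lit 0x0,
nat_lit 0x0,
nat_lit 0x0,
nat_lit 0x0,
nat_lit 0x0,
nat_lit 0x0,
nat_lit 0x0,
nat_lit 0x0,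
nat_lit 0x0,
nat_lit 0x0,
nat_lit 0x0,
nat_lit 0x0,
nat_lit 0x0,
nat_lit 0x0,
nat_lit 0x0,
nat_lit 0x0,
nat_lit 0x0,
nat_lit 0x0,
nat_lit 0x0,
nat_lit 0x0,
nat_lit 0x0,
nat_lit 0x0,
nat_lit 0x0,
nat_lit 0x0,
nat_lit 0x0,
nat_lit 0x0,
nat_lit 0x0,
nat_lit 0x0,
nat_lit 0x0,
nat_lit 0x0,
nat_lit 0x0,
nat_lit 0x0,
nat_lit 0x0,
nat_lit 0x0,
nat_lit 0x0,
nat_lit 0x0,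
nat_lit 0x0,
nat_lit 0x0,
nat_lit 0x0,
nat_lit 0x0,
nat_lit 0x0,
nat_lit 0x0,
nat_lit 0x0,
nat_lit 0x0,
nat_lit 0x0,
nat_lit 0x0,
nat_lit 0x0,
nat_lit 0x0,
nat_lit 0x0,
nat_lit 0x0,
nat_lit 0x0,
nat_lit 0x0,
nat_lit 0x0,
nat_lit 0x0,
nat_lit 0x0,
nat_lit 0x0,
nat_lit 0x0,
nat_lit 0x0,
nat_lit 0x0,
nat_lit 0x0,
nat_lit 0x0,
nat_lit 0x0,
nat_lit 0x0,
nat_lit 0x0,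
nat_lit 0x0,
nat_lit 0x0,
nat_lit 0x0,
nat_lit 0x0,
nat_lit 0x0,
nat_lit 0x0,
nat_lit 0x0,
nat_lit 0x0,
nat_lit 0x0,
nat_lit 0x0,
nat_lit 0x0,
nat_lit 0x0,
nat_lit 0x0,
nat_lit 0x0,
nat_lit 0x0,
nat_lit 0x0,
nat_lit 0x0,
nat_lit 0x0,
nat_lit 0x0,
nat_lit 0x0,
nat_lit 0x0,
nat_lit 0x0,
nat_lit 0x0,
nat_lit 0x0,
nat_lit 0x0,
nat_lit 0x0,
nat_lit 0x0,
nat_lit 0x0,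
nat_lit 0x0,
nat_lit 0x0,
nat_lit 0x0,
nat_lit 0x0,
nat_lit 0x0,
nat_lit 0x0,
nat_lit 0x0,
nat_lit 0x0,
nat_lit 0x0,
nat_lit 0x0,
nat_lit 0x0,
nat_lit 0x0,
nat_lit 0x0,
nat_lit 0x0,
nat_lit 0x0,
nat_lit 0x0,
nat_lit 0x0,
nat_lit 0x0,
nat_lit 0x0,
nat_lit 0x0,
nat_lit 0x0,
nat_lit 0x0,
nat_lit 0x0,
nat_lit 0x0,
nat_lit 0x0,
nat_lit 0x0,
nat_lit 0x0,
nat_lit 0x0,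
nat_lit 0x0,
nat_lit 0x0,
nat_lit 0x0,
nat_lit 0x0,
nat_lit 0x0,
nat_lit 0x0,
nat_lit 0x0,
nat_lit 0x0,
nat_lit 0x0,
nat_lit 0x0,
nat_lit 0x0,
nat_lit 0x0,
nat_lit 0x0,
nat_lit 0x0,
nat_lit 0x0,
nat_lit 0x0,
nat_lit 0x0,
nat_lit 0x0,
nat_lit 0x0,
nat_lit 0x0,
nat_lit 0x0,
nat_lit 0x0,
nat_lit 0x0,
nat_lit 0x0,
nat_lit 0x0,
nat_lit 0x0,
nat_lit 0x0,
nat_lit 0x0,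
nat_lit 0x0,
nat_lit 0x0,
nat_lit 0x0,
nat_lit 0x0,
nat_lit 0x0,
nat_lit 0x0,
nat_lit 0x0,
nat_lit 0x0,
nat_lit 0x0,
nat_lit 0x0,
nat_lit 0x0,
nat_lit 0x0,
nat_lit 0x0,
nat_lit 0x0,
nat_lit 0x0,
nat_lit 0x0,
nat_lit 0x0,
nat_lit 0x0,
nat_lit 0x0,
nat_lit 0x0,
nat_lit 0x0,
nat_lit 0x0,
nat_lit 0x0,
nat_lit 0x0,
nat_lit 0x0,
nat_lit 0x0,
nat_lit 0x0,
nat_lit 0x0,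
nat_lit 0x0,
nat_lit 0x0,
nat_lit 0x0,
nat_lit 0x0,
nat_lit 0x0,
nat_lit 0x0,
nat_lit 0x0,
nat_lit 0x0,
nat_lit 0x0,
nat_lit 0x0,
nat_lit 0x0,
nat_lit 0x0,
nat_lit 0x0,
nat_lit 0x0,
nat_lit 0x0,
nat_lit 0x0,
nat_lit 0x0,
nat_lit 0x0,
nat_lit 0x0,
nat_lit 0x0,
nat_lit 0x0,
nat_lit 0x0,
nat_lit 0x0,
nat_lit 0x0,
nat_lit 0x0,
nat_lit 0x0,
nat_lit 0x0,
nat_lit 0x0,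
nat_lit 0x0,
nat_lit 0x0,
nat_lit 0x0,
nat_lit 0x0,
nat_lit 0x0,
nat_lit 0x0,
nat_lit 0x0,
nat_lit 0x0,
nat_lit 0x0,
nat_lit 0x0,
nat_lit 0x0,
nat_lit 0x0,
nat_lit 0x0,
nat_lit 0x0,
nat_lit 0x0,
nat_lit 0x0,
nat_lit 0x0,
nat_lit 0x0,
nat_lit 0x0,
nat_lit 0x0,
nat_lit 0x0,
nat_lit 0x0,
nat_lit 0x0,
nat_lit 0x0,
nat_lit 0x0,
nat_lit 0x0,
nat_lit 0x0,
nat_lit 0x0,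
nat_lit 0x0,
nat_lit 0x0,
nat_lit 0x0,
nat_lit 0x0,
nat_lit 0x0,
nat_lit 0x0,
nat_lit 0x0,
nat_lit 0x0,
nat_lit 0x0,
nat_lit 0x0,
nat_lit 0x0,
nat_lit 0x0,
nat_lit 0x0,
nat_lit 0x0,
nat_lit 0x0,
nat_lit 0x0,
nat_lit 0x0,
nat_lit 0x0,
nat_lit 0x0,
nat_lit 0x0,
nat_lit 0x0,
nat_lit 0x0,
nat_lit 0x0,
nat_lit 0x0,
nat_lit 0x0,
nat_lit 0x0,
nat_lit 0x0,
nat_lit 0x0,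
nat_lit 0x0,
nat_lit 0x0,
nat_lit 0x0,
nat_lit 0x0,
nat_lit 0x0,
nat_lit 0x0,
nat_lit 0x0,
nat_lit 0x0,
nat_lit 0x0,
nat_lit 0x0,
nat_lit 0x0,
nat_lit 0x0,
nat_lit 0x0,
nat_lit 0x0,
nat_lit 0x0,
nat_lit 0x0,
nat_lit 0x0,
nat_lit 0x0,
nat_lit 0x0,
nat_lit 0x0,
nat_lit 0x0,
nat_lit 0x0,
nat_lit 0x0,
nat_lit 0x0,
nat_lit 0x0,
nat_lit 0x0,
nat_lit 0x0,
nat_lit 0x0,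
nat_lit 0x0,
nat_lit 0x0,
nat_lit 0x0,
nat_lit 0x0,
nat_lit 0x0,
nat_lit 0x0,
nat_lit 0x0,
nat_lit 0x0,
nat_lit 0x0,
nat_lit 0x0,
nat_lit 0x0,
nat_lit 0x0,
nat_lit 0x0,
nat_lit 0x0,
nat_lit 0x0,
nat_lit 0x0,
nat_lit 0x0,
nat_lit 0x0,
nat_lit 0x0,
nat_lit 0x0,
nat_lit 0x0,
nat_lit 0x0,
nat_lit 0x0,
nat_lit 0x0,
nat_lit 0x0,
nat_lit 0x0,
nat_lit 0x0,
nat_lit 0x0,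
nat_lit 0x0,
nat_lit 0x0,
nat_lit 0x0,
nat_lit 0x0,
nat_lit 0x0,
nat_lit 0x0,
nat_lit 0x0,
nat_lit 0x0,
nat_lit 0x0,
nat_lit 0x0,
nat_lit 0x0,
nat_lit 0x0,
nat_lit 0x0,
nat_lit 0x0,
nat_lit 0x0,
nat_lit 0x0,
nat_lit 0x0,
nat_lit 0x0,
nat_lit 0x0,
nat_lit 0x0,
nat_lit 0x0,
nat_lit 0x0,
nat_lit 0x0,
nat_lit 0x0,
nat_lit 0x0,
nat_lit 0x0,
nat_lit 0x0,
nat_lit 0x0,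
nat_lit 0x0,
nat_lit 0x0,
nat_lit 0x0,
nat_lit 0x0,
nat_lit 0x0,
nat_lit 0x0,
nat_lit 0x0,
nat_lit 0x0,
nat_lit 0x0,
nat_lit 0x0,
nat_lit 0x0,
nat_lit 0x0,
nat_lit 0x0,
nat_lit 0x0,
nat_lit 0x0,
nat_lit 0x0,
nat_lit 0x0,
nat_lit 0x0,
nat_lit 0x0,
nat_lit 0x0,
nat_lit 0x0,
nat_lit 0x0,
nat_lit 0x0,
nat_lit 0x0,
nat_lit 0x0,
nat_lit 0x0,
nat_lit 0x0,
nat_lit 0x0,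
nat_lit 0x0,
nat_lit 0x0,
nat_lit 0x0,
nat_lit 0x0,
nat_lit 0x0,
nat_lit 0x0,
nat_lit 0x0,
nat_lit 0x0,
nat_lit 0x0,
nat_lit 0x0,
nat_lit 0x0]

theorem facts_ok9728 : checkFacts facts 18364758544493064720 words 128 subs 49982 items9728 9728 = true := by decide +kernel

noncomputable def items10240 : List ℕ := [
nat_lit 0x0,
nat_lit 0x0,
nat_lit 0x0,
nat_lit 0x0,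
nat_lit 0x0,
nat_lit 0x0,
nat_lit 0x0,
nat_lit 0x0,
nat_lit 0x0,
nat_lit 0x0,
nat_lit 0x0,
nat_lit 0x0,
nat_lit 0x0,
nat_lit 0x0,
nat_lit 0x0,
nat_lit 0x0,
nat_lit 0x0,
nat_lit 0x0,
nat_lit 0x0,
nat_lit 0x0,
nat_lit 0x0,
nat_lit 0x0,
nat_lit 0x0,
nat_lit 0x0,
nat_lit 0x0,
nat_lit 0x0,
nat_lit 0x0,
nat_lit 0x0,
nat_lit 0x0,
nat_lit 0x0,
nat_lit 0x0,
nat_lit 0x0,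
nat_lit 0x0,
nat_lit 0x0,
nat_lit 0x0,
nat_lit 0x0,
nat_lit 0x0,
nat_lit 0x0,
nat_lit 0x0,
nat_lit 0x0,
nat_lit 0x0,
nat_lit 0x0,
nat_lit 0x0,
nat_lit 0x0,
nat_lit 0x0,
nat_lit 0x0,
nat_lit 0x0,
nat_lit 0x0,
nat_lit 0x0,
nat_lit 0x0,
nat_lit 0x0,
nat_lit 0x0,
nat_lit 0x0,
nat_lit 0x0,
nat_lit 0x0,
nat_lit 0x0,
nat_lit 0x0,
nat_lit 0x0,
nat_lit 0x0,
nat_lit 0x0,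
nat_lit 0x0,
nat_lit 0x0,
nat_lit 0x0,
nat_lit 0x0,
nat_lit 0x0,
nat_lit 0x0,
nat_lit 0x0,
nat_lit 0x0,
nat_lit 0x0,
nat_lit 0x0,
nat_lit 0x0,
nat_lit 0x0,
nat_lit 0x0,
nat_lit 0x0,
nat_lit 0x0,
nat_lit 0x0,
nat_lit 0x0,
nat_lit 0x0,
nat_lit 0x0,
nat_lit 0x0,
nat_lit 0x0,
nat_lit 0x0,
nat_lit 0x0,
nat_lit 0x0,
nat_lit 0x0,
nat_lit 0x0,
nat_lit 0x0,
nat_lit 0x0,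
nat_lit 0x0,
nat_lit 0x0,
nat_lit 0x0,
nat_lit 0x0,
nat_lit 0x0,
nat_lit 0x0,
nat_lit 0x0,
nat_lit 0x0,
nat_lit 0x0,
nat_lit 0x0,
nat_lit 0x0,
nat_lit 0x0,
nat_lit 0x0,
nat_lit 0x0,
nat_lit 0x0,
nat_lit 0x0,
nat_lit 0x0,
nat_lit 0x0,
nat_lit 0x0,
nat_lit 0x0,
nat_lit 0x0,
nat_lit 0x0,
nat_lit 0x0,
nat_lit 0x0,
nat_lit 0x0,
nat_lit 0x0,
nat_lit 0x0,
nat_lit 0x0,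
nat_lit 0x0,
nat_lit 0x0,
nat_lit 0x0,
nat_lit 0x0,
nat_lit 0x0,
nat_lit 0x0,
nat_lit 0x0,
nat_lit 0x0,
nat_lit 0x0,
nat_lit 0x0,
nat_lit 0x0,
nat_lit 0x0,
nat_lit 0x0,
nat_lit 0x0,
nat_lit 0x0,
nat_lit 0x0,
nat_lit 0x0,
nat_lit 0x0,
nat_lit 0x0,
nat_lit 0x0,
nat_lit 0x0,
nat_lit 0x0,
nat_lit 0x0,
nat_lit 0x0,
nat_lit 0x0,
nat_lit 0x0,
nat_lit 0x0,
nat_lit 0x0,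
nat_lit 0x0,
nat_lit 0x0,
nat_lit 0x0,
nat_lit 0x0,
nat_lit 0x0,
nat_lit 0x0,
nat_lit 0x0,
nat_lit 0x0,
nat_lit 0x0,
nat_lit 0x0,
nat_lit 0x0,
nat_lit 0x0,
nat_lit 0x0,
nat_lit 0x0,
nat_lit 0x0,
nat_lit 0x0,
nat_lit 0x0,
nat_lit 0x0,
nat_lit 0x0,
nat_lit 0x0,
nat_lit 0x0,
nat_lit 0x0,
nat_lit 0x0,
nat_lit 0x0,
nat_lit 0x0,
nat_lit 0x0,
nat_lit 0x0,
nat_lit 0x0,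
nat_lit 0x0,
nat_lit 0x0,
nat_lit 0x0,
nat_lit 0x0,
nat_lit 0x0,
nat_lit 0x0,
nat_lit 0x0,
nat_lit 0x0,
nat_lit 0x0,
nat_lit 0x0,
nat_lit 0x0,
nat_lit 0x0,
nat_lit 0x0,
nat_lit 0x0,
nat_lit 0x0,
nat_lit 0x0,
nat_lit 0x0,
nat_lit 0x0,
nat_lit 0x0,
nat_lit 0x0,
nat_lit 0x0,
nat_lit 0x0,
nat_lit 0x0,
nat_lit 0x0,
nat_lit 0x0,
nat_lit 0x0,
nat_lit 0x0,
nat_lit 0x0,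
nat_lit 0x0,
nat_lit 0x0,
nat_lit 0x0,
nat_lit 0x0,
nat_lit 0x0,
nat_lit 0x0,
nat_lit 0x0,
nat_lit 0x0,
nat_lit 0x0,
nat_lit 0x0,
nat_lit 0x0,
nat_lit 0x0,
nat_lit 0x0,
nat_lit 0x0,
nat_lit 0x0,
nat_lit 0x0,
nat_lit 0x0,
nat_lit 0x0,
nat_lit 0x0,
nat_lit 0x0,
nat_lit 0x0,
nat_lit 0x0,
nat_lit 0x0,
nat_lit 0x0,
nat_lit 0x0,
nat_lit 0x0,
nat_lit 0x0,
nat_lit 0x0,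
nat_lit 0x0,
nat_lit 0x0,
nat_lit 0x0,
nat_lit 0x0,
nat_lit 0x0,
nat_lit 0x0,
nat_lit 0x0,
nat_lit 0x0,
nat_lit 0x0,
nat_lit 0x0,
nat_lit 0x0,
nat_lit 0x0,
nat_lit 0x0,
nat_lit 0x0,
nat_lit 0x0,
nat_lit 0x0,
nat_lit 0x0,
nat_lit 0x0,
nat_lit 0x0,
nat_lit 0x0,
nat_lit 0x0,
nat_lit 0x0,
nat_lit 0x0,
nat_lit 0x0,
nat_lit 0x0,
nat_lit 0x0,
nat_lit 0x0,
nat_lit 0x0,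
nat_lit 0x0,
nat_lit 0x0,
nat_lit 0x0,
nat_lit 0x0,
nat_lit 0x0,
nat_lit 0x0,
nat_lit 0x0,
nat_lit 0x0,
nat_lit 0x0,
nat_lit 0x0,
nat_lit 0x0,
nat_lit 0x0,
nat_lit 0x0,
nat_lit 0x0,
nat_lit 0x0,
nat_lit 0x0,
nat_lit 0x0,
nat_lit 0x0,
nat_lit 0x0,
nat_lit 0x0,
nat_lit 0x0,
nat_lit 0x0,
nat_lit 0x0,
nat_lit 0x0,
nat_lit 0x0,
nat_lit 0x0,
nat_lit 0x0,
nat_lit 0x0,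
nat_lit 0x0,
nat_lit 0x0,
nat_lit 0x0,
nat_lit 0x0,
nat_lit 0x0,
nat_lit 0x0,
nat_lit 0x0,
nat_lit 0x0,
nat_lit 0x0,
nat_lit 0x0,
nat_lit 0x0,
nat_lit 0x0,
nat_lit 0x0,
nat_lit 0x0,
nat_lit 0x0,
nat_lit 0x0,
nat_lit 0x0,
nat_lit 0x0,
nat_lit 0x0,
nat_lit 0x0,
nat_lit 0x0,
nat_lit 0x0,
nat_lit 0x0,
nat_lit 0x0,
nat_lit 0x0,
nat_lit 0x0,
nat_lit 0x0,
nat_lit 0x0,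
nat_lit 0x0,
nat_lit 0x0,
nat_lit 0x0,
nat_lit 0x0,
nat_lit 0x0,
nat_lit 0x0,
nat_lit 0x0,
nat_lit 0x0,
nat_lit 0x0,
nat_lit 0x0,
nat_lit 0x0,
nat_lit 0x0,
nat_lit 0x0,
nat_lit 0x0,
nat_lit 0x0,
nat_lit 0x0,
nat_lit 0x0,
nat_lit 0x0,
nat_lit 0x0,
nat_lit 0x0,
nat_lit 0x0,
nat_lit 0x0,
nat_lit 0x0,
nat_lit 0x0,
nat_lit 0x0,
nat_lit 0x0,
nat_lit 0x0,
nat_lit 0x0,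
nat_lit 0x0,
nat_lit 0x0,
nat_lit 0x0,
nat_lit 0x0,
nat_lit 0x0,
nat_lit 0x0,
nat_lit 0x0,
nat_lit 0x0,
nat_lit 0x0,
nat_lit 0x0,
nat_lit 0x0,
nat_lit 0x0,
nat_lit 0x0,
nat_lit 0x0,
nat_lit 0x0,
nat_lit 0x0,
nat_lit 0x0,
nat_lit 0x0,
nat_lit 0x0,
nat_lit 0x0,
nat_lit 0x0,
nat_lit 0x0,
nat_lit 0x0,
nat_lit 0x0,
nat_lit 0x0,
nat_lit 0x0,
nat_lit 0x0,
nat_lit 0x0,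
nat_lit 0x0,
nat_lit 0x0,
nat_lit 0x0,
nat_lit 0x0,
nat_lit 0x0,
nat_lit 0x0,
nat_lit 0x0,
nat_lit 0x0,
nat_lit 0x0,
nat_lit 0x0,
nat_lit 0x0,
nat_lit 0x0,
nat_lit 0x0,
nat_lit 0x0,
nat_lit 0x0,
nat_lit 0x0,
nat_lit 0x0,
nat_lit 0x0,
nat_lit 0x0,
nat_lit 0x0,
nat_lit 0x0,
nat_lit 0x0,
nat_lit 0x0,
nat_lit 0x0,
nat_lit 0x0,
nat_lit 0x0,
nat_lit 0x0,
nat_lit 0x0,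
nat_lit 0x0,
nat_lit 0x0,
nat_lit 0x0,
nat_lit 0x0,
nat_lit 0x0,
nat_lit 0x0,
nat_lit 0x0,
nat_lit 0x0,
nat_lit 0x0,
nat_lit 0x0,
nat_lit 0x0,
nat_lit 0x0,
nat_lit 0x0,
nat_lit 0x0,
nat_lit 0x0,
nat_lit 0x0,
nat_lit 0x0,
nat_lit 0x0,
nat_lit 0x0,
nat_lit 0x0,
nat_lit 0x0,
nat_lit 0x0,
nat_lit 0x0,
nat_lit 0x0,
nat_lit 0x0,
nat_lit 0x0,
nat_lit 0x0,
nat_lit 0x0,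
nat_lit 0x0,
nat_lit 0x0,
nat_lit 0x0,
nat_lit 0x0,
nat_lit 0x0,
nat_lit 0x0,
nat_lit 0x0,
nat_lit 0x0,
nat_lit 0x0,
nat_lit 0x0,
nat_lit 0x0,
nat_lit 0x0,
nat_lit 0x0,
nat_lit 0x0,
nat_lit 0x0,
nat_lit 0x0,
nat_lit 0x0,
nat_lit 0x0,
nat_lit 0x0,
nat_lit 0x0,
nat_lit 0x0,
nat_lit 0x0,
nat_lit 0x0,
nat_lit 0x0,
nat_lit 0x0,
nat_lit 0x0,
nat_lit 0x0,
nat_lit 0x0,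
nat_lit 0x0,
nat_lit 0x0,
nat_lit 0x0,
nat_lit 0x0,
nat_lit 0x0,
nat_lit 0x0,
nat_lit 0x0,
nat_lit 0x0,
nat_lit 0x0,
nat_lit 0x0,
nat_lit 0x0,
nat_lit 0x0,
nat_lit 0x0,
nat_lit 0x0,
nat_lit 0x0,
nat_lit 0x0,
nat_lit 0x0,
nat_lit 0x0,
nat_lit 0x0,
nat_lit 0x0,
nat_lit 0x0,
nat_lit 0x0,
nat_lit 0x0,
nat_lit 0x0,
nat_lit 0x0,
nat_lit 0x0,
nat_lit 0x0,
nat_lit 0x0,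
nat_lit 0x0,
nat_lit 0x0,
nat_lit 0x0,
nat_lit 0x0,
nat_lit 0x0,
nat_lit 0x0,
nat_lit 0x0,
nat_lit 0x0,
nat_lit 0x0,
nat_lit 0x0,
nat_lit 0x0,
nat_lit 0x0,
nat_lit 0x0,
nat_lit 0x0,
nat_lit 0x0,
nat_lit 0x0,
nat_lit 0x0,
nat_lit 0x0,
nat_lit 0x0,
nat_lit 0x0,
nat_lit 0x0,
nat_lit 0x0,
nat_lit 0x0,
nat_lit 0x0,
nat_lit 0x0,
nat_lit 0x0,
nat_lit 0x0,
nat_lit 0x0,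
nat_lit 0x0,
nat_lit 0x0,
nat_lit 0x0,
nat_lit 0x0]

theorem facts_ok10240 : checkFacts facts 18364758544493064720 words 128 subs 49982 items10240 10240 = true := by decide +kernel

noncomputable def items10752 : List ℕ := [
nat_lit 0x0,
nat_lit 0x0,
nat_lit 0x0,
nat_lit 0x0,
nat_lit 0x0,
nat_lit 0x0,
nat_lit 0x0,
nat_lit 0x0,
nat_lit 0x0,
nat_lit 0x0,
nat_lit 0x0,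
nat_lit 0x0,
nat_lit 0x0,
nat_lit 0x0,
nat_lit 0x0,
nat_lit 0x0,
nat_lit 0x0,
nat_lit 0x0,
nat_lit 0x0,
nat_lit 0x0,
nat_lit 0x0,
nat_lit 0x0,
nat_lit 0x0,
nat_lit 0x0,
nat_lit 0x0,
nat_lit 0x0,
nat_lit 0x0,
nat_lit 0x0,
nat_lit 0x0,
nat_lit 0x0,
nat_lit 0x0,
nat_lit 0x0,
nat_lit 0x0,
nat_lit 0x0,
nat_lit 0x0,
nat_lit 0x0,
nat_lit 0x0,
nat_lit 0x0,
nat_lit 0x0,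
nat_lit 0x0,
nat_lit 0x0,
nat_lit 0x0,
nat_lit 0x0,
nat_lit 0x0,
nat_lit 0x0,
nat_lit 0x0,
nat_lit 0x0,
nat_lit 0x0,
nat_lit 0x0,
nat_lit 0x0,
nat_lit 0x0,
nat_lit 0x0,
nat_lit 0x0,
nat_lit 0x0,
nat_lit 0x0,
nat_lit 0x0,
nat_lit 0x0,
nat_lit 0x0,
nat_lit 0x0,
nat_lit 0x0,
nat_lit 0x0,
nat_lit 0x0,
nat_lit 0x0,
nat_lit 0x0,
nat_lit 0x0,
nat_lit 0x0,
nat_lit 0x0,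
nat_lit 0x0,
nat_lit 0x0,
nat_lit 0x0,
nat_lit 0x0,
nat_lit 0x0,
nat_lit 0x0,
nat_lit 0x0,
nat_lit 0x0,
nat_lit 0x0,
nat_lit 0x0,
nat_lit 0x0,
nat_lit 0x0,
nat_lit 0x0,
nat_lit 0x0,
nat_lit 0x0,
nat_lit 0x0,
nat_lit 0x0,
nat_lit 0x0,
nat_lit 0x0,
nat_lit 0x0,
nat_lit 0x0,
nat_lit 0x0,
nat_lit 0x0,
nat_lit 0x0,
nat_lit 0x0,
nat_lit 0x0,
nat_lit 0x0,
nat_lit 0x0,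
nat_lit 0x0,
nat_lit 0x0,
nat_lit 0x0,
nat_lit 0x0,
nat_lit 0x0,
nat_lit 0x0,
nat_lit 0x0,
nat_lit 0x0,
nat_lit 0x0,
nat_lit 0x0,
nat_lit 0x0,
nat_lit 0x0,
nat_lit 0x0,
nat_lit 0x0,
nat_lit 0x0,
nat_lit 0x0,
nat_lit 0x0,
nat_lit 0x0,
nat_lit 0x0,
nat_lit 0x0,
nat_lit 0x0,
nat_lit 0x0,
nat_lit 0x0,
nat_lit 0x0,
nat_lit 0x0,
nat_lit 0x0,
nat_lit 0x0,
nat_lit 0x0,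
nat_lit 0x0,
nat_lit 0x0,
nat_lit 0x0,
nat_lit 0x0,
nat_lit 0x0,
nat_lit 0x0,
nat_lit 0x0,
nat_lit 0x0,
nat_lit 0x0,
nat_lit 0x0,
nat_lit 0x0,
nat_lit 0x0,
nat_lit 0x0,
nat_lit 0x0,
nat_lit 0x0,
nat_lit 0x0,
nat_lit 0x0,
nat_lit 0x0,
nat_lit 0x0,
nat_lit 0x0,
nat_lit 0x0,
nat_lit 0x0,
nat_lit 0x0,
nat_lit 0x0,
nat_lit 0x0,
nat_lit 0x0,
nat_lit 0x0,
nat_lit 0x0,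
nat_lit 0x0,
nat_lit 0x0,
nat_lit 0x0,
nat_lit 0x0,
nat_lit 0x0,
nat_lit 0x0,
nat_lit 0x0,
nat_lit 0x0,
nat_lit 0x0,
nat_lit 0x0,
nat_lit 0x0,
nat_lit 0x0,
nat_lit 0x0,
nat_lit 0x0,
nat_lit 0x0,
nat_lit 0x0,
nat_lit 0x0,
nat_lit 0x0,
nat_lit 0x0,
nat_lit 0x0,
nat_lit 0x0,
nat_lit 0x0,
nat_lit 0x0,
nat_lit 0x0,
nat_lit 0x0,
nat_lit 0x0,
nat_lit 0x0,
nat_lit 0x0,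
nat_lit 0x0,
nat_lit 0x0,
nat_lit 0x0,
nat_lit 0x0,
nat_lit 0x0,
nat_lit 0x0,
nat_lit 0x0,
nat_lit 0x0,
nat_lit 0x0,
nat_lit 0x0,
nat_lit 0x0,
nat_lit 0x0,
nat_lit 0x0,
nat_lit 0x0,
nat_lit 0x0,
nat_lit 0x0,
nat_lit 0x0,
nat_lit 0x0,
nat_lit 0x0,
nat_lit 0x0,
nat_lit 0x0,
nat_lit 0x0,
nat_lit 0x0,
nat_lit 0x0,
nat_lit 0x0,
nat_lit 0x0,
nat_lit 0x0,
nat_lit 0x0,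
nat_lit 0x0,
nat_lit 0x0,
nat_lit 0x0,
nat_lit 0x0,
nat_lit 0x0,
nat_lit 0x0,
nat_lit 0x0,
nat_lit 0x0,
nat_lit 0x0,
nat_lit 0x0,
nat_lit 0x0,
nat_lit 0x0,
nat_lit 0x0,
nat_lit 0x0,
nat_lit 0x0,
nat_lit 0x0,
nat_lit 0x0,
nat_lit 0x0,
nat_lit 0x0,
nat_lit 0x0,
nat_lit 0x0,
nat_lit 0x0,
nat_lit 0x0,
nat_lit 0x0,
nat_lit 0x0,
nat_lit 0x0,
nat_lit 0x0,
nat_lit 0x0,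
nat_lit 0x0,
nat_lit 0x0,
nat_lit 0x0,
nat_lit 0x0,
nat_lit 0x0,
nat_lit 0x0,
nat_lit 0x0,
nat_lit 0x0,
nat_lit 0x0,
nat_lit 0x0,
nat_lit 0x0,
nat_lit 0x0,
nat_lit 0x0,
nat_lit 0x0,
nat_lit 0x0,
nat_lit 0x0,
nat_lit 0x0,
nat_lit 0x0,
nat_lit 0x0,
nat_lit 0x0,
nat_lit 0x0,
nat_lit 0x0,
nat_lit 0x0,
nat_lit 0x0,
nat_lit 0x0,
nat_lit 0x0,
nat_lit 0x0,
nat_lit 0x0,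
nat_lit 0x0,
nat_lit 0x0,
nat_lit 0x0,
nat_lit 0x0,
nat_lit 0x0,
nat_lit 0x0,
nat_lit 0x0,
nat_lit 0x0,
nat_lit 0x0,
nat_lit 0x0,
nat_lit 0x0,
nat_lit 0x0,
nat_lit 0x0,
nat_lit 0x0,
nat_lit 0x0,
nat_lit 0x0,
nat_lit 0x0,
nat_lit 0x0,
nat_lit 0x0,
nat_lit 0x0,
nat_lit 0x0,
nat_lit 0x0,
nat_lit 0x0,
nat_lit 0x0,
nat_lit 0x0,
nat_lit 0x0,
nat_lit 0x0,
nat_lit 0x0,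
nat_lit 0x0,
nat_lit 0x0,
nat_lit 0x0,
nat_lit 0x0,
nat_lit 0x0,
nat_lit 0x0,
nat_lit 0x0,
nat_lit 0x0,
nat_lit 0x0,
nat_lit 0x0,
nat_lit 0x0,
nat_lit 0x0,
nat_lit 0x0,
nat_lit 0x0,
nat_lit 0x0,
nat_lit 0x0,
nat_lit 0x0,
nat_lit 0x0,
nat_lit 0x0,
nat_lit 0x0,
nat_lit 0x0,
nat_lit 0x0,
nat_lit 0x0,
nat_lit 0x0,
nat_lit 0x0,
nat_lit 0x0,
nat_lit 0x0,
nat_lit 0x0,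
nat_lit 0x0,
nat_lit 0x0,
nat_lit 0x0,
nat_lit 0x0,
nat_lit 0x0,
nat_lit 0x0,
nat_lit 0x0,
nat_lit 0x0,
nat_lit 0x0,
nat_lit 0x0,
nat_lit 0x0,
nat_lit 0x0,
nat_lit 0x0,
nat_lit 0x0,
nat_lit 0x0,
nat_lit 0x0,
nat_lit 0x0,
nat_lit 0x0,
nat_lit 0x0,
nat_lit 0x0,
nat_lit 0x0,
nat_lit 0x0,
nat_lit 0x0,
nat_lit 0x0,
nat_lit 0x0,
nat_lit 0x0,
nat_lit 0x0,
nat_lit 0x0,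
nat_lit 0x0,
nat_lit 0x0,
nat_lit 0x0,
nat_lit 0x0,
nat_lit 0x0,
nat_lit 0x0,
nat_lit 0x0,
nat_lit 0x0,
nat_lit 0x0,
nat_lit 0x0,
nat_lit 0x0,
nat_lit 0x0,
nat_lit 0x0,
nat_lit 0x0,
nat_lit 0x0,
nat_lit 0x0,
nat_lit 0x0,
nat_lit 0x0,
nat_lit 0x0,
nat_lit 0x0,
nat_lit 0x0,
nat_lit 0x0,
nat_lit 0x0,
nat_lit 0x0,
nat_lit 0x0,
nat_lit 0x0,
nat_lit 0x0,
nat_lit 0x0,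
nat_lit 0x0,
nat_lit 0x0,
nat_lit 0x0,
nat_lit 0x0,
nat_lit 0x0,
nat_lit 0x0,
nat_lit 0x0,
nat_lit 0x0,
nat_lit 0x0,
nat_lit 0x0,
nat_lit 0x0,
nat_lit 0x0,
nat_lit 0x0,
nat_lit 0x0,
nat_lit 0x0,
nat_lit 0x0,
nat_lit 0x0,
nat_lit 0x0,
nat_lit 0x0,
nat_lit 0x0,
nat_lit 0x0,
nat_lit 0x0,
nat_lit 0x0,
nat_lit 0x0,
nat_lit 0x0,
nat_lit 0x0,
nat_lit 0x0,
nat_lit 0x0,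
nat_lit 0x0,
nat_lit 0x0,
nat_lit 0x0,
nat_lit 0x0,
nat_lit 0x0,
nat_lit 0x0,
nat_lit 0x0,
nat_lit 0x0,
nat_lit 0x0,
nat_lit 0x0,
nat_lit 0x0,
nat_lit 0x0,
nat_lit 0x0,
nat_lit 0x0,
nat_lit 0x0,
nat_lit 0x0,
nat_lit 0x0,
nat_lit 0x0,
nat_lit 0x0,
nat_lit 0x0,
nat_lit 0x0,
nat_lit 0x0,
nat_lit 0x0,
nat_lit 0x0,
nat_lit 0x0,
nat_lit 0x0,
nat_lit 0x0,
nat_lit 0x0,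
nat_lit 0x0,
nat_lit 0x0,
nat_lit 0x0,
nat_lit 0x0,
nat_lit 0x0,
nat_lit 0x0,
nat_lit 0x0,
nat_lit 0x0,
nat_lit 0x0,
nat_lit 0x0,
nat_lit 0x0,
nat_lit 0x0,
nat_lit 0x0,
nat_lit 0x0,
nat_lit 0x0,
nat_lit 0x0,
nat_lit 0x0,
nat_lit 0x0,
nat_lit 0x0,
nat_lit 0x0,
nat_lit 0x0,
nat_lit 0x0,
nat_lit 0x0,
nat_lit 0x0,
nat_lit 0x0,
nat_lit 0x0,
nat_lit 0x0,
nat_lit 0x0,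
nat_lit 0x0,
nat_lit 0x0,
nat_lit 0x0,
nat_lit 0x0,
nat_lit 0x0,
nat_lit 0x0,
nat_lit 0x0,
nat_lit 0x0,
nat_lit 0x0,
nat_lit 0x0,
nat_lit 0x0,
nat_lit 0x0,
nat_lit 0x0,
nat_lit 0x0,
nat_lit 0x0,
nat_lit 0x0,
nat_lit 0x0,
nat_lit 0x0,
nat_lit 0x0,
nat_lit 0x0,
nat_lit 0x0,
nat_lit 0x0,
nat_lit 0x0,
nat_lit 0x0,
nat_lit 0x0,
nat_lit 0x0,
nat_lit 0x0,
nat_lit 0x0,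
nat_lit 0x0,
nat_lit 0x0,
nat_lit 0x0,
nat_lit 0x0,
nat_lit 0x0,
nat_lit 0x0,
nat_lit 0x0,
nat_lit 0x0,
nat_lit 0x0,
nat_lit 0x0,
nat_lit 0x0,
nat_lit 0x0,
nat_lit 0x0,
nat_lit 0x0,
nat_lit 0x0,
nat_lit 0x0,
nat_lit 0x0,
nat_lit 0x0,
nat_lit 0x0,
nat_lit 0x0,
nat_lit 0x0,
nat_lit 0x0,
nat_lit 0x0,
nat_lit 0x0,
nat_lit 0x0]

theorem facts_ok10752 : checkFacts facts 18364758544493064720 words 128 subs 49982 items10752 10752 = true := by decide +kernel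

noncomputable def items11264 : List ℕ := [
nat_lit 0x0,
nat_lit 0x0,
nat_lit 0x0,
nat_lit 0x0,
nat_lit 0x0,
nat_lit 0x0,
nat_lit 0x0,
nat_lit 0x0,
nat_lit 0x0,
nat_lit 0x0,
nat_lit 0x0,
nat_lit 0x0,
nat_lit 0x0,
nat_lit 0x0,
nat_lit 0x0,
nat_lit 0x0,
nat_lit 0x0,
nat_lit 0x0,
nat_lit 0x0,
nat_lit 0x0,
nat_lit 0x0,
nat_lit 0x0,
nat_lit 0x0,
nat_lit 0x0,
nat_lit 0x0,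
nat_lit 0x0,
nat_lit 0x0,
nat_lit 0x0,
nat_lit 0x0,
nat_lit 0x0,
nat_lit 0x0,
nat_lit 0x0,
nat_lit 0x0,
nat_lit 0x0,
nat_lit 0x0,
nat_lit 0x0,
nat_lit 0x0,
nat_lit 0x0,
nat_lit 0x0,
nat_lit 0x0,
nat_lit 0x0,
nat_lit 0x0,
nat_lit 0x0,
nat_lit 0x0,
nat_lit 0x0,
nat_lit 0x0,
nat_lit 0x0,
nat_lit 0x0,
nat_lit 0x0,
nat_lit 0x0,
nat_lit 0x0,
nat_lit 0x0,
nat_lit 0x0,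
nat_lit 0x0,
nat_lit 0x0,
nat_lit 0x0,
nat_lit 0x0,
nat_lit 0x0,
nat_lit 0x0,
nat_lit 0x0,
nat_lit 0x0,
nat_lit 0x0,
nat_lit 0x0,
nat_lit 0x0,
nat_lit 0x0,
nat_lit 0x0,
nat_lit 0x0,
nat_lit 0x0,
nat_lit 0x0,
nat_lit 0x0,
nat_lit 0x0,
nat_lit 0x0,
nat_lit 0x0,
nat_lit 0x0,
nat_lit 0x0,
nat_lit 0x0,
nat_lit 0x0,
nat_lit 0x0,
nat_lit 0x0,
nat_lit 0x0,
nat_lit 0x0,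
nat_lit 0x0,
nat_lit 0x0,
nat_lit 0x0,
nat_lit 0x0,
nat_lit 0x0,
nat_lit 0x0,
nat_lit 0x0,
nat_lit 0x0,
nat_lit 0x0,
nat_lit 0x0,
nat_lit 0x0,
nat_lit 0x0,
nat_lit 0x0,
nat_lit 0x0,
nat_lit 0x0,
nat_lit 0x0,
nat_lit 0x0,
nat_lit 0x0,
nat_lit 0x0,
nat_lit 0x0,
nat_lit 0x0,
nat_lit 0x0,
nat_lit 0x0,
nat_lit 0x0,
nat_lit 0x0,
nat_lit 0x0,
nat_lit 0x0,
nat_lit 0x0,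
nat_lit 0x0,
nat_lit 0x0,
nat_lit 0x0,
nat_lit 0x0,
nat_lit 0x0,
nat_lit 0x0,
nat_lit 0x0,
nat_lit 0x0,
nat_lit 0x0,
nat_lit 0x0,
nat_lit 0x0,
nat_lit 0x0,
nat_lit 0x0,
nat_lit 0x0,
nat_lit 0x0,
nat_lit 0x0,
nat_lit 0x0,
nat_lit 0x0,
nat_lit 0x0,
nat_lit 0x0,
nat_lit 0x0,
nat_lit 0x0,
nat_lit 0x0,
nat_lit 0x0,
nat_lit 0x0,
nat_lit 0x0,
nat_lit 0x0,
nat_lit 0x0,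
nat_lit 0x0,
nat_lit 0x0,
nat_lit 0x0,
nat_lit 0x0,
nat_lit 0x0,
nat_lit 0x0,
nat_lit 0x0,
nat_lit 0x0,
nat_lit 0x0,
nat_lit 0x0,
nat_lit 0x0,
nat_lit 0x0,
nat_lit 0x0,
nat_lit 0x0,
nat_lit 0x0,
nat_lit 0x0,
nat_lit 0x0,
nat_lit 0x0,
nat_lit 0x0,
nat_lit 0x0,
nat_lit 0x0,
nat_lit 0x0,
nat_lit 0x0,
nat_lit 0x0,
nat_lit 0x0,
nat_lit 0x0,
nat_lit 0x0,
nat_lit 0x0,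
nat_lit 0x0,
nat_lit 0x0,
nat_lit 0x0,
nat_lit 0x0,
nat_lit 0x0,
nat_lit 0x0,
nat_lit 0x0,
nat_lit 0x0,
nat_lit 0x0,
nat_lit 0x0,
nat_lit 0x0,
nat_lit 0x0,
nat_lit 0x0,
nat_lit 0x0,
nat_lit 0x0,
nat_lit 0x0,
nat_lit 0x0,
nat_lit 0x0,
nat_lit 0x0,
nat_lit 0x0,
nat_lit 0x0,
nat_lit 0x0,
nat_lit 0x0,
nat_lit 0x0,
nat_lit 0x0,
nat_lit 0x0,
nat_lit 0x0,
nat_lit 0x0,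
nat_lit 0x0,
nat_lit 0x0,
nat_lit 0x0,
nat_lit 0x0,
nat_lit 0x0,
nat_lit 0x0,
nat_lit 0x0,
nat_lit 0x0,
nat_lit 0x0,
nat_lit 0x0,
nat_lit 0x0,
nat_lit 0x0,
nat_lit 0x0,
nat_lit 0x0,
nat_lit 0x0,
nat_lit 0x0,
nat_lit 0x0,
nat_lit 0x0,
nat_lit 0x0,
nat_lit 0x0,
nat_lit 0x0,
nat_lit 0x0,
nat_lit 0x0,
nat_lit 0x0,
nat_lit 0x0,
nat_lit 0x0,
nat_lit 0x0,
nat_lit 0x0,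
nat_lit 0x0,
nat_lit 0x0,
nat_lit 0x0,
nat_lit 0x0,
nat_lit 0x0,
nat_lit 0x0,
nat_lit 0x0,
nat_lit 0x0,
nat_lit 0x0,
nat_lit 0x0,
nat_lit 0x0,
nat_lit 0x0,
nat_lit 0x0,
nat_lit 0x0,
nat_lit 0x0,
nat_lit 0x0,
nat_lit 0x0,
nat_lit 0x0,
nat_lit 0x0,
nat_lit 0x0,
nat_lit 0x0,
nat_lit 0x0,
nat_lit 0x0,
nat_lit 0x0,
nat_lit 0x0,
nat_lit 0x0,
nat_lit 0x0,
nat_lit 0x0,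
nat_lit 0x0,
nat_lit 0x0,
nat_lit 0x0,
nat_lit 0x0,
nat_lit 0x0,
nat_lit 0x0,
nat_lit 0x0,
nat_lit 0x0,
nat_lit 0x0,
nat_lit 0x0,
nat_lit 0x0,
nat_lit 0x0,
nat_lit 0x0,
nat_lit 0x0,
nat_lit 0x0,
nat_lit 0x0,
nat_lit 0x0,
nat_lit 0x0,
nat_lit 0x0,
nat_lit 0x0,
nat_lit 0x0,
nat_lit 0x0,
nat_lit 0x0,
nat_lit 0x0,
nat_lit 0x0,
nat_lit 0x0,
nat_lit 0x0,
nat_lit 0x0,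
nat_lit 0x0,
nat_lit 0x0,
nat_lit 0x0,
nat_lit 0x0,
nat_lit 0x0,
nat_lit 0x0,
nat_lit 0x0,
nat_lit 0x0,
nat_lit 0x0,
nat_lit 0x0,
nat_lit 0x0,
nat_lit 0x0,
nat_lit 0x0,
nat_lit 0x0,
nat_lit 0x0,
nat_lit 0x0,
nat_lit 0x0,
nat_lit 0x0,
nat_lit 0x0,
nat_lit 0x0,
nat_lit 0x0,
nat_lit 0x0,
nat_lit 0x0,
nat_lit 0x0,
nat_lit 0x0,
nat_lit 0x0,
nat_lit 0x0,
nat_lit 0x0,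
nat_lit 0x0,
nat_lit 0x0,
nat_lit 0x0,
nat_lit 0x0,
nat_lit 0x0,
nat_lit 0x0,
nat_lit 0x0,
nat_lit 0x0,
nat_lit 0x0,
nat_lit 0x0,
nat_lit 0x0,
nat_lit 0x0,
nat_lit 0x0,
nat_lit 0x0,
nat_lit 0x0,
nat_lit 0x0,
nat_lit 0x0,
nat_lit 0x0,
nat_lit 0x0,
nat_lit 0x0,
nat_lit 0x0,
nat_lit 0x0,
nat_lit 0x0,
nat_lit 0x0,
nat_lit 0x0,
nat_lit 0x0,
nat_lit 0x0,
nat_lit 0x0,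
nat_lit 0x0,
nat_lit 0x0,
nat_lit 0x0,
nat_lit 0x0,
nat_lit 0x0,
nat_lit 0x0,
nat_lit 0x0,
nat_lit 0x0,
nat_lit 0x0,
nat_lit 0x0,
nat_lit 0x0,
nat_lit 0x0,
nat_lit 0x0,
nat_lit 0x0,
nat_lit 0x0,
nat_lit 0x0,
nat_lit 0x0,
nat_lit 0x0,
nat_lit 0x0,
nat_lit 0x0,
nat_lit 0x0,
nat_lit 0x0,
nat_lit 0x0,
nat_lit 0x0,
nat_lit 0x0,
nat_lit 0x0,
nat_lit 0x0,
nat_lit 0x0,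
nat_lit 0x0,
nat_lit 0x0,
nat_lit 0x0,
nat_lit 0x0,
nat_lit 0x0,
nat_lit 0x0,
nat_lit 0x0,
nat_lit 0x0,
nat_lit 0x0,
nat_lit 0x0,
nat_lit 0x0,
nat_lit 0x0,
nat_lit 0x0,
nat_lit 0x0,
nat_lit 0x0,
nat_lit 0x0,
nat_lit 0x0,
nat_lit 0x0,
nat_lit 0x0,
nat_lit 0x0,
nat_lit 0x0,
nat_lit 0x0,
nat_lit 0x0,
nat_lit 0x0,
nat_lit 0x0,
nat_lit 0x0,
nat_lit 0x0,
nat_lit 0x0,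
nat_lit 0x0,
nat_lit 0x0,
nat_lit 0x0,
nat_lit 0x0,
nat_lit 0x0,
nat_lit 0x0,
nat_lit 0x0,
nat_lit 0x0,
nat_lit 0x0,
nat_lit 0x0,
nat_lit 0x0,
nat_lit 0x0,
nat_lit 0x0,
nat_lit 0x0,
nat_lit 0x0,
nat_lit 0x0,
nat_lit 0x0,
nat_lit 0x0,
nat_lit 0x0,
nat_lit 0x0,
nat_lit 0x0,
nat_lit 0x0,
nat_lit 0x0,
nat_lit 0x0,
nat_lit 0x0,
nat_lit 0x0,
nat_lit 0x0,
nat_lit 0x0,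
nat_lit 0x0,
nat_lit 0x0,
nat_lit 0x0,
nat_lit 0x0,
nat_lit 0x0,
nat_lit 0x0,
nat_lit 0x0,
nat_lit 0x0,
nat_lit 0x0,
nat_lit 0x0,
nat_lit 0x0,
nat_lit 0x0,
nat_lit 0x0,
nat_lit 0x0,
nat_lit 0x0,
nat_lit 0x0,
nat_lit 0x0,
nat_lit 0x0,
nat_lit 0x0,
nat_lit 0x0,
nat_lit 0x0,
nat_lit 0x0,
nat_lit 0x0,
nat_lit 0x0,
nat_lit 0x0,
nat_lit 0x0,
nat_lit 0x0,
nat_lit 0x0,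
nat_lit 0x0,
nat_lit 0x0,
nat_lit 0x0,
nat_lit 0x0,
nat_lit 0x0,
nat_lit 0x0,
nat_lit 0x0,
nat_lit 0x0,
nat_lit 0x0,
nat_lit 0x0,
nat_lit 0x0,
nat_lit 0x0,
nat_lit 0x0,
nat_lit 0x0,
nat_lit 0x0,
nat_lit 0x0,
nat_lit 0x0,
nat_lit 0x0,
nat_lit 0x0,
nat_lit 0x0,
nat_lit 0x0,
nat_lit 0x0,
nat_lit 0x0,
nat_lit 0x0,
nat_lit 0x0,
nat_lit 0x0,
nat_lit 0x0,
nat_lit 0x0,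
nat_lit 0x0,
nat_lit 0x0,
nat_lit 0x0,
nat_lit 0x0,
nat_lit 0x0,
nat_lit 0x0,
nat_lit 0x0,
nat_lit 0x0,
nat_lit 0x0,
nat_lit 0x0,
nat_lit 0x0,
nat_lit 0x0,
nat_lit 0x0,
nat_lit 0x0,
nat_lit 0x0,
nat_lit 0x0,
nat_lit 0x0,
nat_lit 0x0,
nat_lit 0x0,
nat_lit 0x0,
nat_lit 0x0,
nat_lit 0x0,
nat_lit 0x0,
nat_lit 0x0,
nat_lit 0x0,
nat_lit 0x0,
nat_lit 0x0,
nat_lit 0x0,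
nat_lit 0x0,
nat_lit 0x0,
nat_lit 0x0,
nat_lit 0x0,
nat_lit 0x0,
nat_lit 0x0,
nat_lit 0x0,
nat_lit 0x0,
nat_lit 0x0,
nat_lit 0x0,
nat_lit 0x0]

theorem facts_ok11264 : checkFacts facts 18364758544493064720 words 128 subs 49982 items11264 11264 = true := by decide +kernel

noncomputable def items11776 : List ℕ := [
nat_lit 0x0,
nat_lit 0x0,
nat_lit 0x0,
nat_lit 0x0,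
nat_lit 0x0,
nat_lit 0x0,
nat_lit 0x0,
nat_lit 0x0,
nat_lit 0x0,
nat_lit 0x0,
nat_lit 0x0,
nat_lit 0x0,
nat_lit 0x0,
nat_lit 0x0,
nat_lit 0x0,
nat_lit 0x0,
nat_lit 0x0,
nat_lit 0x0,
nat_lit 0x0,
nat_lit 0x0,
nat_lit 0x0,
nat_lit 0x0,
nat_lit 0x0,
nat_lit 0x0,
nat_lit 0x0,
nat_lit 0x0,
nat_lit 0x0,
nat_lit 0x0,
nat_lit 0x0,
nat_lit 0x0,
nat_lit 0x0,
nat_lit 0x0,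
nat_lit 0x0,
nat_lit 0x0,
nat_lit 0x0,
nat_lit 0x0,
nat_lit 0x0,
nat_lit 0x0,
nat_lit 0x0,
nat_lit 0x0,
nat_lit 0x0,
nat_lit 0x0,
nat_lit 0x0,
nat_lit 0x0,
nat_lit 0x0,
nat_lit 0x0,
nat_lit 0x0,
nat_lit 0x0,
nat_lit 0x0,
nat_lit 0x0,
nat_lit 0x0,
nat_lit 0x0,
nat_lit 0x0,
nat_lit 0x0,
nat_lit 0x0,
nat_lit 0x0,
nat_lit 0x0,
nat_lit 0x0,
nat_lit 0x0,
nat_lit 0x0,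
nat_lit 0x0,
nat_lit 0x0,
nat_lit 0x0,
nat_lit 0x0,
nat_lit 0x0,
nat_lit 0x0,
nat_lit 0x0,
nat_lit 0x0,
nat_lit 0x0,
nat_lit 0x0,
nat_lit 0x0,
nat_lit 0x0,
nat_lit 0x0,
nat_lit 0x0,
nat_lit 0x0,
nat_lit 0x0,
nat_lit 0x0,
nat_lit 0x0,
nat_lit 0x0,
nat_lit 0x0,
nat_lit 0x0,
nat_lit 0x0,
nat_lit 0x0,
nat_lit 0x0,
nat_lit 0x0,
nat_lit 0x0,
nat_lit 0x0,
nat_lit 0x0,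
nat_lit 0x0,
nat_lit 0x0,
nat_lit 0x0,
nat_lit 0x0,
nat_lit 0x0,
nat_lit 0x0,
nat_lit 0x0,
nat_lit 0x0,
nat_lit 0x0,
nat_lit 0x0,
nat_lit 0x0,
nat_lit 0x0,
nat_lit 0x0,
nat_lit 0x0,
nat_lit 0x0,
nat_lit 0x0,
nat_lit 0x0,
nat_lit 0x0,
nat_lit 0x0,
nat_lit 0x0,
nat_lit 0x0,
nat_lit 0x0,
nat_lit 0x0,
nat_lit 0x0,
nat_lit 0x0,
nat_lit 0x0,
nat_lit 0x0,
nat_lit 0x0,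
nat_lit 0x0,
nat_lit 0x0,
nat_lit 0x0,
nat_lit 0x0,
nat_lit 0x0,
nat_lit 0x0,
nat_lit 0x0,
nat_lit 0x0,
nat_lit 0x0,
nat_lit 0x0,
nat_lit 0x0,
nat_lit 0x0,
nat_lit 0x0,
nat_lit 0x0,
nat_lit 0x0,
nat_lit 0x0,
nat_lit 0x0,
nat_lit 0x0,
nat_lit 0x0,
nat_lit 0x0,
nat_lit 0x0,
nat_lit 0x0,
nat_lit 0x0,
nat_lit 0x0,
nat_lit 0x0,
nat_lit 0x0,
nat_lit 0x0,
nat_lit 0x0,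
nat_lit 0x0,
nat_lit 0x0,
nat_lit 0x0,
nat_lit 0x0,
nat_lit 0x0,
nat_lit 0x0,
nat_lit 0x0,
nat_lit 0x0,
nat_lit 0x0,
nat_lit 0x0,
nat_lit 0x0,
nat_lit 0x0,
nat_lit 0x0,
nat_lit 0x0,
nat_lit 0x0,
nat_lit 0x0,
nat_lit 0x0,
nat_lit 0x0,
nat_lit 0x0,
nat_lit 0x0,
nat_lit 0x0,
nat_lit 0x0,
nat_lit 0x0,
nat_lit 0x0,
nat_lit 0x0,
nat_lit 0x0,
nat_lit 0x0,
nat_lit 0x0,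
nat_lit 0x0,
nat_lit 0x0,
nat_lit 0x0,
nat_lit 0x0,
nat_lit 0x0,
nat_lit 0x0,
nat_lit 0x0,
nat_lit 0x0,
nat_lit 0x0,
nat_lit 0x0,
nat_lit 0x0,
nat_lit 0x0,
nat_lit 0x0,
nat_lit 0x0,
nat_lit 0x0,
nat_lit 0x0,
nat_lit 0x0,
nat_lit 0x0,
nat_lit 0x0,
nat_lit 0x0,
nat_lit 0x0,
nat_lit 0x0,
nat_lit 0x0,
nat_lit 0x0,
nat_lit 0x0,
nat_lit 0x0,
nat_lit 0x0,
nat_lit 0x0,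
nat_lit 0x0,
nat_lit 0x0,
nat_lit 0x0,
nat_lit 0x0,
nat_lit 0x0,
nat_lit 0x0,
nat_lit 0x0,
nat_lit 0x0,
nat_lit 0x0,
nat_lit 0x0,
nat_lit 0x0,
nat_lit 0x0,
nat_lit 0x0,
nat_lit 0x0,
nat_lit 0x0,
nat_lit 0x0,
nat_lit 0x0,
nat_lit 0x0,
nat_lit 0x0,
nat_lit 0x0,
nat_lit 0x0,
nat_lit 0x0,
nat_lit 0x0,
nat_lit 0x0,
nat_lit 0x0,
nat_lit 0x0,
nat_lit 0x0,
nat_lit 0x0,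
nat_lit 0x0,
nat_lit 0x0,
nat_lit 0x0,
nat_lit 0x0,
nat_lit 0x0,
nat_lit 0x0,
nat_lit 0x0,
nat_lit 0x0,
nat_lit 0x0,
nat_lit 0x0,
nat_lit 0x0,
nat_lit 0x0,
nat_lit 0x0,
nat_lit 0x0,
nat_lit 0x0,
nat_lit 0x0,
nat_lit 0x0,
nat_lit 0x0,
nat_lit 0x0,
nat_lit 0x0,
nat_lit 0x0,
nat_lit 0x0,
nat_lit 0x0,
nat_lit 0x0,
nat_lit 0x0,
nat_lit 0x0,
nat_lit 0x0,
nat_lit 0x0,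
nat_lit 0x0,
nat_lit 0x0,
nat_lit 0x0,
nat_lit 0x0,
nat_lit 0x0,
nat_lit 0x0,
nat_lit 0x0,
nat_lit 0x0,
nat_lit 0x0,
nat_lit 0x0,
nat_lit 0x0,
nat_lit 0x0,
nat_lit 0x0,
nat_lit 0x0,
nat_lit 0x0,
nat_lit 0x0,
nat_lit 0x0,
nat_lit 0x0,
nat_lit 0x0,
nat_lit 0x0,
nat_lit 0x0,
nat_lit 0x0,
nat_lit 0x0,
nat_lit 0x0,
nat_lit 0x0,
nat_lit 0x0,
nat_lit 0x0,
nat_lit 0x0,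
nat_lit 0x0,
nat_lit 0x0,
nat_lit 0x0,
nat_lit 0x0,
nat_lit 0x0,
nat_lit 0x0,
nat_lit 0x0,
nat_lit 0x0,
nat_lit 0x0,
nat_lit 0x0,
nat_lit 0x0,
nat_lit 0x0,
nat_lit 0x0,
nat_lit 0x0,
nat_lit 0x0,
nat_lit 0x0,
nat_lit 0x0,
nat_lit 0x0,
nat_lit 0x0,
nat_lit 0x0,
nat_lit 0x0,
nat_lit 0x0,
nat_lit 0x0,
nat_lit 0x0,
nat_lit 0x0,
nat_lit 0x0,
nat_lit 0x0,
nat_lit 0x0,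
nat_lit 0x0,
nat_lit 0x0,
nat_lit 0x0,
nat_lit 0x0,
nat_lit 0x0,
nat_lit 0x0,
nat_lit 0x0,
nat_lit 0x0,
nat_lit 0x0,
nat_lit 0x0,
nat_lit 0x0,
nat_lit 0x0,
nat_lit 0x0,
nat_lit 0x0,
nat_lit 0x0,
nat_lit 0x0,
nat_lit 0x0,
nat_lit 0x0,
nat_lit 0x0,
nat_lit 0x0,
nat_lit 0x0,
nat_lit 0x0,
nat_lit 0x0,
nat_lit 0x0,
nat_lit 0x0,
nat_lit 0x0,
nat_lit 0x0,
nat_lit 0x0,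
nat_lit 0x0,
nat_lit 0x0,
nat_lit 0x0,
nat_lit 0x0,
nat_lit 0x0,
nat_lit 0x0,
nat_lit 0x0,
nat_lit 0x0,
nat_lit 0x0,
nat_lit 0x0,
nat_lit 0x0,
nat_lit 0x0,
nat_lit 0x0,
nat_lit 0x0,
nat_lit 0x0,
nat_lit 0x0,
nat_lit 0x0,
nat_lit 0x0,
nat_lit 0x0,
nat_lit 0x0,
nat_lit 0x0,
nat_lit 0x0,
nat_lit 0x0,
nat_lit 0x0,
nat_lit 0x0,
nat_lit 0x0,
nat_lit 0x0,
nat_lit 0x0,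
nat_lit 0x0,
nat_lit 0x0,
nat_lit 0x0,
nat_lit 0x0,
nat_lit 0x0,
nat_lit 0x0,
nat_lit 0x0,
nat_lit 0x0,
nat_lit 0x0,
nat_lit 0x0,
nat_lit 0x0,
nat_lit 0x0,
nat_lit 0x0,
nat_lit 0x0,
nat_lit 0x0,
nat_lit 0x0,
nat_lit 0x0,
nat_lit 0x0,
nat_lit 0x0,
nat_lit 0x0,
nat_lit 0x0,
nat_lit 0x0,
nat_lit 0x0,
nat_lit 0x0,
nat_lit 0x0,
nat_lit 0x0,
nat_lit 0x0,
nat_lit 0x0,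
nat_lit 0x0,
nat_lit 0x0,
nat_lit 0x0,
nat_lit 0x0,
nat_lit 0x0,
nat_lit 0x0,
nat_lit 0x0,
nat_lit 0x0,
nat_lit 0x0,
nat_lit 0x0,
nat_lit 0x0,
nat_lit 0x0,
nat_lit 0x0,
nat_lit 0x0,
nat_lit 0x0,
nat_lit 0x0,
nat_lit 0x0,
nat_lit 0x0,
nat_lit 0x0,
nat_lit 0x0,
nat_lit 0x0,
nat_lit 0x0,
nat_lit 0x0,
nat_lit 0x0,
nat_lit 0x0,
nat_lit 0x0,
nat_lit 0x0,
nat_lit 0x0,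
nat_lit 0x0,
nat_lit 0x0,
nat_lit 0x0,
nat_lit 0x0,
nat_lit 0x0,
nat_lit 0x0,
nat_lit 0x0,
nat_lit 0x0,
nat_lit 0x0,
nat_lit 0x0,
nat_lit 0x0,
nat_lit 0x0,
nat_lit 0x0,
nat_lit 0x0,
nat_lit 0x0,
nat_lit 0x0,
nat_lit 0x0,
nat_lit 0x0,
nat_lit 0x0,
nat_lit 0x0,
nat_lit 0x0,
nat_lit 0x0,
nat_lit 0x0,
nat_lit 0x0,
nat_lit 0x0,
nat_lit 0x0,
nat_lit 0x0,
nat_lit 0x0,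
nat_lit 0x0,
nat_lit 0x0,
nat_lit 0x0,
nat_lit 0x0,
nat_lit 0x0,
nat_lit 0x0,
nat_lit 0x0,
nat_lit 0x0,
nat_lit 0x0,
nat_lit 0x0,
nat_lit 0x0,
nat_lit 0x0,
nat_lit 0x0,
nat_lit 0x0,
nat_lit 0x0,
nat_lit 0x0,
nat_lit 0x0,
nat_lit 0x0,
nat_lit 0x0,
nat_lit 0x0,
nat_lit 0x0,
nat_lit 0x0,
nat_lit 0x0,
nat_lit 0x0,
nat_lit 0x0,
nat_lit 0x0,
nat_lit 0x0,
nat_lit 0x0,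
nat_lit 0x0,
nat_lit 0x0,
nat_lit 0x0,
nat_lit 0x0,
nat_lit 0x0,
nat_lit 0x0,
nat_lit 0x0,
nat_lit 0x0,
nat_lit 0x0,
nat_lit 0x0,
nat_lit 0x0,
nat_lit 0x0,
nat_lit 0x0,
nat_lit 0x0,
nat_lit 0x0,
nat_lit 0x0,
nat_lit 0x0,
nat_lit 0x0,
nat_lit 0x0,
nat_lit 0x0,
nat_lit 0x0,
nat_lit 0x0,
nat_lit 0x0,
nat_lit 0x0,
nat_lit 0x0,
nat_lit 0x0,
nat_lit 0x0,
nat_lit 0x0,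
nat_lit 0x0,
nat_lit 0x0,
nat_lit 0x0,
nat_lit 0x0]

theorem facts_ok11776 : checkFacts facts 18364758544493064720 words 128 subs 49982 items11776 11776 = true := by decide +kernel

noncomputable def items12288 : List ℕ := [
nat_lit 0x0,
nat_lit 0x0,
nat_lit 0x0,
nat_lit 0x0,
nat_lit 0x0,
nat_lit 0x0,
nat_lit 0x0,
nat_lit 0x0,
nat_lit 0x0,
nat_lit 0x0,
nat_lit 0x0,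
nat_lit 0x0,
nat_lit 0x0,
nat_lit 0x0,
nat_lit 0x0,
nat_lit 0x0,
nat_lit 0x0,
nat_lit 0x0,
nat_lit 0x0,
nat_lit 0x0,
nat_lit 0x0,
nat_lit 0x0,
nat_lit 0x0,
nat_lit 0x0,
nat_lit 0x0,
nat_lit 0x0,
nat_lit 0x0,
nat_lit 0x0,
nat_lit 0x0,
nat_lit 0x0,
nat_lit 0x0,
nat_lit 0x0,
nat_lit 0x0,
nat_lit 0x0,
nat_lit 0x0,
nat_lit 0x0,
nat_lit 0x0,
nat_lit 0x0,
nat_lit 0x0,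
nat_lit 0x0,
nat_lit 0x0,
nat_lit 0x0,
nat_lit 0x0,
nat_lit 0x0,
nat_lit 0x0,
nat_lit 0x0,
nat_lit 0x0,
nat_lit 0x0,
nat_lit 0x0,
nat_lit 0x0,
nat_lit 0x0,
nat_lit 0x0,
nat_lit 0x0,
nat_lit 0x0,
nat_lit 0x0,
nat_lit 0x0,
nat_lit 0x0,
nat_lit 0x0,
nat_lit 0x0,
nat_lit 0x0,
nat_lit 0x0,
nat_lit 0x0,
nat_lit 0x0,
nat_lit 0x0,
nat_lit 0x0,
nat_lit 0x0,
nat_lit 0x0,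
nat_lit 0x0,
nat_lit 0x0,
nat_lit 0x0,
nat_lit 0x0,
nat_lit 0x0,
nat_lit 0x0,
nat_lit 0x0,
nat_lit 0x0,
nat_lit 0x0,
nat_lit 0x0,
nat_lit 0x0,
nat_lit 0x0,
nat_lit 0x0,
nat_lit 0x0,
nat_lit 0x0,
nat_lit 0x0,
nat_lit 0x0,
nat_lit 0x0,
nat_lit 0x0,
nat_lit 0x0,
nat_lit 0x0,
nat_lit 0x0,
nat_lit 0x0,
nat_lit 0x0,
nat_lit 0x0,
nat_lit 0x0,
nat_lit 0x0,
nat_lit 0x0,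
nat_lit 0x0,
nat_lit 0x0,
nat_lit 0x0,
nat_lit 0x0,
nat_lit 0x0,
nat_lit 0x0,
nat_lit 0x0,
nat_lit 0x0,
nat_lit 0x0,
nat_lit 0x0,
nat_lit 0x0,
nat_lit 0x0,
nat_lit 0x0,
nat_lit 0x0,
nat_lit 0x0,
nat_lit 0x0,
nat_lit 0x0,
nat_lit 0x0,
nat_lit 0x0,
nat_lit 0x0,
nat_lit 0x0,
nat_lit 0x0,
nat_lit 0x0,
nat_lit 0x0,
nat_lit 0x0,
nat_lit 0x0,
nat_lit 0x0,
nat_lit 0x0,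
nat_lit 0x0,
nat_lit 0x0,
nat_lit 0x0,
nat_lit 0x0,
nat_lit 0x0,
nat_lit 0x0,
nat_lit 0x0,
nat_lit 0x0,
nat_lit 0x0,
nat_lit 0x0,
nat_lit 0x0,
nat_lit 0x0,
nat_lit 0x0,
nat_lit 0x0,
nat_lit 0x0,
nat_lit 0x0,
nat_lit 0x0,
nat_lit 0x0,
nat_lit 0x0,
nat_lit 0x0,
nat_lit 0x0,
nat_lit 0x0,
nat_lit 0x0,
nat_lit 0x0,
nat_lit 0x0,
nat_lit 0x0,
nat_lit 0x0,
nat_lit 0x0,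
nat_lit 0x0,
nat_lit 0x0,
nat_lit 0x0,
nat_lit 0x0,
nat_lit 0x0,
nat_lit 0x0,
nat_lit 0x0,
nat_lit 0x0,
nat_lit 0x0,
nat_lit 0x0,
nat_lit 0x0,
nat_lit 0x0,
nat_lit 0x0,
nat_lit 0x0,
nat_lit 0x0,
nat_lit 0x0,
nat_lit 0x0,
nat_lit 0x0,
nat_lit 0x0,
nat_lit 0x0,
nat_lit 0x0,
nat_lit 0x0,
nat_lit 0x0,
nat_lit 0x0,
nat_lit 0x0,
nat_lit 0x0,
nat_lit 0x0,
nat_lit 0x0,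
nat_lit 0x0,
nat_lit 0x0,
nat_lit 0x0,
nat_lit 0x0,
nat_lit 0x0,
nat_lit 0x0,
nat_lit 0x0,
nat_lit 0x0,
nat_lit 0x0,
nat_lit 0x0,
nat_lit 0x0,
nat_lit 0x0,
nat_lit 0x0,
nat_lit 0x0,
nat_lit 0x0,
nat_lit 0x0,
nat_lit 0x0,
nat_lit 0x0,
nat_lit 0x0,
nat_lit 0x0,
nat_lit 0x0,
nat_lit 0x0,
nat_lit 0x0,
nat_lit 0x0,
nat_lit 0x0,
nat_lit 0x0,
nat_lit 0x0,
nat_lit 0x0,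
nat_lit 0x0,
nat_lit 0x0,
nat_lit 0x0,
nat_lit 0x0,
nat_lit 0x0,
nat_lit 0x0,
nat_lit 0x0,
nat_lit 0x0,
nat_lit 0x0,
nat_lit 0x0,
nat_lit 0x0,
nat_lit 0x0,
nat_lit 0x0,
nat_lit 0x0,
nat_lit 0x0,
nat_lit 0x0,
nat_lit 0x0,
nat_lit 0x0,
nat_lit 0x0,
nat_lit 0x0,
nat_lit 0x0,
nat_lit 0x0,
nat_lit 0x0,
nat_lit 0x0,
nat_lit 0x0,
nat_lit 0x0,
nat_lit 0x0,
nat_lit 0x0,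
nat_lit 0x0,
nat_lit 0x0,
nat_lit 0x0,
nat_lit 0x0,
nat_lit 0x0,
nat_lit 0x0,
nat_lit 0x0,
nat_lit 0x0,
nat_lit 0x0,
nat_lit 0x0,
nat_lit 0x0,
nat_lit 0x0,
nat_lit 0x0,
nat_lit 0x0,
nat_lit 0x0,
nat_lit 0x0,
nat_lit 0x0,
nat_lit 0x0,
nat_lit 0x0,
nat_lit 0x0,
nat_lit 0x0,
nat_lit 0x0,
nat_lit 0x0,
nat_lit 0x0,
nat_lit 0x0,
nat_lit 0x0,
nat_lit 0x0,
nat_lit 0x0,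
nat_lit 0x0,
nat_lit 0x0,
nat_lit 0x0,
nat_lit 0x0,
nat_lit 0x0,
nat_lit 0x0,
nat_lit 0x0,
nat_lit 0x0,
nat_lit 0x0,
nat_lit 0x0,
nat_lit 0x0,
nat_lit 0x0,
nat_lit 0x0,
nat_lit 0x0,
nat_lit 0x0,
nat_lit 0x0,
nat_lit 0x0,
nat_lit 0x0,
nat_lit 0x0,
nat_lit 0x0,
nat_lit 0x0,
nat_lit 0x0,
nat_lit 0x0,
nat_lit 0x0,
nat_lit 0x0,
nat_lit 0x0,
nat_lit 0x0,
nat_lit 0x0,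
nat_lit 0x0,
nat_lit 0x0,
nat_lit 0x0,
nat_lit 0x0,
nat_lit 0x0,
nat_lit 0x0,
nat_lit 0x0,
nat_lit 0x0,
nat_lit 0x0,
nat_lit 0x0,
nat_lit 0x0,
nat_lit 0x0,
nat_lit 0x0,
nat_lit 0x0,
nat_lit 0x0,
nat_lit 0x0,
nat_lit 0x0,
nat_lit 0x0,
nat_lit 0x0,
nat_lit 0x0,
nat_lit 0x0,
nat_lit 0x0,
nat_lit 0x0,
nat_lit 0x0,
nat_lit 0x0,
nat_lit 0x0,
nat_lit 0x0,
nat_lit 0x0,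
nat_lit 0x0,
nat_lit 0x0,
nat_lit 0x0,
nat_lit 0x0,
nat_lit 0x0,
nat_lit 0x0,
nat_lit 0x0,
nat_lit 0x0,
nat_lit 0x0,
nat_lit 0x0,
nat_lit 0x0,
nat_lit 0x0,
nat_lit 0x0,
nat_lit 0x0,
nat_lit 0x0,
nat_lit 0x0,
nat_lit 0x0,
nat_lit 0x0,
nat_lit 0x0,
nat_lit 0x0,
nat_lit 0x0,
nat_lit 0x0,
nat_lit 0x0,
nat_lit 0x0,
nat_lit 0x0,
nat_lit 0x0,
nat_lit 0x0,
nat_lit 0x0,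
nat_lit 0x0,
nat_lit 0x0,
nat_lit 0x0,
nat_lit 0x0,
nat_lit 0x0,
nat_lit 0x0,
nat_lit 0x0,
nat_lit 0x0,
nat_lit 0x0,
nat_lit 0x0,
nat_lit 0x0,
nat_lit 0x0,
nat_lit 0x0,
nat_lit 0x0,
nat_lit 0x0,
nat_lit 0x0,
nat_lit 0x0,
nat_lit 0x0,
nat_lit 0x0,
nat_lit 0x0,
nat_lit 0x0,
nat_lit 0x0,
nat_lit 0x0,
nat_lit 0x0,
nat_lit 0x0,
nat_lit 0x0,
nat_lit 0x0,
nat_lit 0x0,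
nat_lit 0x0,
nat_lit 0x0,
nat_lit 0x0,
nat_lit 0x0,
nat_lit 0x0,
nat_lit 0x0,
nat_lit 0x0,
nat_lit 0x0,
nat_lit 0x0,
nat_lit 0x0,
nat_lit 0x0,
nat_lit 0x0,
nat_lit 0x0,
nat_lit 0x0,
nat_lit 0x0,
nat_lit 0x0,
nat_lit 0x0,
nat_lit 0x0,
nat_lit 0x0,
nat_lit 0x0,
nat_lit 0x0,
nat_lit 0x0,
nat_lit 0x0,
nat_lit 0x0,
nat_lit 0x0,
nat_lit 0x0,
nat_lit 0x0,
nat_lit 0x0,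
nat_lit 0x0,
nat_lit 0x0,
nat_lit 0x0,
nat_lit 0x0,
nat_lit 0x0,
nat_lit 0x0,
nat_lit 0x0,
nat_lit 0x0,
nat_lit 0x0,
nat_lit 0x0,
nat_lit 0x0,
nat_lit 0x0,
nat_lit 0x0,
nat_lit 0x0,
nat_lit 0x0,
nat_lit 0x0,
nat_lit 0x0,
nat_lit 0x0,
nat_lit 0x0,
nat_lit 0x0,
nat_lit 0x0,
nat_lit 0x0,
nat_lit 0x0,
nat_lit 0x0,
nat_lit 0x0,
nat_lit 0x0,
nat_lit 0x0,
nat_lit 0x0,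
nat_lit 0x0,
nat_lit 0x0,
nat_lit 0x0,
nat_lit 0x0,
nat_lit 0x0,
nat_lit 0x0,
nat_lit 0x0,
nat_lit 0x0,
nat_lit 0x0,
nat_lit 0x0,
nat_lit 0x0,
nat_lit 0x0,
nat_lit 0x0,
nat_lit 0x0,
nat_lit 0x0,
nat_lit 0x0,
nat_lit 0x0,
nat_lit 0x0,
nat_lit 0x0,
nat_lit 0x0,
nat_lit 0x0,
nat_lit 0x0,
nat_lit 0x0,
nat_lit 0x0,
nat_lit 0x0,
nat_lit 0x0,
nat_lit 0x0,
nat_lit 0x0,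
nat_lit 0x0,
nat_lit 0x0,
nat_lit 0x0,
nat_lit 0x0,
nat_lit 0x0,
nat_lit 0x0,
nat_lit 0x0,
nat_lit 0x0,
nat_lit 0x0,
nat_lit 0x0,
nat_lit 0x0,
nat_lit 0x0,
nat_lit 0x0,
nat_lit 0x0,
nat_lit 0x0,
nat_lit 0x0,
nat_lit 0x0,
nat_lit 0x0,
nat_lit 0x0,
nat_lit 0x0,
nat_lit 0x0,
nat_lit 0x0,
nat_lit 0x0,
nat_lit 0x0,
nat_lit 0x0,
nat_lit 0x0,
nat_lit 0x0,
nat_lit 0x0,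
nat_lit 0x0,
nat_lit 0x0,
nat_lit 0x0,
nat_lit 0x0,
nat_lit 0x0,
nat_lit 0x0,
nat_lit 0x0,
nat_lit 0x0,
nat_lit 0x0,
nat_lit 0x0,
nat_lit 0x0,
nat_lit 0x0,
nat_lit 0x0,
nat_lit 0x0,
nat_lit 0x0,
nat_lit 0x0,
nat_lit 0x0,
nat_lit 0x0,
nat_lit 0x0,
nat_lit 0x0,
nat_lit 0x0,
nat_lit 0x0,
nat_lit 0x0,
nat_lit 0x0,
nat_lit 0x0]

theorem facts_ok12288 : checkFacts facts 18364758544493064720 words 128 subs 49982 items12288 12288 = true := by decide +kernel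

noncomputable def items12800 : List ℕ := [
nat_lit 0x0,
nat_lit 0x0,
nat_lit 0x0,
nat_lit 0x0,
nat_lit 0x0,
nat_lit 0x0,
nat_lit 0x0,
nat_lit 0x0,
nat_lit 0x0,
nat_lit 0x0,
nat_lit 0x0,
nat_lit 0x0,
nat_lit 0x0,
nat_lit 0x0,
nat_lit 0x0,
nat_lit 0x0,
nat_lit 0x0,
nat_lit 0x0,
nat_lit 0x0,
nat_lit 0x0,
nat_lit 0x0,
nat_lit 0x0,
nat_lit 0x0,
nat_lit 0x0,
nat_lit 0x0,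
nat_lit 0x0,
nat_lit 0x0,
nat_lit 0x0,
nat_lit 0x0,
nat_lit 0x0,
nat_lit 0x0,
nat_lit 0x0,
nat_lit 0x0,
nat_lit 0x0,
nat_lit 0x0,
nat_lit 0x0,
nat_lit 0x0,
nat_lit 0x0,
nat_lit 0x0,
nat_lit 0x0,
nat_lit 0x0,
nat_lit 0x0,
nat_lit 0x0,
nat_lit 0x0,
nat_lit 0x0,
nat_lit 0x0,
nat_lit 0x0,
nat_lit 0x0,
nat_lit 0x0,
nat_lit 0x0,
nat_lit 0x0,
nat_lit 0x0,
nat_lit 0x0,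
nat_lit 0x0,
nat_lit 0x0,
nat_lit 0x0,
nat_lit 0x0,
nat_lit 0x0,
nat_lit 0x0,
nat_lit 0x0,
nat_lit 0x0,
nat_lit 0x0,
nat_lit 0x0,
nat_lit 0x0,
nat_lit 0x0,
nat_lit 0x0,
nat_lit 0x0,
nat_lit 0x0,
nat_lit 0x0,
nat_lit 0x0,
nat_lit 0x0,
nat_lit 0x0,
nat_lit 0x0,
nat_lit 0x0,
nat_lit 0x0,
nat_lit 0x0,
nat_lit 0x0,
nat_lit 0x0,
nat_lit 0x0,
nat_lit 0x0,
nat_lit 0x0,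
nat_lit 0x0,
nat_lit 0x0,
nat_lit 0x0,
nat_lit 0x0,
nat_lit 0x0,
nat_lit 0x0,
nat_lit 0x0,
nat_lit 0x0,
nat_lit 0x0,
nat_lit 0x0,
nat_lit 0x0,
nat_lit 0x0,
nat_lit 0x0,
nat_lit 0x0,
nat_lit 0x0,
nat_lit 0x0,
nat_lit 0x0,
nat_lit 0x0,
nat_lit 0x0,
nat_lit 0x0,
nat_lit 0x0,
nat_lit 0x0,
nat_lit 0x0,
nat_lit 0x0,
nat_lit 0x0,
nat_lit 0x0,
nat_lit 0x0,
nat_lit 0x0,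
nat_lit 0x0,
nat_lit 0x0,
nat_lit 0x0,
nat_lit 0x0,
nat_lit 0x0,
nat_lit 0x0,
nat_lit 0x0,
nat_lit 0x0,
nat_lit 0x0,
nat_lit 0x0,
nat_lit 0x0,
nat_lit 0x0,
nat_lit 0x0,
nat_lit 0x0,
nat_lit 0x0,
nat_lit 0x0,
nat_lit 0x0,
nat_lit 0x0,
nat_lit 0x0,
nat_lit 0x0,
nat_lit 0x0,
nat_lit 0x0,
nat_lit 0x0,
nat_lit 0x0,
nat_lit 0x0,
nat_lit 0x0,
nat_lit 0x0,
nat_lit 0x0,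
nat_lit 0x0,
nat_lit 0x0,
nat_lit 0x0,
nat_lit 0x0,
nat_lit 0x0,
nat_lit 0x0,
nat_lit 0x0,
nat_lit 0x0,
nat_lit 0x0,
nat_lit 0x0,
nat_lit 0x0,
nat_lit 0x0,
nat_lit 0x0,
nat_lit 0x0,
nat_lit 0x0,
nat_lit 0x0,
nat_lit 0x0,
nat_lit 0x0,
nat_lit 0x0,
nat_lit 0x0,
nat_lit 0x0,
nat_lit 0x0,
nat_lit 0x0,
nat_lit 0x0,
nat_lit 0x0,
nat_lit 0x0,
nat_lit 0x0,
nat_lit 0x0,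
nat_lit 0x0,
nat_lit 0x0,
nat_lit 0x0,
nat_lit 0x0,
nat_lit 0x0,
nat_lit 0x0,
nat_lit 0x0,
nat_lit 0x0,
nat_lit 0x0,
nat_lit 0x0,
nat_lit 0x0,
nat_lit 0x0,
nat_lit 0x0,
nat_lit 0x0,
nat_lit 0x0,
nat_lit 0x0,
nat_lit 0x0,
nat_lit 0x0,
nat_lit 0x0,
nat_lit 0x0,
nat_lit 0x0,
nat_lit 0x0,
nat_lit 0x0,
nat_lit 0x0,
nat_lit 0x0,
nat_lit 0x0,
nat_lit 0x0,
nat_lit 0x0,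
nat_lit 0x0,
nat_lit 0x0,
nat_lit 0x0,
nat_lit 0x0,
nat_lit 0x0,
nat_lit 0x0,
nat_lit 0x0,
nat_lit 0x0,
nat_lit 0x0,
nat_lit 0x0,
nat_lit 0x0,
nat_lit 0x0,
nat_lit 0x0,
nat_lit 0x0,
nat_lit 0x0,
nat_lit 0x0,
nat_lit 0x0,
nat_lit 0x0,
nat_lit 0x0,
nat_lit 0x0,
nat_lit 0x0,
nat_lit 0x0,
nat_lit 0x0,
nat_lit 0x0,
nat_lit 0x0,
nat_lit 0x0,
nat_lit 0x0,
nat_lit 0x0,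
nat_lit 0x0,
nat_lit 0x0,
nat_lit 0x0,
nat_lit 0x0,
nat_lit 0x0,
nat_lit 0x0,
nat_lit 0x0,
nat_lit 0x0,
nat_lit 0x0,
nat_lit 0x0,
nat_lit 0x0,
nat_lit 0x0,
nat_lit 0x0,
nat_lit 0x0,
nat_lit 0x0,
nat_lit 0x0,
nat_lit 0x0,
nat_lit 0x0,
nat_lit 0x0,
nat_lit 0x0,
nat_lit 0x0,
nat_lit 0x0,
nat_lit 0x0,
nat_lit 0x0,
nat_lit 0x0,
nat_lit 0x0,
nat_lit 0x0,
nat_lit 0x0,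
nat_lit 0x0,
nat_lit 0x0,
nat_lit 0x0,
nat_lit 0x0,
nat_lit 0x0,
nat_lit 0x0,
nat_lit 0x0,
nat_lit 0x0,
nat_lit 0x0,
nat_lit 0x0,
nat_lit 0x0,
nat_lit 0x0,
nat_lit 0x0,
nat_lit 0x0,
nat_lit 0x0,
nat_lit 0x0,
nat_lit 0x0,
nat_lit 0x0,
nat_lit 0x0,
nat_lit 0x0,
nat_lit 0x0,
nat_lit 0x0,
nat_lit 0x0,
nat_lit 0x0,
nat_lit 0x0,
nat_lit 0x0,
nat_lit 0x0,
nat_lit 0x0,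
nat_lit 0x0,
nat_lit 0x0,
nat_lit 0x0,
nat_lit 0x0,
nat_lit 0x0,
nat_lit 0x0,
nat_lit 0x0,
nat_lit 0x0,
nat_lit 0x0,
nat_lit 0x0,
nat_lit 0x0,
nat_lit 0x0,
nat_lit 0x0,
nat_lit 0x0,
nat_lit 0x0,
nat_lit 0x0,
nat_lit 0x0,
nat_lit 0x0,
nat_lit 0x0,
nat_lit 0x0,
nat_lit 0x0,
nat_lit 0x0,
nat_lit 0x0,
nat_lit 0x0,
nat_lit 0x0,
nat_lit 0x0,
nat_lit 0x0,
nat_lit 0x0,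
nat_lit 0x0,
nat_lit 0x0,
nat_lit 0x0,
nat_lit 0x0,
nat_lit 0x0,
nat_lit 0x0,
nat_lit 0x0,
nat_lit 0x0,
nat_lit 0x0,
nat_lit 0x0,
nat_lit 0x0,
nat_lit 0x0,
nat_lit 0x0,
nat_lit 0x0,
nat_lit 0x0,
nat_lit 0x0,
nat_lit 0x0,
nat_lit 0x0,
nat_lit 0x0,
nat_lit 0x0,
nat_lit 0x0,
nat_lit 0x0,
nat_lit 0x0,
nat_lit 0x0,
nat_lit 0x0,
nat_lit 0x0,
nat_lit 0x0,
nat_lit 0x0,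
nat_lit 0x0,
nat_lit 0x0,
nat_lit 0x0,
nat_lit 0x0,
nat_lit 0x0,
nat_lit 0x0,
nat_lit 0x0,
nat_lit 0x0,
nat_lit 0x0,
nat_lit 0x0,
nat_lit 0x0,
nat_lit 0x0,
nat_lit 0x0,
nat_lit 0x0,
nat_lit 0x0,
nat_lit 0x0,
nat_lit 0x0,
nat_lit 0x0,
nat_lit 0x0,
nat_lit 0x0,
nat_lit 0x0,
nat_lit 0x0,
nat_lit 0x0,
nat_lit 0x0,
nat_lit 0x0,
nat_lit 0x0,
nat_lit 0x0,
nat_lit 0x0,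
nat_lit 0x0,
nat_lit 0x0,
nat_lit 0x0,
nat_lit 0x0,
nat_lit 0x0,
nat_lit 0x0,
nat_lit 0x0,
nat_lit 0x0,
nat_lit 0x0,
nat_lit 0x0,
nat_lit 0x0,
nat_lit 0x0,
nat_lit 0x0,
nat_lit 0x0,
nat_lit 0x0,
nat_lit 0x0,
nat_lit 0x0,
nat_lit 0x0,
nat_lit 0x0,
nat_lit 0x0,
nat_lit 0x0,
nat_lit 0x0,
nat_lit 0x0,
nat_lit 0x0,
nat_lit 0x0,
nat_lit 0x0,
nat_lit 0x0,
nat_lit 0x0,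
nat_lit 0x0,
nat_lit 0x0,
nat_lit 0x0,
nat_lit 0x0,
nat_lit 0x0,
nat_lit 0x0,
nat_lit 0x0,
nat_lit 0x0,
nat_lit 0x0,
nat_lit 0x0,
nat_lit 0x0,
nat_lit 0x0,
nat_lit 0x0,
nat_lit 0x0,
nat_lit 0x0,
nat_lit 0x0,
nat_lit 0x0,
nat_lit 0x0,
nat_lit 0x0,
nat_lit 0x0,
nat_lit 0x0,
nat_lit 0x0,
nat_lit 0x0,
nat_lit 0x0,
nat_lit 0x0,
nat_lit 0x0,
nat_lit 0x0,
nat_lit 0x0,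
nat_lit 0x0,
nat_lit 0x0,
nat_lit 0x0,
nat_lit 0x0,
nat_lit 0x0,
nat_lit 0x0,
nat_lit 0x0,
nat_lit 0x0,
nat_lit 0x0,
nat_lit 0x0,
nat_lit 0x0,
nat_lit 0x0,
nat_lit 0x0,
nat_lit 0x0,
nat_lit 0x0,
nat_lit 0x0,
nat_lit 0x0,
nat_lit 0x0,
nat_lit 0x0,
nat_lit 0x0,
nat_lit 0x0,
nat_lit 0x0,
nat_lit 0x0,
nat_lit 0x0,
nat_lit 0x0,
nat_lit 0x0,
nat_lit 0x0,
nat_lit 0x0,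
nat_lit 0x0,
nat_lit 0x0,
nat_lit 0x0,
nat_lit 0x0,
nat_lit 0x0,
nat_lit 0x0,
nat_lit 0x0,
nat_lit 0x0,
nat_lit 0x0,
nat_lit 0x0,
nat_lit 0x0,
nat_lit 0x0,
nat_lit 0x0,
nat_lit 0x0,
nat_lit 0x0,
nat_lit 0x0,
nat_lit 0x0,
nat_lit 0x0,
nat_lit 0x0,
nat_lit 0x0,
nat_lit 0x0,
nat_lit 0x0,
nat_lit 0x0,
nat_lit 0x0,
nat_lit 0x0,
nat_lit 0x0,
nat_lit 0x0,
nat_lit 0x0,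
nat_lit 0x0,
nat_lit 0x0,
nat_lit 0x0,
nat_lit 0x0,
nat_lit 0x0,
nat_lit 0x0,
nat_lit 0x0,
nat_lit 0x0,
nat_lit 0x0,
nat_lit 0x0,
nat_lit 0x0,
nat_lit 0x0,
nat_lit 0x0,
nat_lit 0x0,
nat_lit 0x0,
nat_lit 0x0,
nat_lit 0x0,
nat_lit 0x0,
nat_lit 0x0,
nat_lit 0x0,
nat_lit 0x0,
nat_lit 0x0,
nat_lit 0x0,
nat_lit 0x0,
nat_lit 0x0,
nat_lit 0x0,
nat_lit 0x0,
nat_lit 0x0,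
nat_lit 0x0,
nat_lit 0x0,
nat_lit 0x0,
nat_lit 0x0,
nat_lit 0x0,
nat_lit 0x0,
nat_lit 0x0,
nat_lit 0x0,
nat_lit 0x0,
nat_lit 0x0,
nat_lit 0x0]

theorem facts_ok12800 : checkFacts facts 18364758544493064720 words 128 subs 49982 items12800 12800 = true := by decide +kernel

noncomputable def items13312 : List ℕ := [
nat_lit 0x0,
nat_lit 0x0,
nat_lit 0x0,
nat_lit 0x0,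
nat_lit 0x0,
nat_lit 0x0,
nat_lit 0x0,
nat_lit 0x0,
nat_lit 0x0,
nat_lit 0x0,
nat_lit 0x0,
nat_lit 0x0,
nat_lit 0x0,
nat_lit 0x0,
nat_lit 0x0,
nat_lit 0x0,
nat_lit 0x0,
nat_lit 0x0,
nat_lit 0x0,
nat_lit 0x0,
nat_lit 0x0,
nat_lit 0x0,
nat_lit 0x0,
nat_lit 0x0,
nat_lit 0x0,
nat_lit 0x0,
nat_lit 0x0,
nat_lit 0x0,
nat_lit 0x0,
nat_lit 0x0,
nat_lit 0x0,
nat_lit 0x0,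
nat_lit 0x0,
nat_lit 0x0,
nat_lit 0x0,
nat_lit 0x0,
nat_lit 0x0,
nat_lit 0x0,
nat_lit 0x0,
nat_lit 0x0,
nat_lit 0x0,
nat_lit 0x0,
nat_lit 0x0,
nat_lit 0x0,
nat_lit 0x0,
nat_lit 0x0,
nat_lit 0x0,
nat_lit 0x0,
nat_lit 0x0,
nat_lit 0x0,
nat_lit 0x0,
nat_lit 0x0,
nat_lit 0x0,
nat_lit 0x0,
nat_lit 0x0,
nat_lit 0x0,
nat_lit 0x0,
nat_lit 0x0,
nat_lit 0x0,
nat_lit 0x0,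
nat_lit 0x0,
nat_lit 0x0,
nat_lit 0x0,
nat_lit 0x0,
nat_lit 0x0,
nat_lit 0x0,
nat_lit 0x0,
nat_lit 0x0,
nat_lit 0x0,
nat_lit 0x0,
nat_lit 0x0,
nat_lit 0x0,
nat_lit 0x0,
nat_lit 0x0,
nat_lit 0x0,
nat_lit 0x0,
nat_lit 0x0,
nat_lit 0x0,
nat_lit 0x0,
nat_lit 0x0,
nat_lit 0x0,
nat_lit 0x0,
nat_lit 0x0,
nat_lit 0x0,
nat_lit 0x0,
nat_lit 0x0,
nat_lit 0x0,
nat_lit 0x0,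
nat_lit 0x0,
nat_lit 0x0,
nat_lit 0x0,
nat_lit 0x0,
nat_lit 0x0,
nat_lit 0x0,
nat_lit 0x0,
nat_lit 0x0,
nat_lit 0x0,
nat_lit 0x0,
nat_lit 0x0,
nat_lit 0x0,
nat_lit 0x0,
nat_lit 0x0,
nat_lit 0x0,
nat_lit 0x0,
nat_lit 0x0,
nat_lit 0x0,
nat_lit 0x0,
nat_lit 0x0,
nat_lit 0x0,
nat_lit 0x0,
nat_lit 0x0,
nat_lit 0x0,
nat_lit 0x0,
nat_lit 0x0,
nat_lit 0x0,
nat_lit 0x0,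
nat_lit 0x0,
nat_lit 0x0,
nat_lit 0x0,
nat_lit 0x0,
nat_lit 0x0,
nat_lit 0x0,
nat_lit 0x0,
nat_lit 0x0,
nat_lit 0x0,
nat_lit 0x0,
nat_lit 0x0,
nat_lit 0x0,
nat_lit 0x0,
nat_lit 0x0,
nat_lit 0x0,
nat_lit 0x0,
nat_lit 0x0,
nat_lit 0x0,
nat_lit 0x0,
nat_lit 0x0,
nat_lit 0x0,
nat_lit 0x0,
nat_lit 0x0,
nat_lit 0x0,
nat_lit 0x0,
nat_lit 0x0,
nat_lit 0x0,
nat_lit 0x0,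
nat_lit 0x0,
nat_lit 0x0,
nat_lit 0x0,
nat_lit 0x0,
nat_lit 0x0,
nat_lit 0x0,
nat_lit 0x0,
nat_lit 0x0,
nat_lit 0x0,
nat_lit 0x0,
nat_lit 0x0,
nat_lit 0x0,
nat_lit 0x0,
nat_lit 0x0,
nat_lit 0x0,
nat_lit 0x0,
nat_lit 0x0,
nat_lit 0x0,
nat_lit 0x0,
nat_lit 0x0,
nat_lit 0x0,
nat_lit 0x0,
nat_lit 0x0,
nat_lit 0x0,
nat_lit 0x0,
nat_lit 0x0,
nat_lit 0x0,
nat_lit 0x0,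
nat_lit 0x0,
nat_lit 0x0,
nat_lit 0x0,
nat_lit 0x0,
nat_lit 0x0,
nat_lit 0x0,
nat_lit 0x0,
nat_lit 0x0,
nat_lit 0x0,
nat_lit 0x0,
nat_lit 0x0,
nat_lit 0x0,
nat_lit 0x0,
nat_lit 0x0,
nat_lit 0x0,
nat_lit 0x0,
nat_lit 0x0,
nat_lit 0x0,
nat_lit 0x0,
nat_lit 0x0,
nat_lit 0x0,
nat_lit 0x0,
nat_lit 0x0,
nat_lit 0x0,
nat_lit 0x0,
nat_lit 0x0,
nat_lit 0x0,
nat_lit 0x0,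
nat_lit 0x0,
nat_lit 0x0,
nat_lit 0x0,
nat_lit 0x0,
nat_lit 0x0,
nat_lit 0x0,
nat_lit 0x0,
nat_lit 0x0,
nat_lit 0x0,
nat_lit 0x0,
nat_lit 0x0,
nat_lit 0x0,
nat_lit 0x0,
nat_lit 0x0,
nat_lit 0x0,
nat_lit 0x0,
nat_lit 0x0,
nat_lit 0x0,
nat_lit 0x0,
nat_lit 0x0,
nat_lit 0x0,
nat_lit 0x0,
nat_lit 0x0,
nat_lit 0x0,
nat_lit 0x0,
nat_lit 0x0,
nat_lit 0x0,
nat_lit 0x0,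
nat_lit 0x0,
nat_lit 0x0,
nat_lit 0x0,
nat_lit 0x0,
nat_lit 0x0,
nat_lit 0x0,
nat_lit 0x0,
nat_lit 0x0,
nat_lit 0x0,
nat_lit 0x0,
nat_lit 0x0,
nat_lit 0x0,
nat_lit 0x0,
nat_lit 0x0,
nat_lit 0x0,
nat_lit 0x0,
nat_lit 0x0,
nat_lit 0x0,
nat_lit 0x0,
nat_lit 0x0,
nat_lit 0x0,
nat_lit 0x0,
nat_lit 0x0,
nat_lit 0x0,
nat_lit 0x0,
nat_lit 0x0,
nat_lit 0x0,
nat_lit 0x0,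
nat_lit 0x0,
nat_lit 0x0,
nat_lit 0x0,
nat_lit 0x0,
nat_lit 0x0,
nat_lit 0x0,
nat_lit 0x0,
nat_lit 0x0,
nat_lit 0x0,
nat_lit 0x0,
nat_lit 0x0,
nat_lit 0x0,
nat_lit 0x0,
nat_lit 0x0,
nat_lit 0x0,
nat_lit 0x0,
nat_lit 0x0,
nat_lit 0x0,
nat_lit 0x0,
nat_lit 0x0,
nat_lit 0x0,
nat_lit 0x0,
nat_lit 0x0,
nat_lit 0x0,
nat_lit 0x0,
nat_lit 0x0,
nat_lit 0x0,
nat_lit 0x0,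
nat_lit 0x0,
nat_lit 0x0,
nat_lit 0x0,
nat_lit 0x0,
nat_lit 0x0,
nat_lit 0x0,
nat_lit 0x0,
nat_lit 0x0,
nat_lit 0x0,
nat_lit 0x0,
nat_lit 0x0,
nat_lit 0x0,
nat_lit 0x0,
nat_lit 0x0,
nat_lit 0x0,
nat_lit 0x0,
nat_lit 0x0,
nat_lit 0x0,
nat_lit 0x0,
nat_lit 0x0,
nat_lit 0x0,
nat_lit 0x0,
nat_lit 0x0,
nat_lit 0x0,
nat_lit 0x0,
nat_lit 0x0,
nat_lit 0x0,
nat_lit 0x0,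
nat_lit 0x0,
nat_lit 0x0,
nat_lit 0x0,
nat_lit 0x0,
nat_lit 0x0,
nat_lit 0x0,
nat_lit 0x0,
nat_lit 0x0,
nat_lit 0x0,
nat_lit 0x0,
nat_lit 0x0,
nat_lit 0x0,
nat_lit 0x0,
nat_lit 0x0,
nat_lit 0x0,
nat_lit 0x0,
nat_lit 0x0,
nat_lit 0x0,
nat_lit 0x0,
nat_lit 0x0,
nat_lit 0x0,
nat_lit 0x0,
nat_lit 0x0,
nat_lit 0x0,
nat_lit 0x0,
nat_lit 0x0,
nat_lit 0x0,
nat_lit 0x0,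
nat_lit 0x0,
nat_lit 0x0,
nat_lit 0x0,
nat_lit 0x0,
nat_lit 0x0,
nat_lit 0x0,
nat_lit 0x0,
nat_lit 0x0,
nat_lit 0x0,
nat_lit 0x0,
nat_lit 0x0,
nat_lit 0x0,
nat_lit 0x0,
nat_lit 0x0,
nat_lit 0x0,
nat_lit 0x0,
nat_lit 0x0,
nat_lit 0x0,
nat_lit 0x0,
nat_lit 0x0,
nat_lit 0x0,
nat_lit 0x0,
nat_lit 0x0,
nat_lit 0x0,
nat_lit 0x0,
nat_lit 0x0,
nat_lit 0x0,
nat_lit 0x0,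
nat_lit 0x0,
nat_lit 0x0,
nat_lit 0x0,
nat_lit 0x0,
nat_lit 0x0,
nat_lit 0x0,
nat_lit 0x0,
nat_lit 0x0,
nat_lit 0x0,
nat_lit 0x0,
nat_lit 0x0,
nat_lit 0x0,
nat_lit 0x0,
nat_lit 0x0,
nat_lit 0x0,
nat_lit 0x0,
nat_lit 0x0,
nat_lit 0x0,
nat_lit 0x0,
nat_lit 0x0,
nat_lit 0x0,
nat_lit 0x0,
nat_lit 0x0,
nat_lit 0x0,
nat_lit 0x0,
nat_lit 0x0,
nat_lit 0x0,
nat_lit 0x0,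
nat_lit 0x0,
nat_lit 0x0,
nat_lit 0x0,
nat_lit 0x0,
nat_lit 0x0,
nat_lit 0x0,
nat_lit 0x0,
nat_lit 0x0,
nat_lit 0x0,
nat_lit 0x0,
nat_lit 0x0,
nat_lit 0x0,
nat_lit 0x0,
nat_lit 0x0,
nat_lit 0x0,
nat_lit 0x0,
nat_lit 0x0,
nat_lit 0x0,
nat_lit 0x0,
nat_lit 0x0,
nat_lit 0x0,
nat_lit 0x0,
nat_lit 0x0,
nat_lit 0x0,
nat_lit 0x0,
nat_lit 0x0,
nat_lit 0x0,
nat_lit 0x0,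
nat_lit 0x0,
nat_lit 0x0,
nat_lit 0x0,
nat_lit 0x0,
nat_lit 0x0,
nat_lit 0x0,
nat_lit 0x0,
nat_lit 0x0,
nat_lit 0x0,
nat_lit 0x0,
nat_lit 0x0,
nat_lit 0x0,
nat_lit 0x0,
nat_lit 0x0,
nat_lit 0x0,
nat_lit 0x0,
nat_lit 0x0,
nat_lit 0x0,
nat_lit 0x0,
nat_lit 0x0,
nat_lit 0x0,
nat_lit 0x0,
nat_lit 0x0,
nat_lit 0x0,
nat_lit 0x0,
nat_lit 0x0,
nat_lit 0x0,
nat_lit 0x0,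
nat_lit 0x0,
nat_lit 0x0,
nat_lit 0x0,
nat_lit 0x0,
nat_lit 0x0,
nat_lit 0x0,
nat_lit 0x0,
nat_lit 0x0,
nat_lit 0x0,
nat_lit 0x0,
nat_lit 0x0,
nat_lit 0x0,
nat_lit 0x0,
nat_lit 0x0,
nat_lit 0x0,
nat_lit 0x0,
nat_lit 0x0,
nat_lit 0x0,
nat_lit 0x0,
nat_lit 0x0,
nat_lit 0x0,
nat_lit 0x0,
nat_lit 0x0,
nat_lit 0x0,
nat_lit 0x0,
nat_lit 0x0,
nat_lit 0x0,
nat_lit 0x0,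
nat_lit 0x0,
nat_lit 0x0,
nat_lit 0x0,
nat_lit 0x0,
nat_lit 0x0,
nat_lit 0x0,
nat_lit 0x0,
nat_lit 0x0,
nat_lit 0x0,
nat_lit 0x0,
nat_lit 0x0,
nat_lit 0x0,
nat_lit 0x0,
nat_lit 0x0,
nat_lit 0x0,
nat_lit 0x0,
nat_lit 0x0,
nat_lit 0x0,
nat_lit 0x0,
nat_lit 0x0,
nat_lit 0x0,
nat_lit 0x0,
nat_lit 0x0,
nat_lit 0x0,
nat_lit 0x0,
nat_lit 0x0,
nat_lit 0x0,
nat_lit 0x0,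
nat_lit 0x0,
nat_lit 0x0,
nat_lit 0x0,
nat_lit 0x0]

theorem facts_ok13312 : checkFacts facts 18364758544493064720 words 128 subs 49982 items13312 13312 = true := by decide +kernel

noncomputable def items13824 : List ℕ := [
nat_lit 0x0,
nat_lit 0x0,
nat_lit 0x0,
nat_lit 0x0,
nat_lit 0x0,
nat_lit 0x0,
nat_lit 0x0,
nat_lit 0x0,
nat_lit 0x0,
nat_lit 0x0,
nat_lit 0x0,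
nat_lit 0x0,
nat_lit 0x0,
nat_lit 0x0,
nat_lit 0x0,
nat_lit 0x0,
nat_lit 0x0,
nat_lit 0x0,
nat_lit 0x0,
nat_lit 0x0,
nat_lit 0x0,
nat_lit 0x0,
nat_lit 0x0,
nat_lit 0x0,
nat_lit 0x0,
nat_lit 0x0,
nat_lit 0x0,
nat_lit 0x0,
nat_lit 0x0,
nat_lit 0x0,
nat_lit 0x0,
nat_lit 0x0,
nat_lit 0x0,
nat_lit 0x0,
nat_lit 0x0,
nat_lit 0x0,
nat_lit 0x0,
nat_lit 0x0,
nat_lit 0x0,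
nat_lit 0x0,
nat_lit 0x0,
nat_lit 0x0,
nat_lit 0x0,
nat_lit 0x0,
nat_lit 0x0,
nat_lit 0x0,
nat_lit 0x0,
nat_lit 0x0,
nat_lit 0x0,
nat_lit 0x0,
nat_lit 0x0,
nat_lit 0x0,
nat_lit 0x0,
nat_lit 0x0,
nat_lit 0x0,
nat_lit 0x0,
nat_lit 0x0,
nat_lit 0x0,
nat_lit 0x0,
nat_lit 0x0,
nat_lit 0x0,
nat_lit 0x0,
nat_lit 0x0,
nat_lit 0x0,
nat_lit 0x0,
nat_lit 0x0,
nat_lit 0x0,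
nat_lit 0x0,
nat_lit 0x0,
nat_lit 0x0,
nat_lit 0x0,
nat_lit 0x0,
nat_lit 0x0,
nat_lit 0x0,
nat_lit 0x0,
nat_lit 0x0,
nat_lit 0x0,
nat_lit 0x0,
nat_lit 0x0,
nat_lit 0x0,
nat_lit 0x0,
nat_lit 0x0,
nat_lit 0x0,
nat_lit 0x0,
nat_lit 0x0,
nat_lit 0x0,
nat_lit 0x0,
nat_lit 0x0,
nat_lit 0x0,
nat_lit 0x0,
nat_lit 0x0,
nat_lit 0x0,
nat_lit 0x0,
nat_lit 0x0,
nat_lit 0x0,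
nat_lit 0x0,
nat_lit 0x0,
nat_lit 0x0,
nat_lit 0x0,
nat_lit 0x0,
nat_lit 0x0,
nat_lit 0x0,
nat_lit 0x0,
nat_lit 0x0,
nat_lit 0x0,
nat_lit 0x0,
nat_lit 0x0,
nat_lit 0x0,
nat_lit 0x0,
nat_lit 0x0,
nat_lit 0x0,
nat_lit 0x0,
nat_lit 0x0,
nat_lit 0x0,
nat_lit 0x0,
nat_lit 0x0,
nat_lit 0x0,
nat_lit 0x0,
nat_lit 0x0,
nat_lit 0x0,
nat_lit 0x0,
nat_lit 0x0,
nat_lit 0x0,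
nat_lit 0x0,
nat_lit 0x0,
nat_lit 0x0,
nat_lit 0x0,
nat_lit 0x0,
nat_lit 0x0,
nat_lit 0x0,
nat_lit 0x0,
nat_lit 0x0,
nat_lit 0x0,
nat_lit 0x0,
nat_lit 0x0,
nat_lit 0x0,
nat_lit 0x0,
nat_lit 0x0,
nat_lit 0x0,
nat_lit 0x0,
nat_lit 0x0,
nat_lit 0x0,
nat_lit 0x0,
nat_lit 0x0,
nat_lit 0x0,
nat_lit 0x0,
nat_lit 0x0,
nat_lit 0x0,
nat_lit 0x0,
nat_lit 0x0,
nat_lit 0x0,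
nat_lit 0x0,
nat_lit 0x0,
nat_lit 0x0,
nat_lit 0x0,
nat_lit 0x0,
nat_lit 0x0,
nat_lit 0x0,
nat_lit 0x0,
nat_lit 0x0,
nat_lit 0x0,
nat_lit 0x0,
nat_lit 0x0,
nat_lit 0x0,
nat_lit 0x0,
nat_lit 0x0,
nat_lit 0x0,
nat_lit 0x0,
nat_lit 0x0,
nat_lit 0x0,
nat_lit 0x0,
nat_lit 0x0,
nat_lit 0x0,
nat_lit 0x0,
nat_lit 0x0,
nat_lit 0x0,
nat_lit 0x0,
nat_lit 0x0,
nat_lit 0x0,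
nat_lit 0x0,
nat_lit 0x0,
nat_lit 0x0,
nat_lit 0x0,
nat_lit 0x0,
nat_lit 0x0,
nat_lit 0x0,
nat_lit 0x0,
nat_lit 0x0,
nat_lit 0x0,
nat_lit 0x0,
nat_lit 0x0,
nat_lit 0x0,
nat_lit 0x0,
nat_lit 0x0,
nat_lit 0x0,
nat_lit 0x0,
nat_lit 0x0,
nat_lit 0x0,
nat_lit 0x0,
nat_lit 0x0,
nat_lit 0x0,
nat_lit 0x0,
nat_lit 0x0,
nat_lit 0x0,
nat_lit 0x0,
nat_lit 0x0,
nat_lit 0x0,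
nat_lit 0x0,
nat_lit 0x0,
nat_lit 0x0,
nat_lit 0x0,
nat_lit 0x0,
nat_lit 0x0,
nat_lit 0x0,
nat_lit 0x0,
nat_lit 0x0,
nat_lit 0x0,
nat_lit 0x0,
nat_lit 0x0,
nat_lit 0x0,
nat_lit 0x0,
nat_lit 0x0,
nat_lit 0x0,
nat_lit 0x0,
nat_lit 0x0,
nat_lit 0x0,
nat_lit 0x0,
nat_lit 0x0,
nat_lit 0x0,
nat_lit 0x0,
nat_lit 0x0,
nat_lit 0x0,
nat_lit 0x0,
nat_lit 0x0,
nat_lit 0x0,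
nat_lit 0x0,
nat_lit 0x0,
nat_lit 0x0,
nat_lit 0x0,
nat_lit 0x0,
nat_lit 0x0,
nat_lit 0x0,
nat_lit 0x0,
nat_lit 0x0,
nat_lit 0x0,
nat_lit 0x0,
nat_lit 0x0,
nat_lit 0x0,
nat_lit 0x0,
nat_lit 0x0,
nat_lit 0x0,
nat_lit 0x0,
nat_lit 0x0,
nat_lit 0x0,
nat_lit 0x0,
nat_lit 0x0,
nat_lit 0x0,
nat_lit 0x0,
nat_lit 0x0,
nat_lit 0x0,
nat_lit 0x0,
nat_lit 0x0,
nat_lit 0x0,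
nat_lit 0x0,
nat_lit 0x0,
nat_lit 0x0,
nat_lit 0x0,
nat_lit 0x0,
nat_lit 0x0,
nat_lit 0x0,
nat_lit 0x0,
nat_lit 0x0,
nat_lit 0x0,
nat_lit 0x0,
nat_lit 0x0,
nat_lit 0x0,
nat_lit 0x0,
nat_lit 0x0,
nat_lit 0x0,
nat_lit 0x0,
nat_lit 0x0,
nat_lit 0x0,
nat_lit 0x0,
nat_lit 0x0,
nat_lit 0x0,
nat_lit 0x0,
nat_lit 0x0,
nat_lit 0x0,
nat_lit 0x0,
nat_lit 0x0,
nat_lit 0x0,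
nat_lit 0x0,
nat_lit 0x0,
nat_lit 0x0,
nat_lit 0x0,
nat_lit 0x0,
nat_lit 0x0,
nat_lit 0x0,
nat_lit 0x0,
nat_lit 0x0,
nat_lit 0x0,
nat_lit 0x0,
nat_lit 0x0,
nat_lit 0x0,
nat_lit 0x0,
nat_lit 0x0,
nat_lit 0x0,
nat_lit 0x0,
nat_lit 0x0,
nat_lit 0x0,
nat_lit 0x0,
nat_lit 0x0,
nat_lit 0x0,
nat_lit 0x0,
nat_lit 0x0,
nat_lit 0x0,
nat_lit 0x0,
nat_lit 0x0,
nat_lit 0x0,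
nat_lit 0x0,
nat_lit 0x0,
nat_lit 0x0,
nat_lit 0x0,
nat_lit 0x0,
nat_lit 0x0,
nat_lit 0x0,
nat_lit 0x0,
nat_lit 0x0,
nat_lit 0x0,
nat_lit 0x0,
nat_lit 0x0,
nat_lit 0x0,
nat_lit 0x0,
nat_lit 0x0,
nat_lit 0x0,
nat_lit 0x0,
nat_lit 0x0,
nat_lit 0x0,
nat_lit 0x0,
nat_lit 0x0,
nat_lit 0x0,
nat_lit 0x0,
nat_lit 0x0,
nat_lit 0x0,
nat_lit 0x0,
nat_lit 0x0,
nat_lit 0x0,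
nat_lit 0x0,
nat_lit 0x0,
nat_lit 0x0,
nat_lit 0x0,
nat_lit 0x0,
nat_lit 0x0,
nat_lit 0x0,
nat_lit 0x0,
nat_lit 0x0,
nat_lit 0x0,
nat_lit 0x0,
nat_lit 0x0,
nat_lit 0x0,
nat_lit 0x0,
nat_lit 0x0,
nat_lit 0x0,
nat_lit 0x0,
nat_lit 0x0,
nat_lit 0x0,
nat_lit 0x0,
nat_lit 0x0,
nat_lit 0x0,
nat_lit 0x0,
nat_lit 0x0,
nat_lit 0x0,
nat_lit 0x0,
nat_lit 0x0,
nat_lit 0x0,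
nat_lit 0x0,
nat_lit 0x0,
nat_lit 0x0,
nat_lit 0x0,
nat_lit 0x0,
nat_lit 0x0,
nat_lit 0x0,
nat_lit 0x0,
nat_lit 0x0,
nat_lit 0x0,
nat_lit 0x0,
nat_lit 0x0,
nat_lit 0x0,
nat_lit 0x0,
nat_lit 0x0,
nat_lit 0x0,
nat_lit 0x0,
nat_lit 0x0,
nat_lit 0x0,
nat_lit 0x0,
nat_lit 0x0,
nat_lit 0x0,
nat_lit 0x0,
nat_lit 0x0,
nat_lit 0x0,
nat_lit 0x0,
nat_lit 0x0,
nat_lit 0x0,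
nat_lit 0x0,
nat_lit 0x0,
nat_lit 0x0,
nat_lit 0x0,
nat_lit 0x0,
nat_lit 0x0,
nat_lit 0x0,
nat_lit 0x0,
nat_lit 0x0,
nat_lit 0x0,
nat_lit 0x0,
nat_lit 0x0,
nat_lit 0x0,
nat_lit 0x0,
nat_lit 0x0,
nat_lit 0x0,
nat_lit 0x0,
nat_lit 0x0,
nat_lit 0x0,
nat_lit 0x0,
nat_lit 0x0,
nat_lit 0x0,
nat_lit 0x0,
nat_lit 0x0,
nat_lit 0x0,
nat_lit 0x0,
nat_lit 0x0,
nat_lit 0x0,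
nat_lit 0x0,
nat_lit 0x0,
nat_lit 0x0,
nat_lit 0x0,
nat_lit 0x0,
nat_lit 0x0,
nat_lit 0x0,
nat_lit 0x0,
nat_lit 0x0,
nat_lit 0x0,
nat_lit 0x0,
nat_lit 0x0,
nat_lit 0x0,
nat_lit 0x0,
nat_lit 0x0,
nat_lit 0x0,
nat_lit 0x0,
nat_lit 0x0,
nat_lit 0x0,
nat_lit 0x0,
nat_lit 0x0,
nat_lit 0x0,
nat_lit 0x0,
nat_lit 0x0,
nat_lit 0x0,
nat_lit 0x0,
nat_lit 0x0,
nat_lit 0x0,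
nat_lit 0x0,
nat_lit 0x0,
nat_lit 0x0,
nat_lit 0x0,
nat_lit 0x0,
nat_lit 0x0,
nat_lit 0x0,
nat_lit 0x0,
nat_lit 0x0,
nat_lit 0x0,
nat_lit 0x0,
nat_lit 0x0,
nat_lit 0x0,
nat_lit 0x0,
nat_lit 0x0,
nat_lit 0x0,
nat_lit 0x0,
nat_lit 0x0,
nat_lit 0x0,
nat_lit 0x0,
nat_lit 0x0,
nat_lit 0x0,
nat_lit 0x0,
nat_lit 0x0,
nat_lit 0x0,
nat_lit 0x0,
nat_lit 0x0,
nat_lit 0x0,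
nat_lit 0x0,
nat_lit 0x0,
nat_lit 0x0,
nat_lit 0x0,
nat_lit 0x0,
nat_lit 0x0,
nat_lit 0x0,
nat_lit 0x0,
nat_lit 0x0,
nat_lit 0x0,
nat_lit 0x0,
nat_lit 0x0,
nat_lit 0x0,
nat_lit 0x0,
nat_lit 0x0,
nat_lit 0x0,
nat_lit 0x0,
nat_lit 0x0,
nat_lit 0x0,
nat_lit 0x0,
nat_lit 0x0,
nat_lit 0x0,
nat_lit 0x0,
nat_lit 0x0,
nat_lit 0x0]

theorem facts_ok13824 : checkFacts facts 18364758544493064720 words 128 subs 49982 items13824 13824 = true := by decide +kernel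

noncomputable def items14336 : List ℕ := [
nat_lit 0x0,
nat_lit 0x0,
nat_lit 0x0,
nat_lit 0x0,
nat_lit 0x0,
nat_lit 0x0,
nat_lit 0x0,
nat_lit 0x0,
nat_lit 0x0,
nat_lit 0x0,
nat_lit 0x0,
nat_lit 0x0,
nat_lit 0x0,
nat_lit 0x0,
nat_lit 0x0,
nat_lit 0x0,
nat_lit 0x0,
nat_lit 0x0,
nat_lit 0x0,
nat_lit 0x0,
nat_lit 0x0,
nat_lit 0x0,
nat_lit 0x0,
nat_lit 0x0,
nat_lit 0x0,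
nat_lit 0x0,
nat_lit 0x0,
nat_lit 0x0,
nat_lit 0x0,
nat_lit 0x0,
nat_lit 0x0,
nat_lit 0x0,
nat_lit 0x0,
nat_lit 0x0,
nat_lit 0x0,
nat_lit 0x0,
nat_lit 0x0,
nat_lit 0x0,
nat_lit 0x0,
nat_lit 0x0,
nat_lit 0x0,
nat_lit 0x0,
nat_lit 0x0,
nat_lit 0x0,
nat_lit 0x0,
nat_lit 0x0,
nat_lit 0x0,
nat_lit 0x0,
nat_lit 0x0,
nat_lit 0x0,
nat_lit 0x0,
nat_lit 0x0,
nat_lit 0x0,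
nat_lit 0x0,
nat_lit 0x0,
nat_lit 0x0,
nat_lit 0x0,
nat_lit 0x0,
nat_lit 0x0,
nat_lit 0x0,
nat_lit 0x0,
nat_lit 0x0,
nat_lit 0x0,
nat_lit 0x0,
nat_lit 0x0,
nat_lit 0x0,
nat_lit 0x0,
nat_lit 0x0,
nat_lit 0x0,
nat_lit 0x0,
nat_lit 0x0,
nat_lit 0x0,
nat_lit 0x0,
nat_lit 0x0,
nat_lit 0x0,
nat_lit 0x0,
nat_lit 0x0,
nat_lit 0x0,
nat_lit 0x0,
nat_lit 0x0,
nat_lit 0x0,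
nat_lit 0x0,
nat_lit 0x0,
nat_lit 0x0,
nat_lit 0x0,
nat_lit 0x0,
nat_lit 0x0,
nat_lit 0x0,
nat_lit 0x0,
nat_lit 0x0,
nat_lit 0x0,
nat_lit 0x0,
nat_lit 0x0,
nat_lit 0x0,
nat_lit 0x0,
nat_lit 0x0,
nat_lit 0x0,
nat_lit 0x0,
nat_lit 0x0,
nat_lit 0x0,
nat_lit 0x0,
nat_lit 0x0,
nat_lit 0x0,
nat_lit 0x0,
nat_lit 0x0,
nat_lit 0x0,
nat_lit 0x0,
nat_lit 0x0,
nat_lit 0x0,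
nat_lit 0x0,
nat_lit 0x0,
nat_lit 0x0,
nat_lit 0x0,
nat_lit 0x0,
nat_lit 0x0,
nat_lit 0x0,
nat_lit 0x0,
nat_lit 0x0,
nat_lit 0x0,
nat_lit 0x0,
nat_lit 0x0,
nat_lit 0x0,
nat_lit 0x0,
nat_lit 0x0,
nat_lit 0x0,
nat_lit 0x0,
nat_lit 0x0,
nat_lit 0x0,
nat_lit 0x0,
nat_lit 0x0,
nat_lit 0x0,
nat_lit 0x0,
nat_lit 0x0,
nat_lit 0x0,
nat_lit 0x0,
nat_lit 0x0,
nat_lit 0x0,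
nat_lit 0x0,
nat_lit 0x0,
nat_lit 0x0,
nat_lit 0x0,
nat_lit 0x0,
nat_lit 0x0,
nat_lit 0x0,
nat_lit 0x0,
nat_lit 0x0,
nat_lit 0x0,
nat_lit 0x0,
nat_lit 0x0,
nat_lit 0x0,
nat_lit 0x0,
nat_lit 0x0,
nat_lit 0x0,
nat_lit 0x0,
nat_lit 0x0,
nat_lit 0x0,
nat_lit 0x0,
nat_lit 0x0,
nat_lit 0x0,
nat_lit 0x0,
nat_lit 0x0,
nat_lit 0x0,
nat_lit 0x0,
nat_lit 0x0,
nat_lit 0x0,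
nat_lit 0x0,
nat_lit 0x0,
nat_lit 0x0,
nat_lit 0x0,
nat_lit 0x0,
nat_lit 0x0,
nat_lit 0x0,
nat_lit 0x0,
nat_lit 0x0,
nat_lit 0x0,
nat_lit 0x0,
nat_lit 0x0,
nat_lit 0x0,
nat_lit 0x0,
nat_lit 0x0,
nat_lit 0x0,
nat_lit 0x0,
nat_lit 0x0,
nat_lit 0x0,
nat_lit 0x0,
nat_lit 0x0,
nat_lit 0x0,
nat_lit 0x0,
nat_lit 0x0,
nat_lit 0x0,
nat_lit 0x0,
nat_lit 0x0,
nat_lit 0x0,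
nat_lit 0x0,
nat_lit 0x0,
nat_lit 0x0,
nat_lit 0x0,
nat_lit 0x0,
nat_lit 0x0,
nat_lit 0x0,
nat_lit 0x0,
nat_lit 0x0,
nat_lit 0x0,
nat_lit 0x0,
nat_lit 0x0,
nat_lit 0x0,
nat_lit 0x0,
nat_lit 0x0,
nat_lit 0x0,
nat_lit 0x0,
nat_lit 0x0,
nat_lit 0x0,
nat_lit 0x0,
nat_lit 0x0,
nat_lit 0x0,
nat_lit 0x0,
nat_lit 0x0,
nat_lit 0x0,
nat_lit 0x0,
nat_lit 0x0,
nat_lit 0x0,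
nat_lit 0x0,
nat_lit 0x0,
nat_lit 0x0,
nat_lit 0x0,
nat_lit 0x0,
nat_lit 0x0,
nat_lit 0x0,
nat_lit 0x0,
nat_lit 0x0,
nat_lit 0x0,
nat_lit 0x0,
nat_lit 0x0,
nat_lit 0x0,
nat_lit 0x0,
nat_lit 0x0,
nat_lit 0x0,
nat_lit 0x0,
nat_lit 0x0,
nat_lit 0x0,
nat_lit 0x0,
nat_lit 0x0,
nat_lit 0x0,
nat_lit 0x0,
nat_lit 0x0,
nat_lit 0x0,
nat_lit 0x0,
nat_lit 0x0,
nat_lit 0x0,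
nat_lit 0x0,
nat_lit 0x0,
nat_lit 0x0,
nat_lit 0x0,
nat_lit 0x0,
nat_lit 0x0,
nat_lit 0x0,
nat_lit 0x0,
nat_lit 0x0,
nat_lit 0x0,
nat_lit 0x0,
nat_lit 0x0,
nat_lit 0x0,
nat_lit 0x0,
nat_lit 0x0,
nat_lit 0x0,
nat_lit 0x0,
nat_lit 0x0,
nat_lit 0x0,
nat_lit 0x0,
nat_lit 0x0,
nat_lit 0x0,
nat_lit 0x0,
nat_lit 0x0,
nat_lit 0x0,
nat_lit 0x0,
nat_lit 0x0,
nat_lit 0x0,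
nat_lit 0x0,
nat_lit 0x0,
nat_lit 0x0,
nat_lit 0x0,
nat_lit 0x0,
nat_lit 0x0,
nat_lit 0x0,
nat_lit 0x0,
nat_lit 0x0,
nat_lit 0x0,
nat_lit 0x0,
nat_lit 0x0,
nat_lit 0x0,
nat_lit 0x0,
nat_lit 0x0,
nat_lit 0x0,
nat_lit 0x0,
nat_lit 0x0,
nat_lit 0x0,
nat_lit 0x0,
nat_lit 0x0,
nat_lit 0x0,
nat_lit 0x0,
nat_lit 0x0,
nat_lit 0x0,
nat_lit 0x0,
nat_lit 0x0,
nat_lit 0x0,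
nat_lit 0x0,
nat_lit 0x0,
nat_lit 0x0,
nat_lit 0x0,
nat_lit 0x0,
nat_lit 0x0,
nat_lit 0x0,
nat_lit 0x0,
nat_lit 0x0,
nat_lit 0x0,
nat_lit 0x0,
nat_lit 0x0,
nat_lit 0x0,
nat_lit 0x0,
nat_lit 0x0,
nat_lit 0x0,
nat_lit 0x0,
nat_lit 0x0,
nat_lit 0x0,
nat_lit 0x0,
nat_lit 0x0,
nat_lit 0x0,
nat_lit 0x0,
nat_lit 0x0,
nat_lit 0x0,
nat_lit 0x0,
nat_lit 0x0,
nat_lit 0x0,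
nat_lit 0x0,
nat_lit 0x0,
nat_lit 0x0,
nat_lit 0x0,
nat_lit 0x0,
nat_lit 0x0,
nat_lit 0x0,
nat_lit 0x0,
nat_lit 0x0,
nat_lit 0x0,
nat_lit 0x0,
nat_lit 0x0,
nat_lit 0x0,
nat_lit 0x0,
nat_lit 0x0,
nat_lit 0x0,
nat_lit 0x0,
nat_lit 0x0,
nat_lit 0x0,
nat_lit 0x0,
nat_lit 0x0,
nat_lit 0x0,
nat_lit 0x0,
nat_lit 0x0,
nat_lit 0x0,
nat_lit 0x0,
nat_lit 0x0,
nat_lit 0x0,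
nat_lit 0x0,
nat_lit 0x0,
nat_lit 0x0,
nat_lit 0x0,
nat_lit 0x0,
nat_lit 0x0,
nat_lit 0x0,
nat_lit 0x0,
nat_lit 0x0,
nat_lit 0x0,
nat_lit 0x0,
nat_lit 0x0,
nat_lit 0x0,
nat_lit 0x0,
nat_lit 0x0,
nat_lit 0x0,
nat_lit 0x0,
nat_lit 0x0,
nat_lit 0x0,
nat_lit 0x0,
nat_lit 0x0,
nat_lit 0x0,
nat_lit 0x0,
nat_lit 0x0,
nat_lit 0x0,
nat_lit 0x0,
nat_lit 0x0,
nat_lit 0x0,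
nat_lit 0x0,
nat_lit 0x0,
nat_lit 0x0,
nat_lit 0x0,
nat_lit 0x0,
nat_lit 0x0,
nat_lit 0x0,
nat_lit 0x0,
nat_lit 0x0,
nat_lit 0x0,
nat_lit 0x0,
nat_lit 0x0,
nat_lit 0x0,
nat_lit 0x0,
nat_lit 0x0,
nat_lit 0x0,
nat_lit 0x0,
nat_lit 0x0,
nat_lit 0x0,
nat_lit 0x0,
nat_lit 0x0,
nat_lit 0x0,
nat_lit 0x0,
nat_lit 0x0,
nat_lit 0x0,
nat_lit 0x0,
nat_lit 0x0,
nat_lit 0x0,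
nat_lit 0x0,
nat_lit 0x0,
nat_lit 0x0,
nat_lit 0x0,
nat_lit 0x0,
nat_lit 0x0,
nat_lit 0x0,
nat_lit 0x0,
nat_lit 0x0,
nat_lit 0x0,
nat_lit 0x0,
nat_lit 0x0,
nat_lit 0x0,
nat_lit 0x0,
nat_lit 0x0,
nat_lit 0x0,
nat_lit 0x0,
nat_lit 0x0,
nat_lit 0x0,
nat_lit 0x0,
nat_lit 0x0,
nat_lit 0x0,
nat_lit 0x0,
nat_lit 0x0,
nat_lit 0x0,
nat_lit 0x0,
nat_lit 0x0,
nat_lit 0x0,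
nat_lit 0x0,
nat_lit 0x0,
nat_lit 0x0,
nat_lit 0x0,
nat_lit 0x0,
nat_lit 0x0,
nat_lit 0x0,
nat_lit 0x0,
nat_lit 0x0,
nat_lit 0x0,
nat_lit 0x0,
nat_lit 0x0,
nat_lit 0x0,
nat_lit 0x0,
nat_lit 0x0,
nat_lit 0x0,
nat_lit 0x0,
nat_lit 0x0,
nat_lit 0x0,
nat_lit 0x0,
nat_lit 0x0,
nat_lit 0x0,
nat_lit 0x0,
nat_lit 0x0,
nat_lit 0x0,
nat_lit 0x0,
nat_lit 0x0,
nat_lit 0x0,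
nat_lit 0x0,
nat_lit 0x0,
nat_lit 0x0,
nat_lit 0x0,
nat_lit 0x0,
nat_lit 0x0,
nat_lit 0x0,
nat_lit 0x0,
nat_lit 0x0,
nat_lit 0x0,
nat_lit 0x0,
nat_lit 0x0,
nat_lit 0x0,
nat_lit 0x0,
nat_lit 0x0,
nat_lit 0x0,
nat_lit 0x0,
nat_lit 0x0,
nat_lit 0x0,
nat_lit 0x0,
nat_lit 0x0,
nat_lit 0x0,
nat_lit 0x0,
nat_lit 0x0,
nat_lit 0x0,
nat_lit 0x0,
nat_lit 0x0,
nat_lit 0x0,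
nat_lit 0x0,
nat_lit 0x0,
nat_lit 0x0,
nat_lit 0x0,
nat_lit 0x0,
nat_lit 0x0,
nat_lit 0x0,
nat_lit 0x0,
nat_lit 0x0,
nat_lit 0x0,
nat_lit 0x0]

theorem facts_ok14336 : checkFacts facts 18364758544493064720 words 128 subs 49982 items14336 14336 = true := by decide +kernel

noncomputable def items14848 : List ℕ := [
nat_lit 0x0,
nat_lit 0x0,
nat_lit 0x0,
nat_lit 0x0,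
nat_lit 0x0,
nat_lit 0x0,
nat_lit 0x0,
nat_lit 0x0,
nat_lit 0x0,
nat_lit 0x0,
nat_lit 0x0,
nat_lit 0x0,
nat_lit 0x0,
nat_lit 0x0,
nat_lit 0x0,
nat_lit 0x0,
nat_lit 0x0,
nat_lit 0x0,
nat_lit 0x0,
nat_lit 0x0,
nat_lit 0x0,
nat_lit 0x0,
nat_lit 0x0,
nat_lit 0x0,
nat_lit 0x0,
nat_lit 0x0,
nat_lit 0x0,
nat_lit 0x0,
nat_lit 0x0,
nat_lit 0x0,
nat_lit 0x0,
nat_lit 0x0,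
nat_lit 0x0,
nat_lit 0x0,
nat_lit 0x0,
nat_lit 0x0,
nat_lit 0x0,
nat_lit 0x0,
nat_lit 0x0,
nat_lit 0x0,
nat_lit 0x0,
nat_lit 0x0,
nat_lit 0x0,
nat_lit 0x0,
nat_lit 0x0,
nat_lit 0x0,
nat_lit 0x0,
nat_lit 0x0,
nat_lit 0x0,
nat_lit 0x0,
nat_lit 0x0,
nat_lit 0x0,
nat_lit 0x0,
nat_lit 0x0,
nat_lit 0x0,
nat_lit 0x0,
nat_lit 0x0,
nat_lit 0x0,
nat_lit 0x0,
nat_lit 0x0,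
nat_lit 0x0,
nat_lit 0x0,
nat_lit 0x0,
nat_lit 0x0,
nat_lit 0x0,
nat_lit 0x0,
nat_lit 0x0,
nat_lit 0x0,
nat_lit 0x0,
nat_lit 0x0,
nat_lit 0x0,
nat_lit 0x0,
nat_lit 0x0,
nat_lit 0x0,
nat_lit 0x0,
nat_lit 0x0,
nat_lit 0x0,
nat_lit 0x0,
nat_lit 0x0,
nat_lit 0x0,
nat_lit 0x0,
nat_lit 0x0,
nat_lit 0x0,
nat_lit 0x0,
nat_lit 0x0,
nat_lit 0x0,
nat_lit 0x0,
nat_lit 0x0,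
nat_lit 0x0,
nat_lit 0x0,
nat_lit 0x0,
nat_lit 0x0,
nat_lit 0x0,
nat_lit 0x0,
nat_lit 0x0,
nat_lit 0x0,
nat_lit 0x0,
nat_lit 0x0,
nat_lit 0x0,
nat_lit 0x0,
nat_lit 0x0,
nat_lit 0x0,
nat_lit 0x0,
nat_lit 0x0,
nat_lit 0x0,
nat_lit 0x0,
nat_lit 0x0,
nat_lit 0x0,
nat_lit 0x0,
nat_lit 0x0,
nat_lit 0x0,
nat_lit 0x0,
nat_lit 0x0,
nat_lit 0x0,
nat_lit 0x0,
nat_lit 0x0,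
nat_lit 0x0,
nat_lit 0x0,
nat_lit 0x0,
nat_lit 0x0,
nat_lit 0x0,
nat_lit 0x0,
nat_lit 0x0,
nat_lit 0x0,
nat_lit 0x0,
nat_lit 0x0,
nat_lit 0x0,
nat_lit 0x0,
nat_lit 0x0,
nat_lit 0x0,
nat_lit 0x0,
nat_lit 0x0,
nat_lit 0x0,
nat_lit 0x0,
nat_lit 0x0,
nat_lit 0x0,
nat_lit 0x0,
nat_lit 0x0,
nat_lit 0x0,
nat_lit 0x0,
nat_lit 0x0,
nat_lit 0x0,
nat_lit 0x0,
nat_lit 0x0,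
nat_lit 0x0,
nat_lit 0x0,
nat_lit 0x0,
nat_lit 0x0,
nat_lit 0x0,
nat_lit 0x0,
nat_lit 0x0,
nat_lit 0x0,
nat_lit 0x0,
nat_lit 0x0,
nat_lit 0x0,
nat_lit 0x0,
nat_lit 0x0,
nat_lit 0x0,
nat_lit 0x0,
nat_lit 0x0,
nat_lit 0x0,
nat_lit 0x0,
nat_lit 0x0,
nat_lit 0x0,
nat_lit 0x0,
nat_lit 0x0,
nat_lit 0x0,
nat_lit 0x0,
nat_lit 0x0,
nat_lit 0x0,
nat_lit 0x0,
nat_lit 0x0,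
nat_lit 0x0,
nat_lit 0x0,
nat_lit 0x0,
nat_lit 0x0,
nat_lit 0x0,
nat_lit 0x0,
nat_lit 0x0,
nat_lit 0x0,
nat_lit 0x0,
nat_lit 0x0,
nat_lit 0x0,
nat_lit 0x0,
nat_lit 0x0,
nat_lit 0x0,
nat_lit 0x0,
nat_lit 0x0,
nat_lit 0x0,
nat_lit 0x0,
nat_lit 0x0,
nat_lit 0x0,
nat_lit 0x0,
nat_lit 0x0,
nat_lit 0x0,
nat_lit 0x0,
nat_lit 0x0,
nat_lit 0x0,
nat_lit 0x0,
nat_lit 0x0,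
nat_lit 0x0,
nat_lit 0x0,
nat_lit 0x0,
nat_lit 0x0,
nat_lit 0x0,
nat_lit 0x0,
nat_lit 0x0,
nat_lit 0x0,
nat_lit 0x0,
nat_lit 0x0,
nat_lit 0x0,
nat_lit 0x0,
nat_lit 0x0,
nat_lit 0x0,
nat_lit 0x0,
nat_lit 0x0,
nat_lit 0x0,
nat_lit 0x0,
nat_lit 0x0,
nat_lit 0x0,
nat_lit 0x0,
nat_lit 0x0,
nat_lit 0x0,
nat_lit 0x0,
nat_lit 0x0,
nat_lit 0x0,
nat_lit 0x0,
nat_lit 0x0,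
nat_lit 0x0,
nat_lit 0x0,
nat_lit 0x0,
nat_lit 0x0,
nat_lit 0x0,
nat_lit 0x0,
nat_lit 0x0,
nat_lit 0x0,
nat_lit 0x0,
nat_lit 0x0,
nat_lit 0x0,
nat_lit 0x0,
nat_lit 0x0,
nat_lit 0x0,
nat_lit 0x0,
nat_lit 0x0,
nat_lit 0x0,
nat_lit 0x0,
nat_lit 0x0,
nat_lit 0x0,
nat_lit 0x0,
nat_lit 0x0,
nat_lit 0x0,
nat_lit 0x0,
nat_lit 0x0,
nat_lit 0x0,
nat_lit 0x0,
nat_lit 0x0,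
nat_lit 0x0,
nat_lit 0x0,
nat_lit 0x0,
nat_lit 0x0,
nat_lit 0x0,
nat_lit 0x0,
nat_lit 0x0,
nat_lit 0x0,
nat_lit 0x0,
nat_lit 0x0,
nat_lit 0x0,
nat_lit 0x0,
nat_lit 0x0,
nat_lit 0x0,
nat_lit 0x0,
nat_lit 0x0,
nat_lit 0x0,
nat_lit 0x0,
nat_lit 0x0,
nat_lit 0x0,
nat_lit 0x0,
nat_lit 0x0,
nat_lit 0x0,
nat_lit 0x0,
nat_lit 0x0,
nat_lit 0x0,
nat_lit 0x0,
nat_lit 0x0,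
nat_lit 0x0,
nat_lit 0x0,
nat_lit 0x0,
nat_lit 0x0,
nat_lit 0x0,
nat_lit 0x0,
nat_lit 0x0,
nat_lit 0x0,
nat_lit 0x0,
nat_lit 0x0,
nat_lit 0x0,
nat_lit 0x0,
nat_lit 0x0,
nat_lit 0x0,
nat_lit 0x0,
nat_lit 0x0,
nat_lit 0x0,
nat_lit 0x0,
nat_lit 0x0,
nat_lit 0x0,
nat_lit 0x0,
nat_lit 0x0,
nat_lit 0x0,
nat_lit 0x0,
nat_lit 0x0,
nat_lit 0x0,
nat_lit 0x0,
nat_lit 0x0,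
nat_lit 0x0,
nat_lit 0x0,
nat_lit 0x0,
nat_lit 0x0,
nat_lit 0x0,
nat_lit 0x0,
nat_lit 0x0,
nat_lit 0x0,
nat_lit 0x0,
nat_lit 0x0,
nat_lit 0x0,
nat_lit 0x0,
nat_lit 0x0,
nat_lit 0x0,
nat_lit 0x0,
nat_lit 0x0,
nat_lit 0x0,
nat_lit 0x0,
nat_lit 0x0,
nat_lit 0x0,
nat_lit 0x0,
nat_lit 0x0,
nat_lit 0x0,
nat_lit 0x0,
nat_lit 0x0,
nat_lit 0x0,
nat_lit 0x0,
nat_lit 0x0,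
nat_lit 0x0,
nat_lit 0x0,
nat_lit 0x0,
nat_lit 0x0,
nat_lit 0x0,
nat_lit 0x0,
nat_lit 0x0,
nat_lit 0x0,
nat_lit 0x0,
nat_lit 0x0,
nat_lit 0x0,
nat_lit 0x0,
nat_lit 0x0,
nat_lit 0x0,
nat_lit 0x0,
nat_lit 0x0,
nat_lit 0x0,
nat_lit 0x0,
nat_lit 0x0,
nat_lit 0x0,
nat_lit 0x0,
nat_lit 0x0,
nat_lit 0x0,
nat_lit 0x0,
nat_lit 0x0,
nat_lit 0x0,
nat_lit 0x0,
nat_lit 0x0,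
nat_lit 0x0,
nat_lit 0x0,
nat_lit 0x0,
nat_lit 0x0,
nat_lit 0x0,
nat_lit 0x0,
nat_lit 0x0,
nat_lit 0x0,
nat_lit 0x0,
nat_lit 0x0,
nat_lit 0x0,
nat_lit 0x0,
nat_lit 0x0,
nat_lit 0x0,
nat_lit 0x0,
nat_lit 0x0,
nat_lit 0x0,
nat_lit 0x0,
nat_lit 0x0,
nat_lit 0x0,
nat_lit 0x0,
nat_lit 0x0,
nat_lit 0x0,
nat_lit 0x0,
nat_lit 0x0,
nat_lit 0x0,
nat_lit 0x0,
nat_lit 0x0,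
nat_lit 0x0,
nat_lit 0x0,
nat_lit 0x0,
nat_lit 0x0,
nat_lit 0x0,
nat_lit 0x0,
nat_lit 0x0,
nat_lit 0x0,
nat_lit 0x0,
nat_lit 0x0,
nat_lit 0x0,
nat_lit 0x0,
nat_lit 0x0,
nat_lit 0x0,
nat_lit 0x0,
nat_lit 0x0,
nat_lit 0x0,
nat_lit 0x0,
nat_lit 0x0,
nat_lit 0x0,
nat_lit 0x0,
nat_lit 0x0,
nat_lit 0x0,
nat_lit 0x0,
nat_lit 0x0,
nat_lit 0x0,
nat_lit 0x0,
nat_lit 0x0,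
nat_lit 0x0,
nat_lit 0x0,
nat_lit 0x0,
nat_lit 0x0,
nat_lit 0x0,
nat_lit 0x0,
nat_lit 0x0,
nat_lit 0x0,
nat_lit 0x0,
nat_lit 0x0,
nat_lit 0x0,
nat_lit 0x0,
nat_lit 0x0,
nat_lit 0x0,
nat_lit 0x0,
nat_lit 0x0,
nat_lit 0x0,
nat_lit 0x0,
nat_lit 0x0,
nat_lit 0x0,
nat_lit 0x0,
nat_lit 0x0,
nat_lit 0x0,
nat_lit 0x0,
nat_lit 0x0,
nat_lit 0x0,
nat_lit 0x0,
nat_lit 0x0,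
nat_lit 0x0,
nat_lit 0x0,
nat_lit 0x0,
nat_lit 0x0,
nat_lit 0x0,
nat_lit 0x0,
nat_lit 0x0,
nat_lit 0x0,
nat_lit 0x0,
nat_lit 0x0,
nat_lit 0x0,
nat_lit 0x0,
nat_lit 0x0,
nat_lit 0x0,
nat_lit 0x0,
nat_lit 0x0,
nat_lit 0x0,
nat_lit 0x0,
nat_lit 0x0,
nat_lit 0x0,
nat_lit 0x0,
nat_lit 0x0,
nat_lit 0x0,
nat_lit 0x0,
nat_lit 0x0,
nat_lit 0x0,
nat_lit 0x0,
nat_lit 0x0,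
nat_lit 0x0,
nat_lit 0x0,
nat_lit 0x0,
nat_lit 0x0,
nat_lit 0x0,
nat_lit 0x0,
nat_lit 0x0,
nat_lit 0x0,
nat_lit 0x0,
nat_lit 0x0,
nat_lit 0x0,
nat_lit 0x0,
nat_lit 0x0,
nat_lit 0x0,
nat_lit 0x0,
nat_lit 0x0,
nat_lit 0x0,
nat_lit 0x0,
nat_lit 0x0,
nat_lit 0x0,
nat_lit 0x0,
nat_lit 0x0,
nat_lit 0x0,
nat_lit 0x0,
nat_lit 0x0,
nat_lit 0x0,
nat_lit 0x0,
nat_lit 0x0,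
nat_lit 0x0,
nat_lit 0x0,
nat_lit 0x0,
nat_lit 0x0]

theorem facts_ok14848 : checkFacts facts 18364758544493064720 words 128 subs 49982 items14848 14848 = true := by decide +kernel

noncomputable def items15360 : List ℕ := [
nat_lit 0x0,
nat_lit 0x0,
nat_lit 0x0,
nat_lit 0x0,
nat_lit 0x0,
nat_lit 0x0,
nat_lit 0x0,
nat_lit 0x0,
nat_lit 0x0,
nat_lit 0x0,
nat_lit 0x0,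
nat_lit 0x0,
nat_lit 0x0,
nat_lit 0x0,
nat_lit 0x0,
nat_lit 0x0,
nat_lit 0x0,
nat_lit 0x0,
nat_lit 0x0,
nat_lit 0x0,
nat_lit 0x0,
nat_lit 0x0,
nat_lit 0x0,
nat_lit 0x0,
nat_lit 0x0,
nat_lit 0x0,
nat_lit 0x0,
nat_lit 0x0,
nat_lit 0x0,
nat_lit 0x0,
nat_lit 0x0,
nat_lit 0x0,
nat_lit 0x0,
nat_lit 0x0,
nat_lit 0x0,
nat_lit 0x0,
nat_lit 0x0,
nat_lit 0x0,
nat_lit 0x0,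
nat_lit 0x0,
nat_lit 0x0,
nat_lit 0x0,
nat_lit 0x0,
nat_lit 0x0,
nat_lit 0x0,
nat_lit 0x0,
nat_lit 0x0,
nat_lit 0x0,
nat_lit 0x0,
nat_lit 0x0,
nat_lit 0x0,
nat_lit 0x0,
nat_lit 0x0,
nat_lit 0x0,
nat_lit 0x0,
nat_lit 0x0,
nat_lit 0x0,
nat_lit 0x0,
nat_lit 0x0,
nat_lit 0x0,
nat_lit 0x0,
nat_lit 0x0,
nat_lit 0x0,
nat_lit 0x0,
nat_lit 0x0,
nat_lit 0x0,
nat_lit 0x0,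
nat_lit 0x0,
nat_lit 0x0,
nat_lit 0x0,
nat_lit 0x0,
nat_lit 0x0,
nat_lit 0x0,
nat_lit 0x0,
nat_lit 0x0,
nat_lit 0x0,
nat_lit 0x0,
nat_lit 0x0,
nat_lit 0x0,
nat_lit 0x0,
nat_lit 0x0,
nat_lit 0x0,
nat_lit 0x0,
nat_lit 0x0,
nat_lit 0x0,
nat_lit 0x0,
nat_lit 0x0,
nat_lit 0x0,
nat_lit 0x0,
nat_lit 0x0,
nat_lit 0x0,
nat_lit 0x0,
nat_lit 0x0,
nat_lit 0x0,
nat_lit 0x0,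
nat_lit 0x0,
nat_lit 0x0,
nat_lit 0x0,
nat_lit 0x0,
nat_lit 0x0,
nat_lit 0x0,
nat_lit 0x0,
nat_lit 0x0,
nat_lit 0x0,
nat_lit 0x0,
nat_lit 0x0,
nat_lit 0x0,
nat_lit 0x0,
nat_lit 0x0,
nat_lit 0x0,
nat_lit 0x0,
nat_lit 0x0,
nat_lit 0x0,
nat_lit 0x0,
nat_lit 0x0,
nat_lit 0x0,
nat_lit 0x0,
nat_lit 0x0,
nat_lit 0x0,
nat_lit 0x0,
nat_lit 0x0,
nat_lit 0x0,
nat_lit 0x0,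
nat_lit 0x0,
nat_lit 0x0,
nat_lit 0x0,
nat_lit 0x0,
nat_lit 0x0,
nat_lit 0x0,
nat_lit 0x0,
nat_lit 0x0,
nat_lit 0x0,
nat_lit 0x0,
nat_lit 0x0,
nat_lit 0x0,
nat_lit 0x0,
nat_lit 0x0,
nat_lit 0x0,
nat_lit 0x0,
nat_lit 0x0,
nat_lit 0x0,
nat_lit 0x0,
nat_lit 0x0,
nat_lit 0x0,
nat_lit 0x0,
nat_lit 0x0,
nat_lit 0x0,
nat_lit 0x0,
nat_lit 0x0,
nat_lit 0x0,
nat_lit 0x0,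
nat_lit 0x0,
nat_lit 0x0,
nat_lit 0x0,
nat_lit 0x0,
nat_lit 0x0,
nat_lit 0x0,
nat_lit 0x0,
nat_lit 0x0,
nat_lit 0x0,
nat_lit 0x0,
nat_lit 0x0,
nat_lit 0x0,
nat_lit 0x0,
nat_lit 0x0,
nat_lit 0x0,
nat_lit 0x0,
nat_lit 0x0,
nat_lit 0x0,
nat_lit 0x0,
nat_lit 0x0,
nat_lit 0x0,
nat_lit 0x0,
nat_lit 0x0,
nat_lit 0x0,
nat_lit 0x0,
nat_lit 0x0,
nat_lit 0x0,
nat_lit 0x0,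
nat_lit 0x0,
nat_lit 0x0,
nat_lit 0x0,
nat_lit 0x0,
nat_lit 0x0,
nat_lit 0x0,
nat_lit 0x0,
nat_lit 0x0,
nat_lit 0x0,
nat_lit 0x0,
nat_lit 0x0,
nat_lit 0x0,
nat_lit 0x0,
nat_lit 0x0,
nat_lit 0x0,
nat_lit 0x0,
nat_lit 0x0,
nat_lit 0x0,
nat_lit 0x0,
nat_lit 0x0,
nat_lit 0x0,
nat_lit 0x0,
nat_lit 0x0,
nat_lit 0x0,
nat_lit 0x0,
nat_lit 0x0,
nat_lit 0x0,
nat_lit 0x0,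
nat_lit 0x0,
nat_lit 0x0,
nat_lit 0x0,
nat_lit 0x0,
nat_lit 0x0,
nat_lit 0x0,
nat_lit 0x0,
nat_lit 0x0,
nat_lit 0x0,
nat_lit 0x0,
nat_lit 0x0,
nat_lit 0x0,
nat_lit 0x0,
nat_lit 0x0,
nat_lit 0x0,
nat_lit 0x0,
nat_lit 0x0,
nat_lit 0x0,
nat_lit 0x0,
nat_lit 0x0,
nat_lit 0x0,
nat_lit 0x0,
nat_lit 0x0,
nat_lit 0x0,
nat_lit 0x0,
nat_lit 0x0,
nat_lit 0x0,
nat_lit 0x0,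
nat_lit 0x0,
nat_lit 0x0,
nat_lit 0x0,
nat_lit 0x0,
nat_lit 0x0,
nat_lit 0x0,
nat_lit 0x0,
nat_lit 0x0,
nat_lit 0x0,
nat_lit 0x0,
nat_lit 0x0,
nat_lit 0x0,
nat_lit 0x0,
nat_lit 0x0,
nat_lit 0x0,
nat_lit 0x0,
nat_lit 0x0,
nat_lit 0x0,
nat_lit 0x0,
nat_lit 0x0,
nat_lit 0x0,
nat_lit 0x0,
nat_lit 0x0,
nat_lit 0x0,
nat_lit 0x0,
nat_lit 0x0,
nat_lit 0x0,
nat_lit 0x0,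
nat_lit 0x0,
nat_lit 0x0,
nat_lit 0x0,
nat_lit 0x0,
nat_lit 0x0,
nat_lit 0x0,
nat_lit 0x0,
nat_lit 0x0,
nat_lit 0x0,
nat_lit 0x0,
nat_lit 0x0,
nat_lit 0x0,
nat_lit 0x0,
nat_lit 0x0,
nat_lit 0x0,
nat_lit 0x0,
nat_lit 0x0,
nat_lit 0x0,
nat_lit 0x0,
nat_lit 0x0,
nat_lit 0x0,
nat_lit 0x0,
nat_lit 0x0,
nat_lit 0x0,
nat_lit 0x0,
nat_lit 0x0,
nat_lit 0x0,
nat_lit 0x0,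
nat_lit 0x0,
nat_lit 0x0,
nat_lit 0x0,
nat_lit 0x0,
nat_lit 0x0,
nat_lit 0x0,
nat_lit 0x0,
nat_lit 0x0,
nat_lit 0x0,
nat_lit 0x0,
nat_lit 0x0,
nat_lit 0x0,
nat_lit 0x0,
nat_lit 0x0,
nat_lit 0x0,
nat_lit 0x0,
nat_lit 0x0,
nat_lit 0x0,
nat_lit 0x0,
nat_lit 0x0,
nat_lit 0x0,
nat_lit 0x0,
nat_lit 0x0,
nat_lit 0x0,
nat_lit 0x0,
nat_lit 0x0,
nat_lit 0x0,
nat_lit 0x0,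
nat_lit 0x0,
nat_lit 0x0,
nat_lit 0x0,
nat_lit 0x0,
nat_lit 0x0,
nat_lit 0x0,
nat_lit 0x0,
nat_lit 0x0,
nat_lit 0x0,
nat_lit 0x0,
nat_lit 0x0,
nat_lit 0x0,
nat_lit 0x0,
nat_lit 0x0,
nat_lit 0x0,
nat_lit 0x0,
nat_lit 0x0,
nat_lit 0x0,
nat_lit 0x0,
nat_lit 0x0,
nat_lit 0x0,
nat_lit 0x0,
nat_lit 0x0,
nat_lit 0x0,
nat_lit 0x0,
nat_lit 0x0,
nat_lit 0x0,
nat_lit 0x0,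
nat_lit 0x0,
nat_lit 0x0,
nat_lit 0x0,
nat_lit 0x0,
nat_lit 0x0,
nat_lit 0x0,
nat_lit 0x0,
nat_lit 0x0,
nat_lit 0x0,
nat_lit 0x0,
nat_lit 0x0,
nat_lit 0x0,
nat_lit 0x0,
nat_lit 0x0,
nat_lit 0x0,
nat_lit 0x0,
nat_lit 0x0,
nat_lit 0x0,
nat_lit 0x0,
nat_lit 0x0,
nat_lit 0x0,
nat_lit 0x0,
nat_lit 0x0,
nat_lit 0x0,
nat_lit 0x0,
nat_lit 0x0,
nat_lit 0x0,
nat_lit 0x0,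
nat_lit 0x0,
nat_lit 0x0,
nat_lit 0x0,
nat_lit 0x0,
nat_lit 0x0,
nat_lit 0x0,
nat_lit 0x0,
nat_lit 0x0,
nat_lit 0x0,
nat_lit 0x0,
nat_lit 0x0,
nat_lit 0x0,
nat_lit 0x0,
nat_lit 0x0,
nat_lit 0x0,
nat_lit 0x0,
nat_lit 0x0,
nat_lit 0x0,
nat_lit 0x0,
nat_lit 0x0,
nat_lit 0x0,
nat_lit 0x0,
nat_lit 0x0,
nat_lit 0x0,
nat_lit 0x0,
nat_lit 0x0,
nat_lit 0x0,
nat_lit 0x0,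
nat_lit 0x0,
nat_lit 0x0,
nat_lit 0x0,
nat_lit 0x0,
nat_lit 0x0,
nat_lit 0x0,
nat_lit 0x0,
nat_lit 0x0,
nat_lit 0x0,
nat_lit 0x0,
nat_lit 0x0,
nat_lit 0x0,
nat_lit 0x0,
nat_lit 0x0,
nat_lit 0x0,
nat_lit 0x0,
nat_lit 0x0,
nat_lit 0x0,
nat_lit 0x0,
nat_lit 0x0,
nat_lit 0x0,
nat_lit 0x0,
nat_lit 0x0,
nat_lit 0x0,
nat_lit 0x0,
nat_lit 0x0,
nat_lit 0x0,
nat_lit 0x0,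
nat_lit 0x0,
nat_lit 0x0,
nat_lit 0x0,
nat_lit 0x0,
nat_lit 0x0,
nat_lit 0x0,
nat_lit 0x0,
nat_lit 0x0,
nat_lit 0x0,
nat_lit 0x0,
nat_lit 0x0,
nat_lit 0x0,
nat_lit 0x0,
nat_lit 0x0,
nat_lit 0x0,
nat_lit 0x0,
nat_lit 0x0,
nat_lit 0x0,
nat_lit 0x0,
nat_lit 0x0,
nat_lit 0x0,
nat_lit 0x0,
nat_lit 0x0,
nat_lit 0x0,
nat_lit 0x0,
nat_lit 0x0,
nat_lit 0x0,
nat_lit 0x0,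
nat_lit 0x0,
nat_lit 0x0,
nat_lit 0x0,
nat_lit 0x0,
nat_lit 0x0,
nat_lit 0x0,
nat_lit 0x0,
nat_lit 0x0,
nat_lit 0x0,
nat_lit 0x0,
nat_lit 0x0,
nat_lit 0x0,
nat_lit 0x0,
nat_lit 0x0,
nat_lit 0x0,
nat_lit 0x0,
nat_lit 0x0,
nat_lit 0x0,
nat_lit 0x0,
nat_lit 0x0,
nat_lit 0x0,
nat_lit 0x0,
nat_lit 0x0,
nat_lit 0x0,
nat_lit 0x0,
nat_lit 0x0,
nat_lit 0x0,
nat_lit 0x0,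
nat_lit 0x0,
nat_lit 0x0,
nat_lit 0x0,
nat_lit 0x0,
nat_lit 0x0,
nat_lit 0x0,
nat_lit 0x0,
nat_lit 0x0,
nat_lit 0x0,
nat_lit 0x0,
nat_lit 0x0,
nat_lit 0x0,
nat_lit 0x0,
nat_lit 0x0,
nat_lit 0x0,
nat_lit 0x0,
nat_lit 0x0,
nat_lit 0x0,
nat_lit 0x0,
nat_lit 0x0,
nat_lit 0x0,
nat_lit 0x0,
nat_lit 0x0,
nat_lit 0x0,
nat_lit 0x0]

theorem facts_ok15360 : checkFacts facts 18364758544493064720 words 128 subs 49982 items15360 15360 = true := by decide +kernel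

noncomputable def items15872 : List ℕ := [
nat_lit 0x0,
nat_lit 0x0,
nat_lit 0x0,
nat_lit 0x0,
nat_lit 0x0,
nat_lit 0x0,
nat_lit 0x0,
nat_lit 0x0,
nat_lit 0x0,
nat_lit 0x0,
nat_lit 0x0,
nat_lit 0x0,
nat_lit 0x0,
nat_lit 0x0,
nat_lit 0x0,
nat_lit 0x0,
nat_lit 0x0,
nat_lit 0x0,
nat_lit 0x0,
nat_lit 0x0,
nat_lit 0x0,
nat_lit 0x0,
nat_lit 0x0,
nat_lit 0x0,
nat_lit 0x0,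
nat_lit 0x0,
nat_lit 0x0,
nat_lit 0x0,
nat_lit 0x0,
nat_lit 0x0,
nat_lit 0x0,
nat_lit 0x0,
nat_lit 0x0,
nat_lit 0x0,
nat_lit 0x0,
nat_lit 0x0,
nat_lit 0x0,
nat_lit 0x0,
nat_lit 0x0,
nat_lit 0x0,
nat_lit 0x0,
nat_lit 0x0,
nat_lit 0x0,
nat_lit 0x0,
nat_lit 0x0,
nat_lit 0x0,
nat_lit 0x0,
nat_lit 0x0,
nat_lit 0x0,
nat_lit 0x0,
nat_lit 0x0,
nat_lit 0x0,
nat_lit 0x0,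
nat_lit 0x0,
nat_lit 0x0,
nat_lit 0x0,
nat_lit 0x0,
nat_lit 0x0,
nat_lit 0x0,
nat_lit 0x0,
nat_lit 0x0,
nat_lit 0x0,
nat_lit 0x0,
nat_lit 0x0,
nat_lit 0x0,
nat_lit 0x0,
nat_lit 0x0,
nat_lit 0x0,
nat_lit 0x0,
nat_lit 0x0,
nat_lit 0x0,
nat_lit 0x0,
nat_lit 0x0,
nat_lit 0x0,
nat_lit 0x0,
nat_lit 0x0,
nat_lit 0x0,
nat_lit 0x0,
nat_lit 0x0,
nat_lit 0x0,
nat_lit 0x0,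
nat_lit 0x0,
nat_lit 0x0,
nat_lit 0x0,
nat_lit 0x0,
nat_lit 0x0,
nat_lit 0x0,
nat_lit 0x0,
nat_lit 0x0,
nat_lit 0x0,
nat_lit 0x0,
nat_lit 0x0,
nat_lit 0x0,
nat_lit 0x0,
nat_lit 0x0,
nat_lit 0x0,
nat_lit 0x0,
nat_lit 0x0,
nat_lit 0x0,
nat_lit 0x0,
nat_lit 0x0,
nat_lit 0x0,
nat_lit 0x0,
nat_lit 0x0,
nat_lit 0x0,
nat_lit 0x0,
nat_lit 0x0,
nat_lit 0x0,
nat_lit 0x0,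
nat_lit 0x0,
nat_lit 0x0,
nat_lit 0x0,
nat_lit 0x0,
nat_lit 0x0,
nat_lit 0x0,
nat_lit 0x0,
nat_lit 0x0,
nat_lit 0x0,
nat_lit 0x0,
nat_lit 0x0,
nat_lit 0x0,
nat_lit 0x0,
nat_lit 0x0,
nat_lit 0x0,
nat_lit 0x0,
nat_lit 0x0,
nat_lit 0x0,
nat_lit 0x0,
nat_lit 0x0,
nat_lit 0x0,
nat_lit 0x0,
nat_lit 0x0,
nat_lit 0x0,
nat_lit 0x0,
nat_lit 0x0,
nat_lit 0x0,
nat_lit 0x0,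
nat_lit 0x0,
nat_lit 0x0,
nat_lit 0x0,
nat_lit 0x0,
nat_lit 0x0,
nat_lit 0x0,
nat_lit 0x0,
nat_lit 0x0,
nat_lit 0x0,
nat_lit 0x0,
nat_lit 0x0,
nat_lit 0x0,
nat_lit 0x0,
nat_lit 0x0,
nat_lit 0x0,
nat_lit 0x0,
nat_lit 0x0,
nat_lit 0x0,
nat_lit 0x0,
nat_lit 0x0,
nat_lit 0x0,
nat_lit 0x0,
nat_lit 0x0,
nat_lit 0x0,
nat_lit 0x0,
nat_lit 0x0,
nat_lit 0x0,
nat_lit 0x0,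
nat_lit 0x0,
nat_lit 0x0,
nat_lit 0x0,
nat_lit 0x0,
nat_lit 0x0,
nat_lit 0x0,
nat_lit 0x0,
nat_lit 0x0,
nat_lit 0x0,
nat_lit 0x0,
nat_lit 0x0,
nat_lit 0x0,
nat_lit 0x0,
nat_lit 0x0,
nat_lit 0x0,
nat_lit 0x0,
nat_lit 0x0,
nat_lit 0x0,
nat_lit 0x0,
nat_lit 0x0,
nat_lit 0x0,
nat_lit 0x0,
nat_lit 0x0,
nat_lit 0x0,
nat_lit 0x0,
nat_lit 0x0,
nat_lit 0x0,
nat_lit 0x0,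
nat_lit 0x0,
nat_lit 0x0,
nat_lit 0x0,
nat_lit 0x0,
nat_lit 0x0,
nat_lit 0x0,
nat_lit 0x0,
nat_lit 0x0,
nat_lit 0x0,
nat_lit 0x0,
nat_lit 0x0,
nat_lit 0x0,
nat_lit 0x0,
nat_lit 0x0,
nat_lit 0x0,
nat_lit 0x0,
nat_lit 0x0,
nat_lit 0x0,
nat_lit 0x0,
nat_lit 0x0,
nat_lit 0x0,
nat_lit 0x0,
nat_lit 0x0,
nat_lit 0x0,
nat_lit 0x0,
nat_lit 0x0,
nat_lit 0x0,
nat_lit 0x0,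
nat_lit 0x0,
nat_lit 0x0,
nat_lit 0x0,
nat_lit 0x0,
nat_lit 0x0,
nat_lit 0x0,
nat_lit 0x0,
nat_lit 0x0,
nat_lit 0x0,
nat_lit 0x0,
nat_lit 0x0,
nat_lit 0x0,
nat_lit 0x0,
nat_lit 0x0,
nat_lit 0x0,
nat_lit 0x0,
nat_lit 0x0,
nat_lit 0x0,
nat_lit 0x0,
nat_lit 0x0,
nat_lit 0x0,
nat_lit 0x0,
nat_lit 0x0,
nat_lit 0x0,
nat_lit 0x0,
nat_lit 0x0,
nat_lit 0x0,
nat_lit 0x0,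
nat_lit 0x0,
nat_lit 0x0,
nat_lit 0x0,
nat_lit 0x0,
nat_lit 0x0,
nat_lit 0x0,
nat_lit 0x0,
nat_lit 0x0,
nat_lit 0x0,
nat_lit 0x0,
nat_lit 0x0,
nat_lit 0x0,
nat_lit 0x0,
nat_lit 0x0,
nat_lit 0x0,
nat_lit 0x0,
nat_lit 0x0,
nat_lit 0x0,
nat_lit 0x0,
nat_lit 0x0,
nat_lit 0x0,
nat_lit 0x0,
nat_lit 0x0,
nat_lit 0x0,
nat_lit 0x0,
nat_lit 0x0,
nat_lit 0x0,
nat_lit 0x0,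
nat_lit 0x0,
nat_lit 0x0,
nat_lit 0x0,
nat_lit 0x0,
nat_lit 0x0,
nat_lit 0x0,
nat_lit 0x0,
nat_lit 0x0,
nat_lit 0x0,
nat_lit 0x0,
nat_lit 0x0,
nat_lit 0x0,
nat_lit 0x0,
nat_lit 0x0,
nat_lit 0x0,
nat_lit 0x0,
nat_lit 0x0,
nat_lit 0x0,
nat_lit 0x0,
nat_lit 0x0,
nat_lit 0x0,
nat_lit 0x0,
nat_lit 0x0,
nat_lit 0x0,
nat_lit 0x0,
nat_lit 0x0,
nat_lit 0x0,
nat_lit 0x0,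
nat_lit 0x0,
nat_lit 0x0,
nat_lit 0x0,
nat_lit 0x0,
nat_lit 0x0,
nat_lit 0x0,
nat_lit 0x0,
nat_lit 0x0,
nat_lit 0x0,
nat_lit 0x0,
nat_lit 0x0,
nat_lit 0x0,
nat_lit 0x0,
nat_lit 0x0,
nat_lit 0x0,
nat_lit 0x0,
nat_lit 0x0,
nat_lit 0x0,
nat_lit 0x0,
nat_lit 0x0,
nat_lit 0x0,
nat_lit 0x0,
nat_lit 0x0,
nat_lit 0x0,
nat_lit 0x0,
nat_lit 0x0,
nat_lit 0x0,
nat_lit 0x0,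
nat_lit 0x0,
nat_lit 0x0,
nat_lit 0x0,
nat_lit 0x0,
nat_lit 0x0,
nat_lit 0x0,
nat_lit 0x0,
nat_lit 0x0,
nat_lit 0x0,
nat_lit 0x0,
nat_lit 0x0,
nat_lit 0x0,
nat_lit 0x0,
nat_lit 0x0,
nat_lit 0x0,
nat_lit 0x0,
nat_lit 0x0,
nat_lit 0x0,
nat_lit 0x0,
nat_lit 0x0,
nat_lit 0x0,
nat_lit 0x0,
nat_lit 0x0,
nat_lit 0x0,
nat_lit 0x0,
nat_lit 0x0,
nat_lit 0x0,
nat_lit 0x0,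
nat_lit 0x0,
nat_lit 0x0,
nat_lit 0x0,
nat_lit 0x0,
nat_lit 0x0,
nat_lit 0x0,
nat_lit 0x0,
nat_lit 0x0,
nat_lit 0x0,
nat_lit 0x0,
nat_lit 0x0,
nat_lit 0x0,
nat_lit 0x0,
nat_lit 0x0,
nat_lit 0x0,
nat_lit 0x0,
nat_lit 0x0,
nat_lit 0x0,
nat_lit 0x0,
nat_lit 0x0,
nat_lit 0x0,
nat_lit 0x0,
nat_lit 0x0,
nat_lit 0x0,
nat_lit 0x0,
nat_lit 0x0,
nat_lit 0x0,
nat_lit 0x0,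
nat_lit 0x0,
nat_lit 0x0,
nat_lit 0x0,
nat_lit 0x0,
nat_lit 0x0,
nat_lit 0x0,
nat_lit 0x0,
nat_lit 0x0,
nat_lit 0x0,
nat_lit 0x0,
nat_lit 0x0,
nat_lit 0x0,
nat_lit 0x0,
nat_lit 0x0,
nat_lit 0x0,
nat_lit 0x0,
nat_lit 0x0,
nat_lit 0x0,
nat_lit 0x0,
nat_lit 0x0,
nat_lit 0x0,
nat_lit 0x0,
nat_lit 0x0,
nat_lit 0x0,
nat_lit 0x0,
nat_lit 0x0,
nat_lit 0x0,
nat_lit 0x0,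
nat_lit 0x0,
nat_lit 0x0,
nat_lit 0x0,
nat_lit 0x0,
nat_lit 0x0,
nat_lit 0x0,
nat_lit 0x0,
nat_lit 0x0,
nat_lit 0x0,
nat_lit 0x0,
nat_lit 0x0,
nat_lit 0x0,
nat_lit 0x0,
nat_lit 0x0,
nat_lit 0x0,
nat_lit 0x0,
nat_lit 0x0,
nat_lit 0x0,
nat_lit 0x0,
nat_lit 0x0,
nat_lit 0x0,
nat_lit 0x0,
nat_lit 0x0,
nat_lit 0x0,
nat_lit 0x0,
nat_lit 0x0,
nat_lit 0x0,
nat_lit 0x0,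
nat_lit 0x0,
nat_lit 0x0,
nat_lit 0x0,
nat_lit 0x0,
nat_lit 0x0,
nat_lit 0x0,
nat_lit 0x0,
nat_lit 0x0,
nat_lit 0x0,
nat_lit 0x0,
nat_lit 0x0,
nat_lit 0x0,
nat_lit 0x0,
nat_lit 0x0,
nat_lit 0x0,
nat_lit 0x0,
nat_lit 0x0,
nat_lit 0x0,
nat_lit 0x0,
nat_lit 0x0,
nat_lit 0x0,
nat_lit 0x0,
nat_lit 0x0,
nat_lit 0x0,
nat_lit 0x0,
nat_lit 0x0,
nat_lit 0x0,
nat_lit 0x0,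
nat_lit 0x0,
nat_lit 0x0,
nat_lit 0x0,
nat_lit 0x0,
nat_lit 0x0,
nat_lit 0x0,
nat_lit 0x0,
nat_lit 0x0,
nat_lit 0x0,
nat_lit 0x0,
nat_lit 0x0,
nat_lit 0x0,
nat_lit 0x0,
nat_lit 0x0,
nat_lit 0x0,
nat_lit 0x0,
nat_lit 0x0,
nat_lit 0x0,
nat_lit 0x0,
nat_lit 0x0,
nat_lit 0x0,
nat_lit 0x0,
nat_lit 0x0,
nat_lit 0x0,
nat_lit 0x0,
nat_lit 0x0,
nat_lit 0x0,
nat_lit 0x0,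
nat_lit 0x0,
nat_lit 0x0,
nat_lit 0x0,
nat_lit 0x0,
nat_lit 0x0,
nat_lit 0x0,
nat_lit 0x0,
nat_lit 0x0,
nat_lit 0x0,
nat_lit 0x0,
nat_lit 0x0]

theorem facts_ok15872 : checkFacts facts 18364758544493064720 words 128 subs 49982 items15872 15872 = true := by decide +kernel

noncomputable def items16384 : List ℕ := [
nat_lit 0x0,
nat_lit 0x0,
nat_lit 0x0,
nat_lit 0x0,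
nat_lit 0x0,
nat_lit 0x0,
nat_lit 0x0,
nat_lit 0x0,
nat_lit 0x0,
nat_lit 0x0,
nat_lit 0x0,
nat_lit 0x0,
nat_lit 0x0,
nat_lit 0x0,
nat_lit 0x0,
nat_lit 0x0,
nat_lit 0x0,
nat_lit 0x0,
nat_lit 0x0,
nat_lit 0x0,
nat_lit 0x0,
nat_lit 0x0,
nat_lit 0x0,
nat_lit 0x0,
nat_lit 0x0,
nat_lit 0x0,
nat_lit 0x0,
nat_lit 0x0,
nat_lit 0x0,
nat_lit 0x0,
nat_lit 0x0,
nat_lit 0x0,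
nat_lit 0x0,
nat_lit 0x0,
nat_lit 0x0,
nat_lit 0x0,
nat_lit 0x0,
nat_lit 0x0,
nat_lit 0x0,
nat_lit 0x0,
nat_lit 0x0,
nat_lit 0x0,
nat_lit 0x0,
nat_lit 0x0,
nat_lit 0x0,
nat_lit 0x0,
nat_lit 0x0,
nat_lit 0x0,
nat_lit 0x0,
nat_lit 0x0,
nat_lit 0x0,
nat_lit 0x0,
nat_lit 0x0,
nat_lit 0x0,
nat_lit 0x0,
nat_lit 0x0,
nat_lit 0x0,
nat_lit 0x0,
nat_lit 0x0,
nat_lit 0x0,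
nat_lit 0x0,
nat_lit 0x0,
nat_lit 0x0,
nat_lit 0x0,
nat_lit 0x0,
nat_lit 0x0,
nat_lit 0x0,
nat_lit 0x0,
nat_lit 0x0,
nat_lit 0x0,
nat_lit 0x0,
nat_lit 0x0,
nat_lit 0x0,
nat_lit 0x0,
nat_lit 0x0,
nat_lit 0x0,
nat_lit 0x0,
nat_lit 0x0,
nat_lit 0x0,
nat_lit 0x0,
nat_lit 0x0,
nat_lit 0x0,
nat_lit 0x0,
nat_lit 0x0,
nat_lit 0x0,
nat_lit 0x0,
nat_lit 0x0,
nat_lit 0x0,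
nat_lit 0x0,
nat_lit 0x0,
nat_lit 0x0,
nat_lit 0x0,
nat_lit 0x0,
nat_lit 0x0,
nat_lit 0x0,
nat_lit 0x0,
nat_lit 0x0,
nat_lit 0x0,
nat_lit 0x0,
nat_lit 0x0,
nat_lit 0x0,
nat_lit 0x0,
nat_lit 0x0,
nat_lit 0x0,
nat_lit 0x0,
nat_lit 0x0,
nat_lit 0x0,
nat_lit 0x0,
nat_lit 0x0,
nat_lit 0x0,
nat_lit 0x0,
nat_lit 0x0,
nat_lit 0x0,
nat_lit 0x0,
nat_lit 0x0,
nat_lit 0x0,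
nat_lit 0x0,
nat_lit 0x0,
nat_lit 0x0,
nat_lit 0x0,
nat_lit 0x0,
nat_lit 0x0,
nat_lit 0x0,
nat_lit 0x0,
nat_lit 0x0,
nat_lit 0x0,
nat_lit 0x0,
nat_lit 0x0,
nat_lit 0x0,
nat_lit 0x0,
nat_lit 0x0,
nat_lit 0x0,
nat_lit 0x0,
nat_lit 0x0,
nat_lit 0x0,
nat_lit 0x0,
nat_lit 0x0,
nat_lit 0x0,
nat_lit 0x0,
nat_lit 0x0,
nat_lit 0x0,
nat_lit 0x0,
nat_lit 0x0,
nat_lit 0x0,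
nat_lit 0x0,
nat_lit 0x0,
nat_lit 0x0,
nat_lit 0x0,
nat_lit 0x0,
nat_lit 0x0,
nat_lit 0x0,
nat_lit 0x0,
nat_lit 0x0,
nat_lit 0x0,
nat_lit 0x0,
nat_lit 0x0,
nat_lit 0x0,
nat_lit 0x0,
nat_lit 0x0,
nat_lit 0x0,
nat_lit 0x0,
nat_lit 0x0,
nat_lit 0x0,
nat_lit 0x0,
nat_lit 0x0,
nat_lit 0x0,
nat_lit 0x0,
nat_lit 0x0,
nat_lit 0x0,
nat_lit 0x0,
nat_lit 0x0,
nat_lit 0x0,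
nat_lit 0x0,
nat_lit 0x0,
nat_lit 0x0,
nat_lit 0x0,
nat_lit 0x0,
nat_lit 0x0,
nat_lit 0x0,
nat_lit 0x0,
nat_lit 0x0,
nat_lit 0x0,
nat_lit 0x0,
nat_lit 0x0,
nat_lit 0x0,
nat_lit 0x0,
nat_lit 0x0,
nat_lit 0x0,
nat_lit 0x0,
nat_lit 0x0,
nat_lit 0x0,
nat_lit 0x0,
nat_lit 0x0,
nat_lit 0x0,
nat_lit 0x0,
nat_lit 0x0,
nat_lit 0x0,
nat_lit 0x0,
nat_lit 0x0,
nat_lit 0x0,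
nat_lit 0x0,
nat_lit 0x0,
nat_lit 0x0,
nat_lit 0x0,
nat_lit 0x0,
nat_lit 0x0,
nat_lit 0x0,
nat_lit 0x0,
nat_lit 0x0,
nat_lit 0x0,
nat_lit 0x0,
nat_lit 0x0,
nat_lit 0x0,
nat_lit 0x0,
nat_lit 0x0,
nat_lit 0x0,
nat_lit 0x0,
nat_lit 0x0,
nat_lit 0x0,
nat_lit 0x0,
nat_lit 0x0,
nat_lit 0x0,
nat_lit 0x0,
nat_lit 0x0,
nat_lit 0x0,
nat_lit 0x0,
nat_lit 0x0,
nat_lit 0x0,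
nat_lit 0x0,
nat_lit 0x0,
nat_lit 0x0,
nat_lit 0x0,
nat_lit 0x0,
nat_lit 0x0,
nat_lit 0x0,
nat_lit 0x0,
nat_lit 0x0,
nat_lit 0x0,
nat_lit 0x0,
nat_lit 0x0,
nat_lit 0x0,
nat_lit 0x0,
nat_lit 0x0,
nat_lit 0x0,
nat_lit 0x0,
nat_lit 0x0,
nat_lit 0x0,
nat_lit 0x0,
nat_lit 0x0,
nat_lit 0x0,
nat_lit 0x0,
nat_lit 0x0,
nat_lit 0x0,
nat_lit 0x0,
nat_lit 0x0,
nat_lit 0x0,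
nat_lit 0x0,
nat_lit 0x0,
nat_lit 0x0,
nat_lit 0x0,
nat_lit 0x0,
nat_lit 0x0,
nat_lit 0x0,
nat_lit 0x0,
nat_lit 0x0,
nat_lit 0x0,
nat_lit 0x0,
nat_lit 0x0,
nat_lit 0x0,
nat_lit 0x0,
nat_lit 0x0,
nat_lit 0x0,
nat_lit 0x0,
nat_lit 0x0,
nat_lit 0x0,
nat_lit 0x0,
nat_lit 0x0,
nat_lit 0x0,
nat_lit 0x0,
nat_lit 0x0,
nat_lit 0x0,
nat_lit 0x0,
nat_lit 0x0,
nat_lit 0x0,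
nat_lit 0x0,
nat_lit 0x0,
nat_lit 0x0,
nat_lit 0x0,
nat_lit 0x0,
nat_lit 0x0,
nat_lit 0x0,
nat_lit 0x0,
nat_lit 0x0,
nat_lit 0x0,
nat_lit 0x0,
nat_lit 0x0,
nat_lit 0x0,
nat_lit 0x0,
nat_lit 0x0,
nat_lit 0x0,
nat_lit 0x0,
nat_lit 0x0,
nat_lit 0x0,
nat_lit 0x0,
nat_lit 0x0,
nat_lit 0x0,
nat_lit 0x0,
nat_lit 0x0,
nat_lit 0x0,
nat_lit 0x0,
nat_lit 0x0,
nat_lit 0x0,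
nat_lit 0x0,
nat_lit 0x0,
nat_lit 0x0,
nat_lit 0x0,
nat_lit 0x0,
nat_lit 0x0,
nat_lit 0x0,
nat_lit 0x0,
nat_lit 0x0,
nat_lit 0x0,
nat_lit 0x0,
nat_lit 0x0,
nat_lit 0x0,
nat_lit 0x0,
nat_lit 0x0,
nat_lit 0x0,
nat_lit 0x0,
nat_lit 0x0,
nat_lit 0x0,
nat_lit 0x0,
nat_lit 0x0,
nat_lit 0x0,
nat_lit 0x0,
nat_lit 0x0,
nat_lit 0x0,
nat_lit 0x0,
nat_lit 0x0,
nat_lit 0x0,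
nat_lit 0x0,
nat_lit 0x0,
nat_lit 0x0,
nat_lit 0x0,
nat_lit 0x0,
nat_lit 0x0,
nat_lit 0x0,
nat_lit 0x0,
nat_lit 0x0,
nat_lit 0x0,
nat_lit 0x0,
nat_lit 0x0,
nat_lit 0x0,
nat_lit 0x0,
nat_lit 0x0,
nat_lit 0x0,
nat_lit 0x0,
nat_lit 0x0,
nat_lit 0x0,
nat_lit 0x0,
nat_lit 0x0,
nat_lit 0x0,
nat_lit 0x0,
nat_lit 0x0,
nat_lit 0x0,
nat_lit 0x0,
nat_lit 0x0,
nat_lit 0x0,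
nat_lit 0x0,
nat_lit 0x0,
nat_lit 0x0,
nat_lit 0x0,
nat_lit 0x0,
nat_lit 0x0,
nat_lit 0x0,
nat_lit 0x0,
nat_lit 0x0,
nat_lit 0x0,
nat_lit 0x0,
nat_lit 0x0,
nat_lit 0x0,
nat_lit 0x0,
nat_lit 0x0,
nat_lit 0x0,
nat_lit 0x0,
nat_lit 0x0,
nat_lit 0x0,
nat_lit 0x0,
nat_lit 0x0,
nat_lit 0x0,
nat_lit 0x0,
nat_lit 0x0,
nat_lit 0x0,
nat_lit 0x0,
nat_lit 0x0,
nat_lit 0x0,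
nat_lit 0x0,
nat_lit 0x0,
nat_lit 0x0,
nat_lit 0x0,
nat_lit 0x0,
nat_lit 0x0,
nat_lit 0x0,
nat_lit 0x0,
nat_lit 0x0,
nat_lit 0x0,
nat_lit 0x0,
nat_lit 0x0,
nat_lit 0x0,
nat_lit 0x0,
nat_lit 0x0,
nat_lit 0x0,
nat_lit 0x0,
nat_lit 0x0,
nat_lit 0x0,
nat_lit 0x0,
nat_lit 0x0,
nat_lit 0x0,
nat_lit 0x0,
nat_lit 0x0,
nat_lit 0x0,
nat_lit 0x0,
nat_lit 0x0,
nat_lit 0x0,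
nat_lit 0x0,
nat_lit 0x0,
nat_lit 0x0,
nat_lit 0x0,
nat_lit 0x0,
nat_lit 0x0,
nat_lit 0x0,
nat_lit 0x0,
nat_lit 0x0,
nat_lit 0x0,
nat_lit 0x0,
nat_lit 0x0,
nat_lit 0x0,
nat_lit 0x0,
nat_lit 0x0,
nat_lit 0x0,
nat_lit 0x0,
nat_lit 0x0,
nat_lit 0x0,
nat_lit 0x0,
nat_lit 0x0,
nat_lit 0x0,
nat_lit 0x0,
nat_lit 0x0,
nat_lit 0x0,
nat_lit 0x0,
nat_lit 0x0,
nat_lit 0x0,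
nat_lit 0x0,
nat_lit 0x0,
nat_lit 0x0,
nat_lit 0x0,
nat_lit 0x0,
nat_lit 0x0,
nat_lit 0x0,
nat_lit 0x0,
nat_lit 0x0,
nat_lit 0x0,
nat_lit 0x0,
nat_lit 0x0,
nat_lit 0x0,
nat_lit 0x0,
nat_lit 0x0,
nat_lit 0x0,
nat_lit 0x0,
nat_lit 0x0,
nat_lit 0x0,
nat_lit 0x0,
nat_lit 0x0,
nat_lit 0x0,
nat_lit 0x0,
nat_lit 0x0,
nat_lit 0x0,
nat_lit 0x0,
nat_lit 0x0,
nat_lit 0x0,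
nat_lit 0x0,
nat_lit 0x0,
nat_lit 0x0,
nat_lit 0x0,
nat_lit 0x0,
nat_lit 0x0,
nat_lit 0x0,
nat_lit 0x0,
nat_lit 0x0,
nat_lit 0x0,
nat_lit 0x0,
nat_lit 0x0,
nat_lit 0x0,
nat_lit 0x0,
nat_lit 0x0,
nat_lit 0x0,
nat_lit 0x0,
nat_lit 0x0,
nat_lit 0x0,
nat_lit 0x0,
nat_lit 0x0,
nat_lit 0x0,
nat_lit 0x0,
nat_lit 0x0,
nat_lit 0x0,
nat_lit 0x0,
nat_lit 0x0,
nat_lit 0x0,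
nat_lit 0x0,
nat_lit 0x0,
nat_lit 0x0,
nat_lit 0x0]

theorem facts_ok16384 : checkFacts facts 18364758544493064720 words 128 subs 49982 items16384 16384 = true := by decide +kernel

noncomputable def items16896 : List ℕ := [
nat_lit 0x0,
nat_lit 0x0,
nat_lit 0x0,
nat_lit 0x0,
nat_lit 0x0,
nat_lit 0x0,
nat_lit 0x0,
nat_lit 0x0,
nat_lit 0x0,
nat_lit 0x0,
nat_lit 0x0,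
nat_lit 0x0,
nat_lit 0x0,
nat_lit 0x0,
nat_lit 0x0,
nat_lit 0x0,
nat_lit 0x0,
nat_lit 0x0,
nat_lit 0x0,
nat_lit 0x0,
nat_lit 0x0,
nat_lit 0x0,
nat_lit 0x0,
nat_lit 0x0,
nat_lit 0x0,
nat_lit 0x0,
nat_lit 0x0,
nat_lit 0x0,
nat_lit 0x0,
nat_lit 0x0,
nat_lit 0x0,
nat_lit 0x0,
nat_lit 0x0,
nat_lit 0x0,
nat_lit 0x0,
nat_lit 0x0,
nat_lit 0x0,
nat_lit 0x0,
nat_lit 0x0,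
nat_lit 0x0,
nat_lit 0x0,
nat_lit 0x0,
nat_lit 0x0,
nat_lit 0x0,
nat_lit 0x0,
nat_lit 0x0,
nat_lit 0x0,
nat_lit 0x0,
nat_lit 0x0,
nat_lit 0x0,
nat_lit 0x0,
nat_lit 0x0,
nat_lit 0x0,
nat_lit 0x0,
nat_lit 0x0,
nat_lit 0x0,
nat_lit 0x0,
nat_lit 0x0,
nat_lit 0x0,
nat_lit 0x0,
nat_lit 0x0,
nat_lit 0x0,
nat_lit 0x0,
nat_lit 0x0,
nat_lit 0x0,
nat_lit 0x0,
nat_lit 0x0,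
nat_lit 0x0,
nat_lit 0x0,
nat_lit 0x0,
nat_lit 0x0,
nat_lit 0x0,
nat_lit 0x0,
nat_lit 0x0,
nat_lit 0x0,
nat_lit 0x0,
nat_lit 0x0,
nat_lit 0x0,
nat_lit 0x0,
nat_lit 0x0,
nat_lit 0x0,
nat_lit 0x0,
nat_lit 0x0,
nat_lit 0x0,
nat_lit 0x0,
nat_lit 0x0,
nat_lit 0x0,
nat_lit 0x0,
nat_lit 0x0,
nat_lit 0x0,
nat_lit 0x0,
nat_lit 0x0,
nat_lit 0x0,
nat_lit 0x0,
nat_lit 0x0,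
nat_lit 0x0,
nat_lit 0x0,
nat_lit 0x0,
nat_lit 0x0,
nat_lit 0x0,
nat_lit 0x0,
nat_lit 0x0,
nat_lit 0x0,
nat_lit 0x0,
nat_lit 0x0,
nat_lit 0x0,
nat_lit 0x0,
nat_lit 0x0,
nat_lit 0x0,
nat_lit 0x0,
nat_lit 0x0,
nat_lit 0x0,
nat_lit 0x0,
nat_lit 0x0,
nat_lit 0x0,
nat_lit 0x0,
nat_lit 0x0,
nat_lit 0x0,
nat_lit 0x0,
nat_lit 0x0,
nat_lit 0x0,
nat_lit 0x0,
nat_lit 0x0,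
nat_lit 0x0,
nat_lit 0x0,
nat_lit 0x0,
nat_lit 0x0,
nat_lit 0x0,
nat_lit 0x0,
nat_lit 0x0,
nat_lit 0x0,
nat_lit 0x0,
nat_lit 0x0,
nat_lit 0x0,
nat_lit 0x0,
nat_lit 0x0,
nat_lit 0x0,
nat_lit 0x0,
nat_lit 0x0,
nat_lit 0x0,
nat_lit 0x0,
nat_lit 0x0,
nat_lit 0x0,
nat_lit 0x0,
nat_lit 0x0,
nat_lit 0x0,
nat_lit 0x0,
nat_lit 0x0,
nat_lit 0x0,
nat_lit 0x0,
nat_lit 0x0,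
nat_lit 0x0,
nat_lit 0x0,
nat_lit 0x0,
nat_lit 0x0,
nat_lit 0x0,
nat_lit 0x0,
nat_lit 0x0,
nat_lit 0x0,
nat_lit 0x0,
nat_lit 0x0,
nat_lit 0x0,
nat_lit 0x0,
nat_lit 0x0,
nat_lit 0x0,
nat_lit 0x0,
nat_lit 0x0,
nat_lit 0x0,
nat_lit 0x0,
nat_lit 0x0,
nat_lit 0x0,
nat_lit 0x0,
nat_lit 0x0,
nat_lit 0x0,
nat_lit 0x0,
nat_lit 0x0,
nat_lit 0x0,
nat_lit 0x0,
nat_lit 0x0,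
nat_lit 0x0,
nat_lit 0x0,
nat_lit 0x0,
nat_lit 0x0,
nat_lit 0x0,
nat_lit 0x0,
nat_lit 0x0,
nat_lit 0x0,
nat_lit 0x0,
nat_lit 0x0,
nat_lit 0x0,
nat_lit 0x0,
nat_lit 0x0,
nat_lit 0x0,
nat_lit 0x0,
nat_lit 0x0,
nat_lit 0x0,
nat_lit 0x0,
nat_lit 0x0,
nat_lit 0x0,
nat_lit 0x0,
nat_lit 0x0,
nat_lit 0x0,
nat_lit 0x0,
nat_lit 0x0,
nat_lit 0x0,
nat_lit 0x0,
nat_lit 0x0,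
nat_lit 0x0,
nat_lit 0x0,
nat_lit 0x0,
nat_lit 0x0,
nat_lit 0x0,
nat_lit 0x0,
nat_lit 0x0,
nat_lit 0x0,
nat_lit 0x0,
nat_lit 0x0,
nat_lit 0x0,
nat_lit 0x0,
nat_lit 0x0,
nat_lit 0x0,
nat_lit 0x0,
nat_lit 0x0,
nat_lit 0x0,
nat_lit 0x0,
nat_lit 0x0,
nat_lit 0x0,
nat_lit 0x0,
nat_lit 0x0,
nat_lit 0x0,
nat_lit 0x0,
nat_lit 0x0,
nat_lit 0x0,
nat_lit 0x0,
nat_lit 0x0,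
nat_lit 0x0,
nat_lit 0x0,
nat_lit 0x0,
nat_lit 0x0,
nat_lit 0x0,
nat_lit 0x0,
nat_lit 0x0,
nat_lit 0x0,
nat_lit 0x0,
nat_lit 0x0,
nat_lit 0x0,
nat_lit 0x0,
nat_lit 0x0,
nat_lit 0x0,
nat_lit 0x0,
nat_lit 0x0,
nat_lit 0x0,
nat_lit 0x0,
nat_lit 0x0,
nat_lit 0x0,
nat_lit 0x0,
nat_lit 0x0,
nat_lit 0x0,
nat_lit 0x0,
nat_lit 0x0,
nat_lit 0x0,
nat_lit 0x0,
nat_lit 0x0,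
nat_lit 0x0,
nat_lit 0x0,
nat_lit 0x0,
nat_lit 0x0,
nat_lit 0x0,
nat_lit 0x0,
nat_lit 0x0,
nat_lit 0x0,
nat_lit 0x0,
nat_lit 0x0,
nat_lit 0x0,
nat_lit 0x0,
nat_lit 0x0,
nat_lit 0x0,
nat_lit 0x0,
nat_lit 0x0,
nat_lit 0x0,
nat_lit 0x0,
nat_lit 0x0,
nat_lit 0x0,
nat_lit 0x0,
nat_lit 0x0,
nat_lit 0x0,
nat_lit 0x0,
nat_lit 0x0,
nat_lit 0x0,
nat_lit 0x0,
nat_lit 0x0,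
nat_lit 0x0,
nat_lit 0x0,
nat_lit 0x0,
nat_lit 0x0,
nat_lit 0x0,
nat_lit 0x0,
nat_lit 0x0,
nat_lit 0x0,
nat_lit 0x0,
nat_lit 0x0,
nat_lit 0x0,
nat_lit 0x0,
nat_lit 0x0,
nat_lit 0x0,
nat_lit 0x0,
nat_lit 0x0,
nat_lit 0x0,
nat_lit 0x0,
nat_lit 0x0,
nat_lit 0x0,
nat_lit 0x0,
nat_lit 0x0,
nat_lit 0x0,
nat_lit 0x0,
nat_lit 0x0,
nat_lit 0x0,
nat_lit 0x0,
nat_lit 0x0,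
nat_lit 0x0,
nat_lit 0x0,
nat_lit 0x0,
nat_lit 0x0,
nat_lit 0x0,
nat_lit 0x0,
nat_lit 0x0,
nat_lit 0x0,
nat_lit 0x0,
nat_lit 0x0,
nat_lit 0x0,
nat_lit 0x0,
nat_lit 0x0,
nat_lit 0x0,
nat_lit 0x0,
nat_lit 0x0,
nat_lit 0x0,
nat_lit 0x0,
nat_lit 0x0,
nat_lit 0x0,
nat_lit 0x0,
nat_lit 0x0,
nat_lit 0x0,
nat_lit 0x0,
nat_lit 0x0,
nat_lit 0x0,
nat_lit 0x0,
nat_lit 0x0,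
nat_lit 0x0,
nat_lit 0x0,
nat_lit 0x0,
nat_lit 0x0,
nat_lit 0x0,
nat_lit 0x0,
nat_lit 0x0,
nat_lit 0x0,
nat_lit 0x0,
nat_lit 0x0,
nat_lit 0x0,
nat_lit 0x0,
nat_lit 0x0,
nat_lit 0x0,
nat_lit 0x0,
nat_lit 0x0,
nat_lit 0x0,
nat_lit 0x0,
nat_lit 0x0,
nat_lit 0x0,
nat_lit 0x0,
nat_lit 0x0,
nat_lit 0x0,
nat_lit 0x0,
nat_lit 0x0,
nat_lit 0x0,
nat_lit 0x0,
nat_lit 0x0,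
nat_lit 0x0,
nat_lit 0x0,
nat_lit 0x0,
nat_lit 0x0,
nat_lit 0x0,
nat_lit 0x0,
nat_lit 0x0,
nat_lit 0x0,
nat_lit 0x0,
nat_lit 0x0,
nat_lit 0x0,
nat_lit 0x0,
nat_lit 0x0,
nat_lit 0x0,
nat_lit 0x0,
nat_lit 0x0,
nat_lit 0x0,
nat_lit 0x0,
nat_lit 0x0,
nat_lit 0x0,
nat_lit 0x0,
nat_lit 0x0,
nat_lit 0x0,
nat_lit 0x0,
nat_lit 0x0,
nat_lit 0x0,
nat_lit 0x0,
nat_lit 0x0,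
nat_lit 0x0,
nat_lit 0x0,
nat_lit 0x0,
nat_lit 0x0,
nat_lit 0x0,
nat_lit 0x0,
nat_lit 0x0,
nat_lit 0x0,
nat_lit 0x0,
nat_lit 0x0,
nat_lit 0x0,
nat_lit 0x0,
nat_lit 0x0,
nat_lit 0x0,
nat_lit 0x0,
nat_lit 0x0,
nat_lit 0x0,
nat_lit 0x0,
nat_lit 0x0,
nat_lit 0x0,
nat_lit 0x0,
nat_lit 0x0,
nat_lit 0x0,
nat_lit 0x0,
nat_lit 0x0,
nat_lit 0x0,
nat_lit 0x0,
nat_lit 0x0,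
nat_lit 0x0,
nat_lit 0x0,
nat_lit 0x0,
nat_lit 0x0,
nat_lit 0x0,
nat_lit 0x0,
nat_lit 0x0,
nat_lit 0x0,
nat_lit 0x0,
nat_lit 0x0,
nat_lit 0x0,
nat_lit 0x0,
nat_lit 0x0,
nat_lit 0x0,
nat_lit 0x0,
nat_lit 0x0,
nat_lit 0x0,
nat_lit 0x0,
nat_lit 0x0,
nat_lit 0x0,
nat_lit 0x0,
nat_lit 0x0,
nat_lit 0x0,
nat_lit 0x0,
nat_lit 0x0,
nat_lit 0x0,
nat_lit 0x0,
nat_lit 0x0,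
nat_lit 0x0,
nat_lit 0x0,
nat_lit 0x0,
nat_lit 0x0,
nat_lit 0x0,
nat_lit 0x0,
nat_lit 0x0,
nat_lit 0x0,
nat_lit 0x0,
nat_lit 0x0,
nat_lit 0x0,
nat_lit 0x0,
nat_lit 0x0,
nat_lit 0x0,
nat_lit 0x0,
nat_lit 0x0,
nat_lit 0x0,
nat_lit 0x0,
nat_lit 0x0,
nat_lit 0x0,
nat_lit 0x0,
nat_lit 0x0,
nat_lit 0x0,
nat_lit 0x0,
nat_lit 0x0,
nat_lit 0x0,
nat_lit 0x0,
nat_lit 0x0,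
nat_lit 0x0,
nat_lit 0x0,
nat_lit 0x0,
nat_lit 0x0,
nat_lit 0x0,
nat_lit 0x0,
nat_lit 0x0,
nat_lit 0x0,
nat_lit 0x0,
nat_lit 0x0,
nat_lit 0x0,
nat_lit 0x0,
nat_lit 0x0,
nat_lit 0x0,
nat_lit 0x0,
nat_lit 0x0,
nat_lit 0x0,
nat_lit 0x0,
nat_lit 0x0,
nat_lit 0x0,
nat_lit 0x0,
nat_lit 0x0,
nat_lit 0x0,
nat_lit 0x0,
nat_lit 0x0]

theorem facts_ok16896 : checkFacts facts 18364758544493064720 words 128 subs 49982 items16896 16896 = true := by decide +kernel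

noncomputable def items17408 : List ℕ := [
nat_lit 0x0,
nat_lit 0x0,
nat_lit 0x0,
nat_lit 0x0,
nat_lit 0x0,
nat_lit 0x0,
nat_lit 0x0,
nat_lit 0x0,
nat_lit 0x0,
nat_lit 0x0,
nat_lit 0x0,
nat_lit 0x0,
nat_lit 0x0,
nat_lit 0x0,
nat_lit 0x0,
nat_lit 0x0,
nat_lit 0x0,
nat_lit 0x0,
nat_lit 0x0,
nat_lit 0x0,
nat_lit 0x0,
nat_lit 0x0,
nat_lit 0x0,
nat_lit 0x0,
nat_lit 0x0,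
nat_lit 0x0,
nat_lit 0x0,
nat_lit 0x0,
nat_lit 0x0,
nat_lit 0x0,
nat_lit 0x0,
nat_lit 0x0,
nat_lit 0x0,
nat_lit 0x0,
nat_lit 0x0,
nat_lit 0x0,
nat_lit 0x0,
nat_lit 0x0,
nat_lit 0x0,
nat_lit 0x0,
nat_lit 0x0,
nat_lit 0x0,
nat_lit 0x0,
nat_lit 0x0,
nat_lit 0x0,
nat_lit 0x0,
nat_lit 0x0,
nat_lit 0x0,
nat_lit 0x0,
nat_lit 0x0,
nat_lit 0x0,
nat_lit 0x0,
nat_lit 0x0,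
nat_lit 0x0,
nat_lit 0x0,
nat_lit 0x0,
nat_lit 0x0,
nat_lit 0x0,
nat_lit 0x0,
nat_lit 0x0,
nat_lit 0x0,
nat_lit 0x0,
nat_lit 0x0,
nat_lit 0x0,
nat_lit 0x0,
nat_lit 0x0,
nat_lit 0x0,
nat_lit 0x0,
nat_lit 0x0,
nat_lit 0x0,
nat_lit 0x0,
nat_lit 0x0,
nat_lit 0x0,
nat_lit 0x0,
nat_lit 0x0,
nat_lit 0x0,
nat_lit 0x0,
nat_lit 0x0,
nat_lit 0x0,
nat_lit 0x0,
nat_lit 0x0,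
nat_lit 0x0,
nat_lit 0x0,
nat_lit 0x0,
nat_lit 0x0,
nat_lit 0x0,
nat_lit 0x0,
nat_lit 0x0,
nat_lit 0x0,
nat_lit 0x0,
nat_lit 0x0,
nat_lit 0x0,
nat_lit 0x0,
nat_lit 0x0,
nat_lit 0x0,
nat_lit 0x0,
nat_lit 0x0,
nat_lit 0x0,
nat_lit 0x0,
nat_lit 0x0,
nat_lit 0x0,
nat_lit 0x0,
nat_lit 0x0,
nat_lit 0x0,
nat_lit 0x0,
nat_lit 0x0,
nat_lit 0x0,
nat_lit 0x0,
nat_lit 0x0,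
nat_lit 0x0,
nat_lit 0x0,
nat_lit 0x0,
nat_lit 0x0,
nat_lit 0x0,
nat_lit 0x0,
nat_lit 0x0,
nat_lit 0x0,
nat_lit 0x0,
nat_lit 0x0,
nat_lit 0x0,
nat_lit 0x0,
nat_lit 0x0,
nat_lit 0x0,
nat_lit 0x0,
nat_lit 0x0,
nat_lit 0x0,
nat_lit 0x0,
nat_lit 0x0,
nat_lit 0x0,
nat_lit 0x0,
nat_lit 0x0,
nat_lit 0x0,
nat_lit 0x0,
nat_lit 0x0,
nat_lit 0x0,
nat_lit 0x0,
nat_lit 0x0,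
nat_lit 0x0,
nat_lit 0x0,
nat_lit 0x0,
nat_lit 0x0,
nat_lit 0x0,
nat_lit 0x0,
nat_lit 0x0,
nat_lit 0x0,
nat_lit 0x0,
nat_lit 0x0,
nat_lit 0x0,
nat_lit 0x0,
nat_lit 0x0,
nat_lit 0x0,
nat_lit 0x0,
nat_lit 0x0,
nat_lit 0x0,
nat_lit 0x0,
nat_lit 0x0,
nat_lit 0x0,
nat_lit 0x0,
nat_lit 0x0,
nat_lit 0x0,
nat_lit 0x0,
nat_lit 0x0,
nat_lit 0x0,
nat_lit 0x0,
nat_lit 0x0,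
nat_lit 0x0,
nat_lit 0x0,
nat_lit 0x0,
nat_lit 0x0,
nat_lit 0x0,
nat_lit 0x0,
nat_lit 0x0,
nat_lit 0x0,
nat_lit 0x0,
nat_lit 0x0,
nat_lit 0x0,
nat_lit 0x0,
nat_lit 0x0,
nat_lit 0x0,
nat_lit 0x0,
nat_lit 0x0,
nat_lit 0x0,
nat_lit 0x0,
nat_lit 0x0,
nat_lit 0x0,
nat_lit 0x0,
nat_lit 0x0,
nat_lit 0x0,
nat_lit 0x0,
nat_lit 0x0,
nat_lit 0x0,
nat_lit 0x0,
nat_lit 0x0,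
nat_lit 0x0,
nat_lit 0x0,
nat_lit 0x0,
nat_lit 0x0,
nat_lit 0x0,
nat_lit 0x0,
nat_lit 0x0,
nat_lit 0x0,
nat_lit 0x0,
nat_lit 0x0,
nat_lit 0x0,
nat_lit 0x0,
nat_lit 0x0,
nat_lit 0x0,
nat_lit 0x0,
nat_lit 0x0,
nat_lit 0x0,
nat_lit 0x0,
nat_lit 0x0,
nat_lit 0x0,
nat_lit 0x0,
nat_lit 0x0,
nat_lit 0x0,
nat_lit 0x0,
nat_lit 0x0,
nat_lit 0x0,
nat_lit 0x0,
nat_lit 0x0,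
nat_lit 0x0,
nat_lit 0x0,
nat_lit 0x0,
nat_lit 0x0,
nat_lit 0x0,
nat_lit 0x0,
nat_lit 0x0,
nat_lit 0x0,
nat_lit 0x0,
nat_lit 0x0,
nat_lit 0x0,
nat_lit 0x0,
nat_lit 0x0,
nat_lit 0x0,
nat_lit 0x0,
nat_lit 0x0,
nat_lit 0x0,
nat_lit 0x0,
nat_lit 0x0,
nat_lit 0x0,
nat_lit 0x0,
nat_lit 0x0,
nat_lit 0x0,
nat_lit 0x0,
nat_lit 0x0,
nat_lit 0x0,
nat_lit 0x0,
nat_lit 0x0,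
nat_lit 0x0,
nat_lit 0x0,
nat_lit 0x0,
nat_lit 0x0,
nat_lit 0x0,
nat_lit 0x0,
nat_lit 0x0,
nat_lit 0x0,
nat_lit 0x0,
nat_lit 0x0,
nat_lit 0x0,
nat_lit 0x0,
nat_lit 0x0,
nat_lit 0x0,
nat_lit 0x0,
nat_lit 0x0,
nat_lit 0x0,
nat_lit 0x0,
nat_lit 0x0,
nat_lit 0x0,
nat_lit 0x0,
nat_lit 0x0,
nat_lit 0x0,
nat_lit 0x0,
nat_lit 0x0,
nat_lit 0x0,
nat_lit 0x0,
nat_lit 0x0,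
nat_lit 0x0,
nat_lit 0x0,
nat_lit 0x0,
nat_lit 0x0,
nat_lit 0x0,
nat_lit 0x0,
nat_lit 0x0,
nat_lit 0x0,
nat_lit 0x0,
nat_lit 0x0,
nat_lit 0x0,
nat_lit 0x0,
nat_lit 0x0,
nat_lit 0x0,
nat_lit 0x0,
nat_lit 0x0,
nat_lit 0x0,
nat_lit 0x0,
nat_lit 0x0,
nat_lit 0x0,
nat_lit 0x0,
nat_lit 0x0,
nat_lit 0x0,
nat_lit 0x0,
nat_lit 0x0,
nat_lit 0x0,
nat_lit 0x0,
nat_lit 0x0,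
nat_lit 0x0,
nat_lit 0x0,
nat_lit 0x0,
nat_lit 0x0,
nat_lit 0x0,
nat_lit 0x0,
nat_lit 0x0,
nat_lit 0x0,
nat_lit 0x0,
nat_lit 0x0,
nat_lit 0x0,
nat_lit 0x0,
nat_lit 0x0,
nat_lit 0x0,
nat_lit 0x0,
nat_lit 0x0,
nat_lit 0x0,
nat_lit 0x0,
nat_lit 0x0,
nat_lit 0x0,
nat_lit 0x0,
nat_lit 0x0,
nat_lit 0x0,
nat_lit 0x0,
nat_lit 0x0,
nat_lit 0x0,
nat_lit 0x0,
nat_lit 0x0,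
nat_lit 0x0,
nat_lit 0x0,
nat_lit 0x0,
nat_lit 0x0,
nat_lit 0x0,
nat_lit 0x0,
nat_lit 0x0,
nat_lit 0x0,
nat_lit 0x0,
nat_lit 0x0,
nat_lit 0x0,
nat_lit 0x0,
nat_lit 0x0,
nat_lit 0x0,
nat_lit 0x0,
nat_lit 0x0,
nat_lit 0x0,
nat_lit 0x0,
nat_lit 0x0,
nat_lit 0x0,
nat_lit 0x0,
nat_lit 0x0,
nat_lit 0x0,
nat_lit 0x0,
nat_lit 0x0,
nat_lit 0x0,
nat_lit 0x0,
nat_lit 0x0,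
nat_lit 0x0,
nat_lit 0x0,
nat_lit 0x0,
nat_lit 0x0,
nat_lit 0x0,
nat_lit 0x0,
nat_lit 0x0,
nat_lit 0x0,
nat_lit 0x0,
nat_lit 0x0,
nat_lit 0x0,
nat_lit 0x0,
nat_lit 0x0,
nat_lit 0x0,
nat_lit 0x0,
nat_lit 0x0,
nat_lit 0x0,
nat_lit 0x0,
nat_lit 0x0,
nat_lit 0x0,
nat_lit 0x0,
nat_lit 0x0,
nat_lit 0x0,
nat_lit 0x0,
nat_lit 0x0,
nat_lit 0x0,
nat_lit 0x0,
nat_lit 0x0,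
nat_lit 0x0,
nat_lit 0x0,
nat_lit 0x0,
nat_lit 0x0,
nat_lit 0x0,
nat_lit 0x0,
nat_lit 0x0,
nat_lit 0x0,
nat_lit 0x0,
nat_lit 0x0,
nat_lit 0x0,
nat_lit 0x0,
nat_lit 0x0,
nat_lit 0x0,
nat_lit 0x0,
nat_lit 0x0,
nat_lit 0x0,
nat_lit 0x0,
nat_lit 0x0,
nat_lit 0x0,
nat_lit 0x0,
nat_lit 0x0,
nat_lit 0x0,
nat_lit 0x0,
nat_lit 0x0,
nat_lit 0x0,
nat_lit 0x0,
nat_lit 0x0,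
nat_lit 0x0,
nat_lit 0x0,
nat_lit 0x0,
nat_lit 0x0,
nat_lit 0x0,
nat_lit 0x0,
nat_lit 0x0,
nat_lit 0x0,
nat_lit 0x0,
nat_lit 0x0,
nat_lit 0x0,
nat_lit 0x0,
nat_lit 0x0,
nat_lit 0x0,
nat_lit 0x0,
nat_lit 0x0,
nat_lit 0x0,
nat_lit 0x0,
nat_lit 0x0,
nat_lit 0x0,
nat_lit 0x0,
nat_lit 0x0,
nat_lit 0x0,
nat_lit 0x0,
nat_lit 0x0,
nat_lit 0x0,
nat_lit 0x0,
nat_lit 0x0,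
nat_lit 0x0,
nat_lit 0x0,
nat_lit 0x0,
nat_lit 0x0,
nat_lit 0x0,
nat_lit 0x0,
nat_lit 0x0,
nat_lit 0x0,
nat_lit 0x0,
nat_lit 0x0,
nat_lit 0x0,
nat_lit 0x0,
nat_lit 0x0,
nat_lit 0x0,
nat_lit 0x0,
nat_lit 0x0,
nat_lit 0x0,
nat_lit 0x0,
nat_lit 0x0,
nat_lit 0x0,
nat_lit 0x0,
nat_lit 0x0,
nat_lit 0x0,
nat_lit 0x0,
nat_lit 0x0,
nat_lit 0x0,
nat_lit 0x0,
nat_lit 0x0,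
nat_lit 0x0,
nat_lit 0x0,
nat_lit 0x0,
nat_lit 0x0,
nat_lit 0x0,
nat_lit 0x0,
nat_lit 0x0,
nat_lit 0x0,
nat_lit 0x0,
nat_lit 0x0,
nat_lit 0x0,
nat_lit 0x0,
nat_lit 0x0,
nat_lit 0x0,
nat_lit 0x0,
nat_lit 0x0,
nat_lit 0x0,
nat_lit 0x0,
nat_lit 0x0,
nat_lit 0x0,
nat_lit 0x0,
nat_lit 0x0,
nat_lit 0x0,
nat_lit 0x0,
nat_lit 0x0,
nat_lit 0x0,
nat_lit 0x0,
nat_lit 0x0,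
nat_lit 0x0,
nat_lit 0x0,
nat_lit 0x0,
nat_lit 0x0,
nat_lit 0x0,
nat_lit 0x0,
nat_lit 0x0,
nat_lit 0x0,
nat_lit 0x0,
nat_lit 0x0,
nat_lit 0x0]

theorem facts_ok17408 : checkFacts facts 18364758544493064720 words 128 subs 49982 items17408 17408 = true := by decide +kernel

noncomputable def items17920 : List ℕ := [
nat_lit 0x0,
nat_lit 0x0,
nat_lit 0x0,
nat_lit 0x0,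
nat_lit 0x0,
nat_lit 0x0,
nat_lit 0x0,
nat_lit 0x0,
nat_lit 0x0,
nat_lit 0x0,
nat_lit 0x0,
nat_lit 0x0,
nat_lit 0x0,
nat_lit 0x0,
nat_lit 0x0,
nat_lit 0x0,
nat_lit 0x0,
nat_lit 0x0,
nat_lit 0x0,
nat_lit 0x0,
nat_lit 0x0,
nat_lit 0x0,
nat_lit 0x0,
nat_lit 0x0,
nat_lit 0x0,
nat_lit 0x0,
nat_lit 0x0,
nat_lit 0x0,
nat_lit 0x0,
nat_lit 0x0,
nat_lit 0x0,
nat_lit 0x0,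
nat_lit 0x0,
nat_lit 0x0,
nat_lit 0x0,
nat_lit 0x0,
nat_lit 0x0,
nat_lit 0x0,
nat_lit 0x0,
nat_lit 0x0,
nat_lit 0x0,
nat_lit 0x0,
nat_lit 0x0,
nat_lit 0x0,
nat_lit 0x0,
nat_lit 0x0,
nat_lit 0x0,
nat_lit 0x0,
nat_lit 0x0,
nat_lit 0x0,
nat_lit 0x0,
nat_lit 0x0,
nat_lit 0x0,
nat_lit 0x0,
nat_lit 0x0,
nat_lit 0x0,
nat_lit 0x0,
nat_lit 0x0,
nat_lit 0x0,
nat_lit 0x0,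
nat_lit 0x0,
nat_lit 0x0,
nat_lit 0x0,
nat_lit 0x0,
nat_lit 0x0,
nat_lit 0x0,
nat_lit 0x0,
nat_lit 0x0,
nat_lit 0x0,
nat_lit 0x0,
nat_lit 0x0,
nat_lit 0x0,
nat_lit 0x0,
nat_lit 0x0,
nat_lit 0x0,
nat_lit 0x0,
nat_lit 0x0,
nat_lit 0x0,
nat_lit 0x0,
nat_lit 0x0,
nat_lit 0x0,
nat_lit 0x0,
nat_lit 0x0,
nat_lit 0x0,
nat_lit 0x0,
nat_lit 0x0,
nat_lit 0x0,
nat_lit 0x0,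
nat_lit 0x0,
nat_lit 0x0,
nat_lit 0x0,
nat_lit 0x0,
nat_lit 0x0,
nat_lit 0x0,
nat_lit 0x0,
nat_lit 0x0,
nat_lit 0x0,
nat_lit 0x0,
nat_lit 0x0,
nat_lit 0x0,
nat_lit 0x0,
nat_lit 0x0,
nat_lit 0x0,
nat_lit 0x0,
nat_lit 0x0,
nat_lit 0x0,
nat_lit 0x0,
nat_lit 0x0,
nat_lit 0x0,
nat_lit 0x0,
nat_lit 0x0,
nat_lit 0x0,
nat_lit 0x0,
nat_lit 0x0,
nat_lit 0x0,
nat_lit 0x0,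
nat_lit 0x0,
nat_lit 0x0,
nat_lit 0x0,
nat_lit 0x0,
nat_lit 0x0,
nat_lit 0x0,
nat_lit 0x0,
nat_lit 0x0,
nat_lit 0x0,
nat_lit 0x0,
nat_lit 0x0,
nat_lit 0x0,
nat_lit 0x0,
nat_lit 0x0,
nat_lit 0x0,
nat_lit 0x0,
nat_lit 0x0,
nat_lit 0x0,
nat_lit 0x0,
nat_lit 0x0,
nat_lit 0x0,
nat_lit 0x0,
nat_lit 0x0,
nat_lit 0x0,
nat_lit 0x0,
nat_lit 0x0,
nat_lit 0x0,
nat_lit 0x0,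
nat_lit 0x0,
nat_lit 0x0,
nat_lit 0x0,
nat_lit 0x0,
nat_lit 0x0,
nat_lit 0x0,
nat_lit 0x0,
nat_lit 0x0,
nat_lit 0x0,
nat_lit 0x0,
nat_lit 0x0,
nat_lit 0x0,
nat_lit 0x0,
nat_lit 0x0,
nat_lit 0x0,
nat_lit 0x0,
nat_lit 0x0,
nat_lit 0x0,
nat_lit 0x0,
nat_lit 0x0,
nat_lit 0x0,
nat_lit 0x0,
nat_lit 0x0,
nat_lit 0x0,
nat_lit 0x0,
nat_lit 0x0,
nat_lit 0x0,
nat_lit 0x0,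
nat_lit 0x0,
nat_lit 0x0,
nat_lit 0x0,
nat_lit 0x0,
nat_lit 0x0,
nat_lit 0x0,
nat_lit 0x0,
nat_lit 0x0,
nat_lit 0x0,
nat_lit 0x0,
nat_lit 0x0,
nat_lit 0x0,
nat_lit 0x0,
nat_lit 0x0,
nat_lit 0x0,
nat_lit 0x0,
nat_lit 0x0,
nat_lit 0x0,
nat_lit 0x0,
nat_lit 0x0,
nat_lit 0x0,
nat_lit 0x0,
nat_lit 0x0,
nat_lit 0x0,
nat_lit 0x0,
nat_lit 0x0,
nat_lit 0x0,
nat_lit 0x0,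
nat_lit 0x0,
nat_lit 0x0,
nat_lit 0x0,
nat_lit 0x0,
nat_lit 0x0,
nat_lit 0x0,
nat_lit 0x0,
nat_lit 0x0,
nat_lit 0x0,
nat_lit 0x0,
nat_lit 0x0,
nat_lit 0x0,
nat_lit 0x0,
nat_lit 0x0,
nat_lit 0x0,
nat_lit 0x0,
nat_lit 0x0,
nat_lit 0x0,
nat_lit 0x0,
nat_lit 0x0,
nat_lit 0x0,
nat_lit 0x0,
nat_lit 0x0,
nat_lit 0x0,
nat_lit 0x0,
nat_lit 0x0,
nat_lit 0x0,
nat_lit 0x0,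
nat_lit 0x0,
nat_lit 0x0,
nat_lit 0x0,
nat_lit 0x0,
nat_lit 0x0,
nat_lit 0x0,
nat_lit 0x0,
nat_lit 0x0,
nat_lit 0x0,
nat_lit 0x0,
nat_lit 0x0,
nat_lit 0x0,
nat_lit 0x0,
nat_lit 0x0,
nat_lit 0x0,
nat_lit 0x0,
nat_lit 0x0,
nat_lit 0x0,
nat_lit 0x0,
nat_lit 0x0,
nat_lit 0x0,
nat_lit 0x0,
nat_lit 0x0,
nat_lit 0x0,
nat_lit 0x0,
nat_lit 0x0,
nat_lit 0x0,
nat_lit 0x0,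
nat_lit 0x0,
nat_lit 0x0,
nat_lit 0x0,
nat_lit 0x0,
nat_lit 0x0,
nat_lit 0x0,
nat_lit 0x0,
nat_lit 0x0,
nat_lit 0x0,
nat_lit 0x0,
nat_lit 0x0,
nat_lit 0x0,
nat_lit 0x0,
nat_lit 0x0,
nat_lit 0x0,
nat_lit 0x0,
nat_lit 0x0,
nat_lit 0x0,
nat_lit 0x0,
nat_lit 0x0,
nat_lit 0x0,
nat_lit 0x0,
nat_lit 0x0,
nat_lit 0x0,
nat_lit 0x0,
nat_lit 0x0,
nat_lit 0x0,
nat_lit 0x0,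
nat_lit 0x0,
nat_lit 0x0,
nat_lit 0x0,
nat_lit 0x0,
nat_lit 0x0,
nat_lit 0x0,
nat_lit 0x0,
nat_lit 0x0,
nat_lit 0x0,
nat_lit 0x0,
nat_lit 0x0,
nat_lit 0x0,
nat_lit 0x0,
nat_lit 0x0,
nat_lit 0x0,
nat_lit 0x0,
nat_lit 0x0,
nat_lit 0x0,
nat_lit 0x0,
nat_lit 0x0,
nat_lit 0x0,
nat_lit 0x0,
nat_lit 0x0,
nat_lit 0x0,
nat_lit 0x0,
nat_lit 0x0,
nat_lit 0x0,
nat_lit 0x0,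
nat_lit 0x0,
nat_lit 0x0,
nat_lit 0x0,
nat_lit 0x0,
nat_lit 0x0,
nat_lit 0x0,
nat_lit 0x0,
nat_lit 0x0,
nat_lit 0x0,
nat_lit 0x0,
nat_lit 0x0,
nat_lit 0x0,
nat_lit 0x0,
nat_lit 0x0,
nat_lit 0x0,
nat_lit 0x0,
nat_lit 0x0,
nat_lit 0x0,
nat_lit 0x0,
nat_lit 0x0,
nat_lit 0x0,
nat_lit 0x0,
nat_lit 0x0,
nat_lit 0x0,
nat_lit 0x0,
nat_lit 0x0,
nat_lit 0x0,
nat_lit 0x0,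
nat_lit 0x0,
nat_lit 0x0,
nat_lit 0x0,
nat_lit 0x0,
nat_lit 0x0,
nat_lit 0x0,
nat_lit 0x0,
nat_lit 0x0,
nat_lit 0x0,
nat_lit 0x0,
nat_lit 0x0,
nat_lit 0x0,
nat_lit 0x0,
nat_lit 0x0,
nat_lit 0x0,
nat_lit 0x0,
nat_lit 0x0,
nat_lit 0x0,
nat_lit 0x0,
nat_lit 0x0,
nat_lit 0x0,
nat_lit 0x0,
nat_lit 0x0,
nat_lit 0x0,
nat_lit 0x0,
nat_lit 0x0,
nat_lit 0x0,
nat_lit 0x0,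
nat_lit 0x0,
nat_lit 0x0,
nat_lit 0x0,
nat_lit 0x0,
nat_lit 0x0,
nat_lit 0x0,
nat_lit 0x0,
nat_lit 0x0,
nat_lit 0x0,
nat_lit 0x0,
nat_lit 0x0,
nat_lit 0x0,
nat_lit 0x0,
nat_lit 0x0,
nat_lit 0x0,
nat_lit 0x0,
nat_lit 0x0,
nat_lit 0x0,
nat_lit 0x0,
nat_lit 0x0,
nat_lit 0x0,
nat_lit 0x0,
nat_lit 0x0,
nat_lit 0x0,
nat_lit 0x0,
nat_lit 0x0,
nat_lit 0x0,
nat_lit 0x0,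
nat_lit 0x0,
nat_lit 0x0,
nat_lit 0x0,
nat_lit 0x0,
nat_lit 0x0,
nat_lit 0x0,
nat_lit 0x0,
nat_lit 0x0,
nat_lit 0x0,
nat_lit 0x0,
nat_lit 0x0,
nat_lit 0x0,
nat_lit 0x0,
nat_lit 0x0,
nat_lit 0x0,
nat_lit 0x0,
nat_lit 0x0,
nat_lit 0x0,
nat_lit 0x0,
nat_lit 0x0,
nat_lit 0x0,
nat_lit 0x0,
nat_lit 0x0,
nat_lit 0x0,
nat_lit 0x0,
nat_lit 0x0,
nat_lit 0x0,
nat_lit 0x0,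
nat_lit 0x0,
nat_lit 0x0,
nat_lit 0x0,
nat_lit 0x0,
nat_lit 0x0,
nat_lit 0x0,
nat_lit 0x0,
nat_lit 0x0,
nat_lit 0x0,
nat_lit 0x0,
nat_lit 0x0,
nat_lit 0x0,
nat_lit 0x0,
nat_lit 0x0,
nat_lit 0x0,
nat_lit 0x0,
nat_lit 0x0,
nat_lit 0x0,
nat_lit 0x0,
nat_lit 0x0,
nat_lit 0x0,
nat_lit 0x0,
nat_lit 0x0,
nat_lit 0x0,
nat_lit 0x0,
nat_lit 0x0,
nat_lit 0x0,
nat_lit 0x0,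
nat_lit 0x0,
nat_lit 0x0,
nat_lit 0x0,
nat_lit 0x0,
nat_lit 0x0,
nat_lit 0x0,
nat_lit 0x0,
nat_lit 0x0,
nat_lit 0x0,
nat_lit 0x0,
nat_lit 0x0,
nat_lit 0x0,
nat_lit 0x0,
nat_lit 0x0,
nat_lit 0x0,
nat_lit 0x0,
nat_lit 0x0,
nat_lit 0x0,
nat_lit 0x0,
nat_lit 0x0,
nat_lit 0x0,
nat_lit 0x0,
nat_lit 0x0,
nat_lit 0x0,
nat_lit 0x0,
nat_lit 0x0,
nat_lit 0x0,
nat_lit 0x0,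
nat_lit 0x0,
nat_lit 0x0,
nat_lit 0x0,
nat_lit 0x0,
nat_lit 0x0,
nat_lit 0x0,
nat_lit 0x0,
nat_lit 0x0,
nat_lit 0x0,
nat_lit 0x0,
nat_lit 0x0,
nat_lit 0x0,
nat_lit 0x0,
nat_lit 0x0,
nat_lit 0x0,
nat_lit 0x0,
nat_lit 0x0,
nat_lit 0x0,
nat_lit 0x0,
nat_lit 0x0,
nat_lit 0x0,
nat_lit 0x0,
nat_lit 0x0,
nat_lit 0x0,
nat_lit 0x0,
nat_lit 0x0,
nat_lit 0x0,
nat_lit 0x0,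
nat_lit 0x0,
nat_lit 0x0,
nat_lit 0x0,
nat_lit 0x0]

theorem facts_ok17920 : checkFacts facts 18364758544493064720 words 128 subs 49982 items17920 17920 = true := by decide +kernel

noncomputable def items18432 : List ℕ := [
nat_lit 0x0,
nat_lit 0x0,
nat_lit 0x0,
nat_lit 0x0,
nat_lit 0x0,
nat_lit 0x0,
nat_lit 0x0,
nat_lit 0x0,
nat_lit 0x0,
nat_lit 0x0,
nat_lit 0x0,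
nat_lit 0x0,
nat_lit 0x0,
nat_lit 0x0,
nat_lit 0x0,
nat_lit 0x0,
nat_lit 0x0,
nat_lit 0x0,
nat_lit 0x0,
nat_lit 0x0,
nat_lit 0x0,
nat_lit 0x0,
nat_lit 0x0,
nat_lit 0x0,
nat_lit 0x0,
nat_lit 0x0,
nat_lit 0x0,
nat_lit 0x0,
nat_lit 0x0,
nat_lit 0x0,
nat_lit 0x0,
nat_lit 0x0,
nat_lit 0x0,
nat_lit 0x0,
nat_lit 0x0,
nat_lit 0x0,
nat_lit 0x0,
nat_lit 0x0,
nat_lit 0x0,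
nat_lit 0x0,
nat_lit 0x0,
nat_lit 0x0,
nat_lit 0x0,
nat_lit 0x0,
nat_lit 0x0,
nat_lit 0x0,
nat_lit 0x0,
nat_lit 0x0,
nat_lit 0x0,
nat_lit 0x0,
nat_lit 0x0,
nat_lit 0x0,
nat_lit 0x0,
nat_lit 0x0,
nat_lit 0x0,
nat_lit 0x0,
nat_lit 0x0,
nat_lit 0x0,
nat_lit 0x0,
nat_lit 0x0,
nat_lit 0x0,
nat_lit 0x0,
nat_lit 0x0,
nat_lit 0x0,
nat_lit 0x0,
nat_lit 0x0,
nat_lit 0x0,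
nat_lit 0x0,
nat_lit 0x0,
nat_lit 0x0,
nat_lit 0x0,
nat_lit 0x0,
nat_lit 0x0,
nat_lit 0x0,
nat_lit 0x0,
nat_lit 0x0,
nat_lit 0x0,
nat_lit 0x0,
nat_lit 0x0,
nat_lit 0x0,
nat_lit 0x0,
nat_lit 0x0,
nat_lit 0x0,
nat_lit 0x0,
nat_lit 0x0,
nat_lit 0x0,
nat_lit 0x0,
nat_lit 0x0,
nat_lit 0x0,
nat_lit 0x0,
nat_lit 0x0,
nat_lit 0x0,
nat_lit 0x0,
nat_lit 0x0,
nat_lit 0x0,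
nat_lit 0x0,
nat_lit 0x0,
nat_lit 0x0,
nat_lit 0x0,
nat_lit 0x0,
nat_lit 0x0,
nat_lit 0x0,
nat_lit 0x0,
nat_lit 0x0,
nat_lit 0x0,
nat_lit 0x0,
nat_lit 0x0,
nat_lit 0x0,
nat_lit 0x0,
nat_lit 0x0,
nat_lit 0x0,
nat_lit 0x0,
nat_lit 0x0,
nat_lit 0x0,
nat_lit 0x0,
nat_lit 0x0,
nat_lit 0x0,
nat_lit 0x0,
nat_lit 0x0,
nat_lit 0x0,
nat_lit 0x0,
nat_lit 0x0,
nat_lit 0x0,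
nat_lit 0x0,
nat_lit 0x0,
nat_lit 0x0,
nat_lit 0x0,
nat_lit 0x0,
nat_lit 0x0,
nat_lit 0x0,
nat_lit 0x0,
nat_lit 0x0,
nat_lit 0x0,
nat_lit 0x0,
nat_lit 0x0,
nat_lit 0x0,
nat_lit 0x0,
nat_lit 0x0,
nat_lit 0x0,
nat_lit 0x0,
nat_lit 0x0,
nat_lit 0x0,
nat_lit 0x0,
nat_lit 0x0,
nat_lit 0x0,
nat_lit 0x0,
nat_lit 0x0,
nat_lit 0x0,
nat_lit 0x0,
nat_lit 0x0,
nat_lit 0x0,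
nat_lit 0x0,
nat_lit 0x0,
nat_lit 0x0,
nat_lit 0x0,
nat_lit 0x0,
nat_lit 0x0,
nat_lit 0x0,
nat_lit 0x0,
nat_lit 0x0,
nat_lit 0x0,
nat_lit 0x0,
nat_lit 0x0,
nat_lit 0x0,
nat_lit 0x0,
nat_lit 0x0,
nat_lit 0x0,
nat_lit 0x0,
nat_lit 0x0,
nat_lit 0x0,
nat_lit 0x0,
nat_lit 0x0,
nat_lit 0x0,
nat_lit 0x0,
nat_lit 0x0,
nat_lit 0x0,
nat_lit 0x0,
nat_lit 0x0,
nat_lit 0x0,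
nat_lit 0x0,
nat_lit 0x0,
nat_lit 0x0,
nat_lit 0x0,
nat_lit 0x0,
nat_lit 0x0,
nat_lit 0x0,
nat_lit 0x0,
nat_lit 0x0,
nat_lit 0x0,
nat_lit 0x0,
nat_lit 0x0,
nat_lit 0x0,
nat_lit 0x0,
nat_lit 0x0,
nat_lit 0x0,
nat_lit 0x0,
nat_lit 0x0,
nat_lit 0x0,
nat_lit 0x0,
nat_lit 0x0,
nat_lit 0x0,
nat_lit 0x0,
nat_lit 0x0,
nat_lit 0x0,
nat_lit 0x0,
nat_lit 0x0,
nat_lit 0x0,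
nat_lit 0x0,
nat_lit 0x0,
nat_lit 0x0,
nat_lit 0x0,
nat_lit 0x0,
nat_lit 0x0,
nat_lit 0x0,
nat_lit 0x0,
nat_lit 0x0,
nat_lit 0x0,
nat_lit 0x0,
nat_lit 0x0,
nat_lit 0x0,
nat_lit 0x0,
nat_lit 0x0,
nat_lit 0x0,
nat_lit 0x0,
nat_lit 0x0,
nat_lit 0x0,
nat_lit 0x0,
nat_lit 0x0,
nat_lit 0x0,
nat_lit 0x0,
nat_lit 0x0,
nat_lit 0x0,
nat_lit 0x0,
nat_lit 0x0,
nat_lit 0x0,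
nat_lit 0x0,
nat_lit 0x0,
nat_lit 0x0,
nat_lit 0x0,
nat_lit 0x0,
nat_lit 0x0,
nat_lit 0x0,
nat_lit 0x0,
nat_lit 0x0,
nat_lit 0x0,
nat_lit 0x0,
nat_lit 0x0,
nat_lit 0x0,
nat_lit 0x0,
nat_lit 0x0,
nat_lit 0x0,
nat_lit 0x0,
nat_lit 0x0,
nat_lit 0x0,
nat_lit 0x0,
nat_lit 0x0,
nat_lit 0x0,
nat_lit 0x0,
nat_lit 0x0,
nat_lit 0x0,
nat_lit 0x0,
nat_lit 0x0,
nat_lit 0x0,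
nat_lit 0x0,
nat_lit 0x0,
nat_lit 0x0,
nat_lit 0x0,
nat_lit 0x0,
nat_lit 0x0,
nat_lit 0x0,
nat_lit 0x0,
nat_lit 0x0,
nat_lit 0x0,
nat_lit 0x0,
nat_lit 0x0,
nat_lit 0x0,
nat_lit 0x0,
nat_lit 0x0,
nat_lit 0x0,
nat_lit 0x0,
nat_lit 0x0,
nat_lit 0x0,
nat_lit 0x0,
nat_lit 0x0,
nat_lit 0x0,
nat_lit 0x0,
nat_lit 0x0,
nat_lit 0x0,
nat_lit 0x0,
nat_lit 0x0,
nat_lit 0x0,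
nat_lit 0x0,
nat_lit 0x0,
nat_lit 0x0,
nat_lit 0x0,
nat_lit 0x0,
nat_lit 0x0,
nat_lit 0x0,
nat_lit 0x0,
nat_lit 0x0,
nat_lit 0x0,
nat_lit 0x0,
nat_lit 0x0,
nat_lit 0x0,
nat_lit 0x0,
nat_lit 0x0,
nat_lit 0x0,
nat_lit 0x0,
nat_lit 0x0,
nat_lit 0x0,
nat_lit 0x0,
nat_lit 0x0,
nat_lit 0x0,
nat_lit 0x0,
nat_lit 0x0,
nat_lit 0x0,
nat_lit 0x0,
nat_lit 0x0,
nat_lit 0x0,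
nat_lit 0x0,
nat_lit 0x0,
nat_lit 0x0,
nat_lit 0x0,
nat_lit 0x0,
nat_lit 0x0,
nat_lit 0x0,
nat_lit 0x0,
nat_lit 0x0,
nat_lit 0x0,
nat_lit 0x0,
nat_lit 0x0,
nat_lit 0x0,
nat_lit 0x0,
nat_lit 0x0,
nat_lit 0x0,
nat_lit 0x0,
nat_lit 0x0,
nat_lit 0x0,
nat_lit 0x0,
nat_lit 0x0,
nat_lit 0x0,
nat_lit 0x0,
nat_lit 0x0,
nat_lit 0x0,
nat_lit 0x0,
nat_lit 0x0,
nat_lit 0x0,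
nat_lit 0x0,
nat_lit 0x0,
nat_lit 0x0,
nat_lit 0x0,
nat_lit 0x0,
nat_lit 0x0,
nat_lit 0x0,
nat_lit 0x0,
nat_lit 0x0,
nat_lit 0x0,
nat_lit 0x0,
nat_lit 0x0,
nat_lit 0x0,
nat_lit 0x0,
nat_lit 0x0,
nat_lit 0x0,
nat_lit 0x0,
nat_lit 0x0,
nat_lit 0x0,
nat_lit 0x0,
nat_lit 0x0,
nat_lit 0x0,
nat_lit 0x0,
nat_lit 0x0,
nat_lit 0x0,
nat_lit 0x0,
nat_lit 0x0,
nat_lit 0x0,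
nat_lit 0x0,
nat_lit 0x0,
nat_lit 0x0,
nat_lit 0x0,
nat_lit 0x0,
nat_lit 0x0,
nat_lit 0x0,
nat_lit 0x0,
nat_lit 0x0,
nat_lit 0x0,
nat_lit 0x0,
nat_lit 0x0,
nat_lit 0x0,
nat_lit 0x0,
nat_lit 0x0,
nat_lit 0x0,
nat_lit 0x0,
nat_lit 0x0,
nat_lit 0x0,
nat_lit 0x0,
nat_lit 0x0,
nat_lit 0x0,
nat_lit 0x0,
nat_lit 0x0,
nat_lit 0x0,
nat_lit 0x0,
nat_lit 0x0,
nat_lit 0x0,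
nat_lit 0x0,
nat_lit 0x0,
nat_lit 0x0,
nat_lit 0x0,
nat_lit 0x0,
nat_lit 0x0,
nat_lit 0x0,
nat_lit 0x0,
nat_lit 0x0,
nat_lit 0x0,
nat_lit 0x0,
nat_lit 0x0,
nat_lit 0x0,
nat_lit 0x0,
nat_lit 0x0,
nat_lit 0x0,
nat_lit 0x0,
nat_lit 0x0,
nat_lit 0x0,
nat_lit 0x0,
nat_lit 0x0,
nat_lit 0x0,
nat_lit 0x0,
nat_lit 0x0,
nat_lit 0x0,
nat_lit 0x0,
nat_lit 0x0,
nat_lit 0x0,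
nat_lit 0x0,
nat_lit 0x0,
nat_lit 0x0,
nat_lit 0x0,
nat_lit 0x0,
nat_lit 0x0,
nat_lit 0x0,
nat_lit 0x0,
nat_lit 0x0,
nat_lit 0x0,
nat_lit 0x0,
nat_lit 0x0,
nat_lit 0x0,
nat_lit 0x0,
nat_lit 0x0,
nat_lit 0x0,
nat_lit 0x0,
nat_lit 0x0,
nat_lit 0x0,
nat_lit 0x0,
nat_lit 0x0,
nat_lit 0x0,
nat_lit 0x0,
nat_lit 0x0,
nat_lit 0x0,
nat_lit 0x0,
nat_lit 0x0,
nat_lit 0x0,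
nat_lit 0x0,
nat_lit 0x0,
nat_lit 0x0,
nat_lit 0x0,
nat_lit 0x0,
nat_lit 0x0,
nat_lit 0x0,
nat_lit 0x0,
nat_lit 0x0,
nat_lit 0x0,
nat_lit 0x0,
nat_lit 0x0,
nat_lit 0x0,
nat_lit 0x0,
nat_lit 0x0,
nat_lit 0x0,
nat_lit 0x0,
nat_lit 0x0,
nat_lit 0x0,
nat_lit 0x0,
nat_lit 0x0,
nat_lit 0x0,
nat_lit 0x0,
nat_lit 0x0,
nat_lit 0x0,
nat_lit 0x0,
nat_lit 0x0,
nat_lit 0x0,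
nat_lit 0x0,
nat_lit 0x0,
nat_lit 0x0,
nat_lit 0x0,
nat_lit 0x0,
nat_lit 0x0,
nat_lit 0x0,
nat_lit 0x0,
nat_lit 0x0,
nat_lit 0x0,
nat_lit 0x0,
nat_lit 0x0,
nat_lit 0x0,
nat_lit 0x0,
nat_lit 0x0,
nat_lit 0x0,
nat_lit 0x0,
nat_lit 0x0,
nat_lit 0x0,
nat_lit 0x0,
nat_lit 0x0,
nat_lit 0x0,
nat_lit 0x0,
nat_lit 0x0,
nat_lit 0x0]

theorem facts_ok18432 : checkFacts facts 18364758544493064720 words 128 subs 49982 items18432 18432 = true := by decide +kernel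

noncomputable def items18944 : List ℕ := [
nat_lit 0x0,
nat_lit 0x0,
nat_lit 0x0,
nat_lit 0x0,
nat_lit 0x0,
nat_lit 0x0,
nat_lit 0x0,
nat_lit 0x0,
nat_lit 0x0,
nat_lit 0x0,
nat_lit 0x0,
nat_lit 0x0,
nat_lit 0x0,
nat_lit 0x0,
nat_lit 0x0,
nat_lit 0x0,
nat_lit 0x0,
nat_lit 0x0,
nat_lit 0x0,
nat_lit 0x0,
nat_lit 0x0,
nat_lit 0x0,
nat_lit 0x0,
nat_lit 0x0,
nat_lit 0x0,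
nat_lit 0x0,
nat_lit 0x0,
nat_lit 0x0,
nat_lit 0x0,
nat_lit 0x0,
nat_lit 0x0,
nat_lit 0x0,
nat_lit 0x0,
nat_lit 0x0,
nat_lit 0x0,
nat_lit 0x0,
nat_lit 0x0,
nat_lit 0x0,
nat_lit 0x0,
nat_lit 0x0,
nat_lit 0x0,
nat_lit 0x0,
nat_lit 0x0,
nat_lit 0x0,
nat_lit 0x0,
nat_lit 0x0,
nat_lit 0x0,
nat_lit 0x0,
nat_lit 0x0,
nat_lit 0x0,
nat_lit 0x0,
nat_lit 0x0,
nat_lit 0x0,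
nat_lit 0x0,
nat_lit 0x0,
nat_lit 0x0,
nat_lit 0x0,
nat_lit 0x0,
nat_lit 0x0,
nat_lit 0x0,
nat_lit 0x0,
nat_lit 0x0,
nat_lit 0x0,
nat_lit 0x0,
nat_lit 0x0,
nat_lit 0x0,
nat_lit 0x0,
nat_lit 0x0,
nat_lit 0x0,
nat_lit 0x0,
nat_lit 0x0,
nat_lit 0x0,
nat_lit 0x0,
nat_lit 0x0,
nat_lit 0x0,
nat_lit 0x0,
nat_lit 0x0,
nat_lit 0x0,
nat_lit 0x0,
nat_lit 0x0,
nat_lit 0x0,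
nat_lit 0x0,
nat_lit 0x0,
nat_lit 0x0,
nat_lit 0x0,
nat_lit 0x0,
nat_lit 0x0,
nat_lit 0x0,
nat_lit 0x0,
nat_lit 0x0,
nat_lit 0x0,
nat_lit 0x0,
nat_lit 0x0,
nat_lit 0x0,
nat_lit 0x0,
nat_lit 0x0,
nat_lit 0x0,
nat_lit 0x0,
nat_lit 0x0,
nat_lit 0x0,
nat_lit 0x0,
nat_lit 0x0,
nat_lit 0x0,
nat_lit 0x0,
nat_lit 0x0,
nat_lit 0x0,
nat_lit 0x0,
nat_lit 0x0,
nat_lit 0x0,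
nat_lit 0x0,
nat_lit 0x0,
nat_lit 0x0,
nat_lit 0x0,
nat_lit 0x0,
nat_lit 0x0,
nat_lit 0x0,
nat_lit 0x0,
nat_lit 0x0,
nat_lit 0x0,
nat_lit 0x0,
nat_lit 0x0,
nat_lit 0x0,
nat_lit 0x0,
nat_lit 0x0,
nat_lit 0x0,
nat_lit 0x0,
nat_lit 0x0,
nat_lit 0x0,
nat_lit 0x0,
nat_lit 0x0,
nat_lit 0x0,
nat_lit 0x0,
nat_lit 0x0,
nat_lit 0x0,
nat_lit 0x0,
nat_lit 0x0,
nat_lit 0x0,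
nat_lit 0x0,
nat_lit 0x0,
nat_lit 0x0,
nat_lit 0x0,
nat_lit 0x0,
nat_lit 0x0,
nat_lit 0x0,
nat_lit 0x0,
nat_lit 0x0,
nat_lit 0x0,
nat_lit 0x0,
nat_lit 0x0,
nat_lit 0x0,
nat_lit 0x0,
nat_lit 0x0,
nat_lit 0x0,
nat_lit 0x0,
nat_lit 0x0,
nat_lit 0x0,
nat_lit 0x0,
nat_lit 0x0,
nat_lit 0x0,
nat_lit 0x0,
nat_lit 0x0,
nat_lit 0x0,
nat_lit 0x0,
nat_lit 0x0,
nat_lit 0x0,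
nat_lit 0x0,
nat_lit 0x0,
nat_lit 0x0,
nat_lit 0x0,
nat_lit 0x0,
nat_lit 0x0,
nat_lit 0x0,
nat_lit 0x0,
nat_lit 0x0,
nat_lit 0x0,
nat_lit 0x0,
nat_lit 0x0,
nat_lit 0x0,
nat_lit 0x0,
nat_lit 0x0,
nat_lit 0x0,
nat_lit 0x0,
nat_lit 0x0,
nat_lit 0x0,
nat_lit 0x0,
nat_lit 0x0,
nat_lit 0x0,
nat_lit 0x0,
nat_lit 0x0,
nat_lit 0x0,
nat_lit 0x0,
nat_lit 0x0,
nat_lit 0x0,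
nat_lit 0x0,
nat_lit 0x0,
nat_lit 0x0,
nat_lit 0x0,
nat_lit 0x0,
nat_lit 0x0,
nat_lit 0x0,
nat_lit 0x0,
nat_lit 0x0,
nat_lit 0x0,
nat_lit 0x0,
nat_lit 0x0,
nat_lit 0x0,
nat_lit 0x0,
nat_lit 0x0,
nat_lit 0x0,
nat_lit 0x0,
nat_lit 0x0,
nat_lit 0x0,
nat_lit 0x0,
nat_lit 0x0,
nat_lit 0x0,
nat_lit 0x0,
nat_lit 0x0,
nat_lit 0x0,
nat_lit 0x0,
nat_lit 0x0,
nat_lit 0x0,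
nat_lit 0x0,
nat_lit 0x0,
nat_lit 0x0,
nat_lit 0x0,
nat_lit 0x0,
nat_lit 0x0,
nat_lit 0x0,
nat_lit 0x0,
nat_lit 0x0,
nat_lit 0x0,
nat_lit 0x0,
nat_lit 0x0,
nat_lit 0x0,
nat_lit 0x0,
nat_lit 0x0,
nat_lit 0x0,
nat_lit 0x0,
nat_lit 0x0,
nat_lit 0x0,
nat_lit 0x0,
nat_lit 0x0,
nat_lit 0x0,
nat_lit 0x0,
nat_lit 0x0,
nat_lit 0x0,
nat_lit 0x0,
nat_lit 0x0,
nat_lit 0x0,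
nat_lit 0x0,
nat_lit 0x0,
nat_lit 0x0,
nat_lit 0x0,
nat_lit 0x0,
nat_lit 0x0,
nat_lit 0x0,
nat_lit 0x0,
nat_lit 0x0,
nat_lit 0x0,
nat_lit 0x0,
nat_lit 0x0,
nat_lit 0x0,
nat_lit 0x0,
nat_lit 0x0,
nat_lit 0x0,
nat_lit 0x0,
nat_lit 0x0,
nat_lit 0x0,
nat_lit 0x0,
nat_lit 0x0,
nat_lit 0x0,
nat_lit 0x0,
nat_lit 0x0,
nat_lit 0x0,
nat_lit 0x0,
nat_lit 0x0,
nat_lit 0x0,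
nat_lit 0x0,
nat_lit 0x0,
nat_lit 0x0,
nat_lit 0x0,
nat_lit 0x0,
nat_lit 0x0,
nat_lit 0x0,
nat_lit 0x0,
nat_lit 0x0,
nat_lit 0x0,
nat_lit 0x0,
nat_lit 0x0,
nat_lit 0x0,
nat_lit 0x0,
nat_lit 0x0,
nat_lit 0x0,
nat_lit 0x0,
nat_lit 0x0,
nat_lit 0x0,
nat_lit 0x0,
nat_lit 0x0,
nat_lit 0x0,
nat_lit 0x0,
nat_lit 0x0,
nat_lit 0x0,
nat_lit 0x0,
nat_lit 0x0,
nat_lit 0x0,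
nat_lit 0x0,
nat_lit 0x0,
nat_lit 0x0,
nat_lit 0x0,
nat_lit 0x0,
nat_lit 0x0,
nat_lit 0x0,
nat_lit 0x0,
nat_lit 0x0,
nat_lit 0x0,
nat_lit 0x0,
nat_lit 0x0,
nat_lit 0x0,
nat_lit 0x0,
nat_lit 0x0,
nat_lit 0x0,
nat_lit 0x0,
nat_lit 0x0,
nat_lit 0x0,
nat_lit 0x0,
nat_lit 0x0,
nat_lit 0x0,
nat_lit 0x0,
nat_lit 0x0,
nat_lit 0x0,
nat_lit 0x0,
nat_lit 0x0,
nat_lit 0x0,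
nat_lit 0x0,
nat_lit 0x0,
nat_lit 0x0,
nat_lit 0x0,
nat_lit 0x0,
nat_lit 0x0,
nat_lit 0x0,
nat_lit 0x0,
nat_lit 0x0,
nat_lit 0x0,
nat_lit 0x0,
nat_lit 0x0,
nat_lit 0x0,
nat_lit 0x0,
nat_lit 0x0,
nat_lit 0x0,
nat_lit 0x0,
nat_lit 0x0,
nat_lit 0x0,
nat_lit 0x0,
nat_lit 0x0,
nat_lit 0x0,
nat_lit 0x0,
nat_lit 0x0,
nat_lit 0x0,
nat_lit 0x0,
nat_lit 0x0,
nat_lit 0x0,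
nat_lit 0x0,
nat_lit 0x0,
nat_lit 0x0,
nat_lit 0x0,
nat_lit 0x0,
nat_lit 0x0,
nat_lit 0x0,
nat_lit 0x0,
nat_lit 0x0,
nat_lit 0x0,
nat_lit 0x0,
nat_lit 0x0,
nat_lit 0x0,
nat_lit 0x0,
nat_lit 0x0,
nat_lit 0x0,
nat_lit 0x0,
nat_lit 0x0,
nat_lit 0x0,
nat_lit 0x0,
nat_lit 0x0,
nat_lit 0x0,
nat_lit 0x0,
nat_lit 0x0,
nat_lit 0x0,
nat_lit 0x0,
nat_lit 0x0,
nat_lit 0x0,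
nat_lit 0x0,
nat_lit 0x0,
nat_lit 0x0,
nat_lit 0x0,
nat_lit 0x0,
nat_lit 0x0,
nat_lit 0x0,
nat_lit 0x0,
nat_lit 0x0,
nat_lit 0x0,
nat_lit 0x0,
nat_lit 0x0,
nat_lit 0x0,
nat_lit 0x0,
nat_lit 0x0,
nat_lit 0x0,
nat_lit 0x0,
nat_lit 0x0,
nat_lit 0x0,
nat_lit 0x0,
nat_lit 0x0,
nat_lit 0x0,
nat_lit 0x0,
nat_lit 0x0,
nat_lit 0x0,
nat_lit 0x0,
nat_lit 0x0,
nat_lit 0x0,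
nat_lit 0x0,
nat_lit 0x0,
nat_lit 0x0,
nat_lit 0x0,
nat_lit 0x0,
nat_lit 0x0,
nat_lit 0x0,
nat_lit 0x0,
nat_lit 0x0,
nat_lit 0x0,
nat_lit 0x0,
nat_lit 0x0,
nat_lit 0x0,
nat_lit 0x0,
nat_lit 0x0,
nat_lit 0x0,
nat_lit 0x0,
nat_lit 0x0,
nat_lit 0x0,
nat_lit 0x0,
nat_lit 0x0,
nat_lit 0x0,
nat_lit 0x0,
nat_lit 0x0,
nat_lit 0x0,
nat_lit 0x0,
nat_lit 0x0,
nat_lit 0x0,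
nat_lit 0x0,
nat_lit 0x0,
nat_lit 0x0,
nat_lit 0x0,
nat_lit 0x0,
nat_lit 0x0,
nat_lit 0x0,
nat_lit 0x0,
nat_lit 0x0,
nat_lit 0x0,
nat_lit 0x0,
nat_lit 0x0,
nat_lit 0x0,
nat_lit 0x0,
nat_lit 0x0,
nat_lit 0x0,
nat_lit 0x0,
nat_lit 0x0,
nat_lit 0x0,
nat_lit 0x0,
nat_lit 0x0,
nat_lit 0x0,
nat_lit 0x0,
nat_lit 0x0,
nat_lit 0x0,
nat_lit 0x0,
nat_lit 0x0,
nat_lit 0x0,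
nat_lit 0x0,
nat_lit 0x0,
nat_lit 0x0,
nat_lit 0x0,
nat_lit 0x0,
nat_lit 0x0,
nat_lit 0x0,
nat_lit 0x0,
nat_lit 0x0,
nat_lit 0x0,
nat_lit 0x0,
nat_lit 0x0,
nat_lit 0x0,
nat_lit 0x0,
nat_lit 0x0,
nat_lit 0x0,
nat_lit 0x0,
nat_lit 0x0,
nat_lit 0x0,
nat_lit 0x0,
nat_lit 0x0,
nat_lit 0x0,
nat_lit 0x0,
nat_lit 0x0,
nat_lit 0x0,
nat_lit 0x0,
nat_lit 0x0,
nat_lit 0x0,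
nat_lit 0x0,
nat_lit 0x0,
nat_lit 0x0,
nat_lit 0x0,
nat_lit 0x0,
nat_lit 0x0,
nat_lit 0x0,
nat_lit 0x0,
nat_lit 0x0,
nat_lit 0x0,
nat_lit 0x0]

theorem facts_ok18944 : checkFacts facts 18364758544493064720 words 128 subs 49982 items18944 18944 = true := by decide +kernel

noncomputable def items19456 : List ℕ := [
nat_lit 0x0,
nat_lit 0x0,
nat_lit 0x0,
nat_lit 0x0,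
nat_lit 0x0,
nat_lit 0x0,
nat_lit 0x0,
nat_lit 0x0,
nat_lit 0x0,
nat_lit 0x0,
nat_lit 0x0,
nat_lit 0x0,
nat_lit 0x0,
nat_lit 0x0,
nat_lit 0x0,
nat_lit 0x0,
nat_lit 0x0,
nat_lit 0x0,
nat_lit 0x0,
nat_lit 0x0,
nat_lit 0x0,
nat_lit 0x0,
nat_lit 0x0,
nat_lit 0x0,
nat_lit 0x0,
nat_lit 0x0,
nat_lit 0x0,
nat_lit 0x0,
nat_lit 0x0,
nat_lit 0x0,
nat_lit 0x0,
nat_lit 0x0,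
nat_lit 0x0,
nat_lit 0x0,
nat_lit 0x0,
nat_lit 0x0,
nat_lit 0x0,
nat_lit 0x0,
nat_lit 0x0,
nat_lit 0x0,
nat_lit 0x0,
nat_lit 0x0,
nat_lit 0x0,
nat_lit 0x0,
nat_lit 0x0,
nat_lit 0x0,
nat_lit 0x0,
nat_lit 0x0,
nat_lit 0x0,
nat_lit 0x0,
nat_lit 0x0,
nat_lit 0x0,
nat_lit 0x0,
nat_lit 0x0,
nat_lit 0x0,
nat_lit 0x0,
nat_lit 0x0,
nat_lit 0x0,
nat_lit 0x0,
nat_lit 0x0,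
nat_lit 0x0,
nat_lit 0x0,
nat_lit 0x0,
nat_lit 0x0,
nat_lit 0x0,
nat_lit 0x0,
nat_lit 0x0,
nat_lit 0x0,
nat_lit 0x0,
nat_lit 0x0,
nat_lit 0x0,
nat_lit 0x0,
nat_lit 0x0,
nat_lit 0x0,
nat_lit 0x0,
nat_lit 0x0,
nat_lit 0x0,
nat_lit 0x0,
nat_lit 0x0,
nat_lit 0x0,
nat_lit 0x0,
nat_lit 0x0,
nat_lit 0x0,
nat_lit 0x0,
nat_lit 0x0,
nat_lit 0x0,
nat_lit 0x0,
nat_lit 0x0,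
nat_lit 0x0,
nat_lit 0x0,
nat_lit 0x0,
nat_lit 0x0,
nat_lit 0x0,
nat_lit 0x0,
nat_lit 0x0,
nat_lit 0x0,
nat_lit 0x0,
nat_lit 0x0,
nat_lit 0x0,
nat_lit 0x0,
nat_lit 0x0,
nat_lit 0x0,
nat_lit 0x0,
nat_lit 0x0,
nat_lit 0x0,
nat_lit 0x0,
nat_lit 0x0,
nat_lit 0x0,
nat_lit 0x0,
nat_lit 0x0,
nat_lit 0x0,
nat_lit 0x0,
nat_lit 0x0,
nat_lit 0x0,
nat_lit 0x0,
nat_lit 0x0,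
nat_lit 0x0,
nat_lit 0x0,
nat_lit 0x0,
nat_lit 0x0,
nat_lit 0x0,
nat_lit 0x0,
nat_lit 0x0,
nat_lit 0x0,
nat_lit 0x0,
nat_lit 0x0,
nat_lit 0x0,
nat_lit 0x0,
nat_lit 0x0,
nat_lit 0x0,
nat_lit 0x0,
nat_lit 0x0,
nat_lit 0x0,
nat_lit 0x0,
nat_lit 0x0,
nat_lit 0x0,
nat_lit 0x0,
nat_lit 0x0,
nat_lit 0x0,
nat_lit 0x0,
nat_lit 0x0,
nat_lit 0x0,
nat_lit 0x0,
nat_lit 0x0,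
nat_lit 0x0,
nat_lit 0x0,
nat_lit 0x0,
nat_lit 0x0,
nat_lit 0x0,
nat_lit 0x0,
nat_lit 0x0,
nat_lit 0x0,
nat_lit 0x0,
nat_lit 0x0,
nat_lit 0x0,
nat_lit 0x0,
nat_lit 0x0,
nat_lit 0x0,
nat_lit 0x0,
nat_lit 0x0,
nat_lit 0x0,
nat_lit 0x0,
nat_lit 0x0,
nat_lit 0x0,
nat_lit 0x0,
nat_lit 0x0,
nat_lit 0x0,
nat_lit 0x0,
nat_lit 0x0,
nat_lit 0x0,
nat_lit 0x0,
nat_lit 0x0,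
nat_lit 0x0,
nat_lit 0x0,
nat_lit 0x0,
nat_lit 0x0,
nat_lit 0x0,
nat_lit 0x0,
nat_lit 0x0,
nat_lit 0x0,
nat_lit 0x0,
nat_lit 0x0,
nat_lit 0x0,
nat_lit 0x0,
nat_lit 0x0,
nat_lit 0x0,
nat_lit 0x0,
nat_lit 0x0,
nat_lit 0x0,
nat_lit 0x0,
nat_lit 0x0,
nat_lit 0x0,
nat_lit 0x0,
nat_lit 0x0,
nat_lit 0x0,
nat_lit 0x0,
nat_lit 0x0,
nat_lit 0x0,
nat_lit 0x0,
nat_lit 0x0,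
nat_lit 0x0,
nat_lit 0x0,
nat_lit 0x0,
nat_lit 0x0,
nat_lit 0x0,
nat_lit 0x0,
nat_lit 0x0,
nat_lit 0x0,
nat_lit 0x0,
nat_lit 0x0,
nat_lit 0x0,
nat_lit 0x0,
nat_lit 0x0,
nat_lit 0x0,
nat_lit 0x0,
nat_lit 0x0,
nat_lit 0x0,
nat_lit 0x0,
nat_lit 0x0,
nat_lit 0x0,
nat_lit 0x0,
nat_lit 0x0,
nat_lit 0x0,
nat_lit 0x0,
nat_lit 0x0,
nat_lit 0x0,
nat_lit 0x0,
nat_lit 0x0,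
nat_lit 0x0,
nat_lit 0x0,
nat_lit 0x0,
nat_lit 0x0,
nat_lit 0x0,
nat_lit 0x0,
nat_lit 0x0,
nat_lit 0x0,
nat_lit 0x0,
nat_lit 0x0,
nat_lit 0x0,
nat_lit 0x0,
nat_lit 0x0,
nat_lit 0x0,
nat_lit 0x0,
nat_lit 0x0,
nat_lit 0x0,
nat_lit 0x0,
nat_lit 0x0,
nat_lit 0x0,
nat_lit 0x0,
nat_lit 0x0,
nat_lit 0x0,
nat_lit 0x0,
nat_lit 0x0,
nat_lit 0x0,
nat_lit 0x0,
nat_lit 0x0,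
nat_lit 0x0,
nat_lit 0x0,
nat_lit 0x0,
nat_lit 0x0,
nat_lit 0x0,
nat_lit 0x0,
nat_lit 0x0,
nat_lit 0x0,
nat_lit 0x0,
nat_lit 0x0,
nat_lit 0x0,
nat_lit 0x0,
nat_lit 0x0,
nat_lit 0x0,
nat_lit 0x0,
nat_lit 0x0,
nat_lit 0x0,
nat_lit 0x0,
nat_lit 0x0,
nat_lit 0x0,
nat_lit 0x0,
nat_lit 0x0,
nat_lit 0x0,
nat_lit 0x0,
nat_lit 0x0,
nat_lit 0x0,
nat_lit 0x0,
nat_lit 0x0,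
nat_lit 0x0,
nat_lit 0x0,
nat_lit 0x0,
nat_lit 0x0,
nat_lit 0x0,
nat_lit 0x0,
nat_lit 0x0,
nat_lit 0x0,
nat_lit 0x0,
nat_lit 0x0,
nat_lit 0x0,
nat_lit 0x0,
nat_lit 0x0,
nat_lit 0x0,
nat_lit 0x0,
nat_lit 0x0,
nat_lit 0x0,
nat_lit 0x0,
nat_lit 0x0,
nat_lit 0x0,
nat_lit 0x0,
nat_lit 0x0,
nat_lit 0x0,
nat_lit 0x0,
nat_lit 0x0,
nat_lit 0x0,
nat_lit 0x0,
nat_lit 0x0,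
nat_lit 0x0,
nat_lit 0x0,
nat_lit 0x0,
nat_lit 0x0,
nat_lit 0x0,
nat_lit 0x0,
nat_lit 0x0,
nat_lit 0x0,
nat_lit 0x0,
nat_lit 0x0,
nat_lit 0x0,
nat_lit 0x0,
nat_lit 0x0,
nat_lit 0x0,
nat_lit 0x0,
nat_lit 0x0,
nat_lit 0x0,
nat_lit 0x0,
nat_lit 0x0,
nat_lit 0x0,
nat_lit 0x0,
nat_lit 0x0,
nat_lit 0x0,
nat_lit 0x0,
nat_lit 0x0,
nat_lit 0x0,
nat_lit 0x0,
nat_lit 0x0,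
nat_lit 0x0,
nat_lit 0x0,
nat_lit 0x0,
nat_lit 0x0,
nat_lit 0x0,
nat_lit 0x0,
nat_lit 0x0,
nat_lit 0x0,
nat_lit 0x0,
nat_lit 0x0,
nat_lit 0x0,
nat_lit 0x0,
nat_lit 0x0,
nat_lit 0x0,
nat_lit 0x0,
nat_lit 0x0,
nat_lit 0x0,
nat_lit 0x0,
nat_lit 0x0,
nat_lit 0x0,
nat_lit 0x0,
nat_lit 0x0,
nat_lit 0x0,
nat_lit 0x0,
nat_lit 0x0,
nat_lit 0x0,
nat_lit 0x0,
nat_lit 0x0,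
nat_lit 0x0,
nat_lit 0x0,
nat_lit 0x0,
nat_lit 0x0,
nat_lit 0x0,
nat_lit 0x0,
nat_lit 0x0,
nat_lit 0x0,
nat_lit 0x0,
nat_lit 0x0,
nat_lit 0x0,
nat_lit 0x0,
nat_lit 0x0,
nat_lit 0x0,
nat_lit 0x0,
nat_lit 0x0,
nat_lit 0x0,
nat_lit 0x0,
nat_lit 0x0,
nat_lit 0x0,
nat_lit 0x0,
nat_lit 0x0,
nat_lit 0x0,
nat_lit 0x0,
nat_lit 0x0,
nat_lit 0x0,
nat_lit 0x0,
nat_lit 0x0,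
nat_lit 0x0,
nat_lit 0x0,
nat_lit 0x0,
nat_lit 0x0,
nat_lit 0x0,
nat_lit 0x0,
nat_lit 0x0,
nat_lit 0x0,
nat_lit 0x0,
nat_lit 0x0,
nat_lit 0x0,
nat_lit 0x0,
nat_lit 0x0,
nat_lit 0x0,
nat_lit 0x0,
nat_lit 0x0,
nat_lit 0x0,
nat_lit 0x0,
nat_lit 0x0,
nat_lit 0x0,
nat_lit 0x0,
nat_lit 0x0,
nat_lit 0x0,
nat_lit 0x0,
nat_lit 0x0,
nat_lit 0x0,
nat_lit 0x0,
nat_lit 0x0,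
nat_lit 0x0,
nat_lit 0x0,
nat_lit 0x0,
nat_lit 0x0,
nat_lit 0x0,
nat_lit 0x0,
nat_lit 0x0,
nat_lit 0x0,
nat_lit 0x0,
nat_lit 0x0,
nat_lit 0x0,
nat_lit 0x0,
nat_lit 0x0,
nat_lit 0x0,
nat_lit 0x0,
nat_lit 0x0,
nat_lit 0x0,
nat_lit 0x0,
nat_lit 0x0,
nat_lit 0x0,
nat_lit 0x0,
nat_lit 0x0,
nat_lit 0x0,
nat_lit 0x0,
nat_lit 0x0,
nat_lit 0x0,
nat_lit 0x0,
nat_lit 0x0,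
nat_lit 0x0,
nat_lit 0x0,
nat_lit 0x0,
nat_lit 0x0,
nat_lit 0x0,
nat_lit 0x0,
nat_lit 0x0,
nat_lit 0x0,
nat_lit 0x0,
nat_lit 0x0,
nat_lit 0x0,
nat_lit 0x0,
nat_lit 0x0,
nat_lit 0x0,
nat_lit 0x0,
nat_lit 0x0,
nat_lit 0x0,
nat_lit 0x0,
nat_lit 0x0,
nat_lit 0x0,
nat_lit 0x0,
nat_lit 0x0,
nat_lit 0x0,
nat_lit 0x0,
nat_lit 0x0,
nat_lit 0x0,
nat_lit 0x0,
nat_lit 0x0,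
nat_lit 0x0,
nat_lit 0x0,
nat_lit 0x0,
nat_lit 0x0,
nat_lit 0x0,
nat_lit 0x0,
nat_lit 0x0,
nat_lit 0x0,
nat_lit 0x0,
nat_lit 0x0,
nat_lit 0x0,
nat_lit 0x0,
nat_lit 0x0,
nat_lit 0x0,
nat_lit 0x0,
nat_lit 0x0,
nat_lit 0x0,
nat_lit 0x0,
nat_lit 0x0,
nat_lit 0x0,
nat_lit 0x0,
nat_lit 0x0,
nat_lit 0x0,
nat_lit 0x0,
nat_lit 0x0,
nat_lit 0x0,
nat_lit 0x0,
nat_lit 0x0,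
nat_lit 0x0,
nat_lit 0x0,
nat_lit 0x0,
nat_lit 0x0]

theorem facts_ok19456 : checkFacts facts 18364758544493064720 words 128 subs 49982 items19456 19456 = true := by decide +kernel

noncomputable def items19968 : List ℕ := [
nat_lit 0x0,
nat_lit 0x0,
nat_lit 0x0,
nat_lit 0x0,
nat_lit 0x0,
nat_lit 0x0,
nat_lit 0x0,
nat_lit 0x0,
nat_lit 0x0,
nat_lit 0x0,
nat_lit 0x0,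
nat_lit 0x0,
nat_lit 0x0,
nat_lit 0x0,
nat_lit 0x0,
nat_lit 0x0,
nat_lit 0x0,
nat_lit 0x0,
nat_lit 0x0,
nat_lit 0x0,
nat_lit 0x0,
nat_lit 0x0,
nat_lit 0x0,
nat_lit 0x0,
nat_lit 0x0,
nat_lit 0x0,
nat_lit 0x0,
nat_lit 0x0,
nat_lit 0x0,
nat_lit 0x0,
nat_lit 0x0,
nat_lit 0x0,
nat_lit 0x0,
nat_lit 0x0,
nat_lit 0x0,
nat_lit 0x0,
nat_lit 0x0,
nat_lit 0x0,
nat_lit 0x0,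
nat_lit 0x0,
nat_lit 0x0,
nat_lit 0x0,
nat_lit 0x0,
nat_lit 0x0,
nat_lit 0x0,
nat_lit 0x0,
nat_lit 0x0,
nat_lit 0x0,
nat_lit 0x0,
nat_lit 0x0,
nat_lit 0x0,
nat_lit 0x0,
nat_lit 0x0,
nat_lit 0x0,
nat_lit 0x0,
nat_lit 0x0,
nat_lit 0x0,
nat_lit 0x0,
nat_lit 0x0,
nat_lit 0x0,
nat_lit 0x0,
nat_lit 0x0,
nat_lit 0x0,
nat_lit 0x0,
nat_lit 0x0,
nat_lit 0x0,
nat_lit 0x0,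
nat_lit 0x0,
nat_lit 0x0,
nat_lit 0x0,
nat_lit 0x0,
nat_lit 0x0,
nat_lit 0x0,
nat_lit 0x0,
nat_lit 0x0,
nat_lit 0x0,
nat_lit 0x0,
nat_lit 0x0,
nat_lit 0x0,
nat_lit 0x0,
nat_lit 0x0,
nat_lit 0x0,
nat_lit 0x0,
nat_lit 0x0,
nat_lit 0x0,
nat_lit 0x0,
nat_lit 0x0,
nat_lit 0x0,
nat_lit 0x0,
nat_lit 0x0,
nat_lit 0x0,
nat_lit 0x0,
nat_lit 0x0,
nat_lit 0x0,
nat_lit 0x0,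
nat_lit 0x0,
nat_lit 0x0,
nat_lit 0x0,
nat_lit 0x0,
nat_lit 0x0,
nat_lit 0x0,
nat_lit 0x0,
nat_lit 0x0,
nat_lit 0x0,
nat_lit 0x0,
nat_lit 0x0,
nat_lit 0x0,
nat_lit 0x0,
nat_lit 0x0,
nat_lit 0x0,
nat_lit 0x0,
nat_lit 0x0,
nat_lit 0x0,
nat_lit 0x0,
nat_lit 0x0,
nat_lit 0x0,
nat_lit 0x0,
nat_lit 0x0,
nat_lit 0x0,
nat_lit 0x0,
nat_lit 0x0,
nat_lit 0x0,
nat_lit 0x0,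
nat_lit 0x0,
nat_lit 0x0,
nat_lit 0x0,
nat_lit 0x0,
nat_lit 0x0,
nat_lit 0x0,
nat_lit 0x0,
nat_lit 0x0,
nat_lit 0x0,
nat_lit 0x0,
nat_lit 0x0,
nat_lit 0x0,
nat_lit 0x0,
nat_lit 0x0,
nat_lit 0x0,
nat_lit 0x0,
nat_lit 0x0,
nat_lit 0x0,
nat_lit 0x0,
nat_lit 0x0,
nat_lit 0x0,
nat_lit 0x0,
nat_lit 0x0,
nat_lit 0x0,
nat_lit 0x0,
nat_lit 0x0,
nat_lit 0x0,
nat_lit 0x0,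
nat_lit 0x0,
nat_lit 0x0,
nat_lit 0x0,
nat_lit 0x0,
nat_lit 0x0,
nat_lit 0x0,
nat_lit 0x0,
nat_lit 0x0,
nat_lit 0x0,
nat_lit 0x0,
nat_lit 0x0,
nat_lit 0x0,
nat_lit 0x0,
nat_lit 0x0,
nat_lit 0x0,
nat_lit 0x0,
nat_lit 0x0,
nat_lit 0x0,
nat_lit 0x0,
nat_lit 0x0,
nat_lit 0x0,
nat_lit 0x0,
nat_lit 0x0,
nat_lit 0x0,
nat_lit 0x0,
nat_lit 0x0,
nat_lit 0x0,
nat_lit 0x0,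
nat_lit 0x0,
nat_lit 0x0,
nat_lit 0x0,
nat_lit 0x0,
nat_lit 0x0,
nat_lit 0x0,
nat_lit 0x0,
nat_lit 0x0,
nat_lit 0x0,
nat_lit 0x0,
nat_lit 0x0,
nat_lit 0x0,
nat_lit 0x0,
nat_lit 0x0,
nat_lit 0x0,
nat_lit 0x0,
nat_lit 0x0,
nat_lit 0x0,
nat_lit 0x0,
nat_lit 0x0,
nat_lit 0x0,
nat_lit 0x0,
nat_lit 0x0,
nat_lit 0x0,
nat_lit 0x0,
nat_lit 0x0,
nat_lit 0x0,
nat_lit 0x0,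
nat_lit 0x0,
nat_lit 0x0,
nat_lit 0x0,
nat_lit 0x0,
nat_lit 0x0,
nat_lit 0x0,
nat_lit 0x0,
nat_lit 0x0,
nat_lit 0x0,
nat_lit 0x0,
nat_lit 0x0,
nat_lit 0x0,
nat_lit 0x0,
nat_lit 0x0,
nat_lit 0x0,
nat_lit 0x0,
nat_lit 0x0,
nat_lit 0x0,
nat_lit 0x0,
nat_lit 0x0,
nat_lit 0x0,
nat_lit 0x0,
nat_lit 0x0,
nat_lit 0x0,
nat_lit 0x0,
nat_lit 0x0,
nat_lit 0x0,
nat_lit 0x0,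
nat_lit 0x0,
nat_lit 0x0,
nat_lit 0x0,
nat_lit 0x0,
nat_lit 0x0,
nat_lit 0x0,
nat_lit 0x0,
nat_lit 0x0,
nat_lit 0x0,
nat_lit 0x0,
nat_lit 0x0,
nat_lit 0x0,
nat_lit 0x0,
nat_lit 0x0,
nat_lit 0x0,
nat_lit 0x0,
nat_lit 0x0,
nat_lit 0x0,
nat_lit 0x0,
nat_lit 0x0,
nat_lit 0x0,
nat_lit 0x0,
nat_lit 0x0,
nat_lit 0x0,
nat_lit 0x0,
nat_lit 0x0,
nat_lit 0x0,
nat_lit 0x0,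
nat_lit 0x0,
nat_lit 0x0,
nat_lit 0x0,
nat_lit 0x0,
nat_lit 0x0,
nat_lit 0x0,
nat_lit 0x0,
nat_lit 0x0,
nat_lit 0x0,
nat_lit 0x0,
nat_lit 0x0,
nat_lit 0x0,
nat_lit 0x0,
nat_lit 0x0,
nat_lit 0x0,
nat_lit 0x0,
nat_lit 0x0,
nat_lit 0x0,
nat_lit 0x0,
nat_lit 0x0,
nat_lit 0x0,
nat_lit 0x0,
nat_lit 0x0,
nat_lit 0x0,
nat_lit 0x0,
nat_lit 0x0,
nat_lit 0x0,
nat_lit 0x0,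
nat_lit 0x0,
nat_lit 0x0,
nat_lit 0x0,
nat_lit 0x0,
nat_lit 0x0,
nat_lit 0x0,
nat_lit 0x0,
nat_lit 0x0,
nat_lit 0x0,
nat_lit 0x0,
nat_lit 0x0,
nat_lit 0x0,
nat_lit 0x0,
nat_lit 0x0,
nat_lit 0x0,
nat_lit 0x0,
nat_lit 0x0,
nat_lit 0x0,
nat_lit 0x0,
nat_lit 0x0,
nat_lit 0x0,
nat_lit 0x0,
nat_lit 0x0,
nat_lit 0x0,
nat_lit 0x0,
nat_lit 0x0,
nat_lit 0x0,
nat_lit 0x0,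
nat_lit 0x0,
nat_lit 0x0,
nat_lit 0x0,
nat_lit 0x0,
nat_lit 0x0,
nat_lit 0x0,
nat_lit 0x0,
nat_lit 0x0,
nat_lit 0x0,
nat_lit 0x0,
nat_lit 0x0,
nat_lit 0x0,
nat_lit 0x0,
nat_lit 0x0,
nat_lit 0x0,
nat_lit 0x0,
nat_lit 0x0,
nat_lit 0x0,
nat_lit 0x0,
nat_lit 0x0,
nat_lit 0x0,
nat_lit 0x0,
nat_lit 0x0,
nat_lit 0x0,
nat_lit 0x0,
nat_lit 0x0,
nat_lit 0x0,
nat_lit 0x0,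
nat_lit 0x0,
nat_lit 0x0,
nat_lit 0x0,
nat_lit 0x0,
nat_lit 0x0,
nat_lit 0x0,
nat_lit 0x0,
nat_lit 0x0,
nat_lit 0x0,
nat_lit 0x0,
nat_lit 0x0,
nat_lit 0x0,
nat_lit 0x0,
nat_lit 0x0,
nat_lit 0x0,
nat_lit 0x0,
nat_lit 0x0,
nat_lit 0x0,
nat_lit 0x0,
nat_lit 0x0,
nat_lit 0x0,
nat_lit 0x0,
nat_lit 0x0,
nat_lit 0x0,
nat_lit 0x0,
nat_lit 0x0,
nat_lit 0x0,
nat_lit 0x0,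
nat_lit 0x0,
nat_lit 0x0,
nat_lit 0x0,
nat_lit 0x0,
nat_lit 0x0,
nat_lit 0x0,
nat_lit 0x0,
nat_lit 0x0,
nat_lit 0x0,
nat_lit 0x0,
nat_lit 0x0,
nat_lit 0x0,
nat_lit 0x0,
nat_lit 0x0,
nat_lit 0x0,
nat_lit 0x0,
nat_lit 0x0,
nat_lit 0x0,
nat_lit 0x0,
nat_lit 0x0,
nat_lit 0x0,
nat_lit 0x0,
nat_lit 0x0,
nat_lit 0x0,
nat_lit 0x0,
nat_lit 0x0,
nat_lit 0x0,
nat_lit 0x0,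
nat_lit 0x0,
nat_lit 0x0,
nat_lit 0x0,
nat_lit 0x0,
nat_lit 0x0,
nat_lit 0x0,
nat_lit 0x0,
nat_lit 0x0,
nat_lit 0x0,
nat_lit 0x0,
nat_lit 0x0,
nat_lit 0x0,
nat_lit 0x0,
nat_lit 0x0,
nat_lit 0x0,
nat_lit 0x0,
nat_lit 0x0,
nat_lit 0x0,
nat_lit 0x0,
nat_lit 0x0,
nat_lit 0x0,
nat_lit 0x0,
nat_lit 0x0,
nat_lit 0x0,
nat_lit 0x0,
nat_lit 0x0,
nat_lit 0x0,
nat_lit 0x0,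
nat_lit 0x0,
nat_lit 0x0,
nat_lit 0x0,
nat_lit 0x0,
nat_lit 0x0,
nat_lit 0x0,
nat_lit 0x0,
nat_lit 0x0,
nat_lit 0x0,
nat_lit 0x0,
nat_lit 0x0,
nat_lit 0x0,
nat_lit 0x0,
nat_lit 0x0,
nat_lit 0x0,
nat_lit 0x0,
nat_lit 0x0,
nat_lit 0x0,
nat_lit 0x0,
nat_lit 0x0,
nat_lit 0x0,
nat_lit 0x0,
nat_lit 0x0,
nat_lit 0x0,
nat_lit 0x0,
nat_lit 0x0,
nat_lit 0x0,
nat_lit 0x0,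
nat_lit 0x0,
nat_lit 0x0,
nat_lit 0x0,
nat_lit 0x0,
nat_lit 0x0,
nat_lit 0x0,
nat_lit 0x0,
nat_lit 0x0,
nat_lit 0x0,
nat_lit 0x0,
nat_lit 0x0,
nat_lit 0x0,
nat_lit 0x0,
nat_lit 0x0,
nat_lit 0x0,
nat_lit 0x0,
nat_lit 0x0,
nat_lit 0x0,
nat_lit 0x0,
nat_lit 0x0,
nat_lit 0x0,
nat_lit 0x0,
nat_lit 0x0,
nat_lit 0x0,
nat_lit 0x0,
nat_lit 0x0,
nat_lit 0x0,
nat_lit 0x0,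
nat_lit 0x0,
nat_lit 0x0,
nat_lit 0x0,
nat_lit 0x0,
nat_lit 0x0,
nat_lit 0x0,
nat_lit 0x0,
nat_lit 0x0,
nat_lit 0x0,
nat_lit 0x0,
nat_lit 0x0,
nat_lit 0x0,
nat_lit 0x0,
nat_lit 0x0,
nat_lit 0x0,
nat_lit 0x0,
nat_lit 0x0,
nat_lit 0x0,
nat_lit 0x0,
nat_lit 0x0,
nat_lit 0x0,
nat_lit 0x0,
nat_lit 0x0,
nat_lit 0x0,
nat_lit 0x0]

theorem facts_ok19968 : checkFacts facts 18364758544493064720 words 128 subs 49982 items19968 19968 = true := by decide +kernel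

noncomputable def items20480 : List ℕ := [
nat_lit 0x0,
nat_lit 0x0,
nat_lit 0x0,
nat_lit 0x0,
nat_lit 0x0,
nat_lit 0x0,
nat_lit 0x0,
nat_lit 0x0,
nat_lit 0x0,
nat_lit 0x0,
nat_lit 0x0,
nat_lit 0x0,
nat_lit 0x0,
nat_lit 0x0,
nat_lit 0x0,
nat_lit 0x0,
nat_lit 0x0,
nat_lit 0x0,
nat_lit 0x0,
nat_lit 0x0,
nat_lit 0x0,
nat_lit 0x0,
nat_lit 0x0,
nat_lit 0x0,
nat_lit 0x0,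
nat_lit 0x0,
nat_lit 0x0,
nat_lit 0x0,
nat_lit 0x0,
nat_lit 0x0,
nat_lit 0x0,
nat_lit 0x0,
nat_lit 0x0,
nat_lit 0x0,
nat_lit 0x0,
nat_lit 0x0,
nat_lit 0x0,
nat_lit 0x0,
nat_lit 0x0,
nat_lit 0x0,
nat_lit 0x0,
nat_lit 0x0,
nat_lit 0x0,
nat_lit 0x0,
nat_lit 0x0,
nat_lit 0x0,
nat_lit 0x0,
nat_lit 0x0,
nat_lit 0x0,
nat_lit 0x0,
nat_lit 0x0,
nat_lit 0x0,
nat_lit 0x0,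
nat_lit 0x0,
nat_lit 0x0,
nat_lit 0x0,
nat_lit 0x0,
nat_lit 0x0,
nat_lit 0x0,
nat_lit 0x0,
nat_lit 0x0,
nat_lit 0x0,
nat_lit 0x0,
nat_lit 0x0,
nat_lit 0x0,
nat_lit 0x0,
nat_lit 0x0,
nat_lit 0x0,
nat_lit 0x0,
nat_lit 0x0,
nat_lit 0x0,
nat_lit 0x0,
nat_lit 0x0,
nat_lit 0x0,
nat_lit 0x0,
nat_lit 0x0,
nat_lit 0x0,
nat_lit 0x0,
nat_lit 0x0,
nat_lit 0x0,
nat_lit 0x0,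
nat_lit 0x0,
nat_lit 0x0,
nat_lit 0x0,
nat_lit 0x0,
nat_lit 0x0,
nat_lit 0x0,
nat_lit 0x0,
nat_lit 0x0,
nat_lit 0x0,
nat_lit 0x0,
nat_lit 0x0,
nat_lit 0x0,
nat_lit 0x0,
nat_lit 0x0,
nat_lit 0x0,
nat_lit 0x0,
nat_lit 0x0,
nat_lit 0x0,
nat_lit 0x0,
nat_lit 0x0,
nat_lit 0x0,
nat_lit 0x0,
nat_lit 0x0,
nat_lit 0x0,
nat_lit 0x0,
nat_lit 0x0,
nat_lit 0x0,
nat_lit 0x0,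
nat_lit 0x0,
nat_lit 0x0,
nat_lit 0x0,
nat_lit 0x0,
nat_lit 0x0,
nat_lit 0x0,
nat_lit 0x0,
nat_lit 0x0,
nat_lit 0x0,
nat_lit 0x0,
nat_lit 0x0,
nat_lit 0x0,
nat_lit 0x0,
nat_lit 0x0,
nat_lit 0x0,
nat_lit 0x0,
nat_lit 0x0,
nat_lit 0x0,
nat_lit 0x0,
nat_lit 0x0,
nat_lit 0x0,
nat_lit 0x0,
nat_lit 0x0,
nat_lit 0x0,
nat_lit 0x0,
nat_lit 0x0,
nat_lit 0x0,
nat_lit 0x0,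
nat_lit 0x0,
nat_lit 0x0,
nat_lit 0x0,
nat_lit 0x0,
nat_lit 0x0,
nat_lit 0x0,
nat_lit 0x0,
nat_lit 0x0,
nat_lit 0x0,
nat_lit 0x0,
nat_lit 0x0,
nat_lit 0x0,
nat_lit 0x0,
nat_lit 0x0,
nat_lit 0x0,
nat_lit 0x0,
nat_lit 0x0,
nat_lit 0x0,
nat_lit 0x0,
nat_lit 0x0,
nat_lit 0x0,
nat_lit 0x0,
nat_lit 0x0,
nat_lit 0x0,
nat_lit 0x0,
nat_lit 0x0,
nat_lit 0x0,
nat_lit 0x0,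
nat_lit 0x0,
nat_lit 0x0,
nat_lit 0x0,
nat_lit 0x0,
nat_lit 0x0,
nat_lit 0x0,
nat_lit 0x0,
nat_lit 0x0,
nat_lit 0x0,
nat_lit 0x0,
nat_lit 0x0,
nat_lit 0x0,
nat_lit 0x0,
nat_lit 0x0,
nat_lit 0x0,
nat_lit 0x0,
nat_lit 0x0,
nat_lit 0x0,
nat_lit 0x0,
nat_lit 0x0,
nat_lit 0x0,
nat_lit 0x0,
nat_lit 0x0,
nat_lit 0x0,
nat_lit 0x0,
nat_lit 0x0,
nat_lit 0x0,
nat_lit 0x0,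
nat_lit 0x0,
nat_lit 0x0,
nat_lit 0x0,
nat_lit 0x0,
nat_lit 0x0,
nat_lit 0x0,
nat_lit 0x0,
nat_lit 0x0,
nat_lit 0x0,
nat_lit 0x0,
nat_lit 0x0,
nat_lit 0x0,
nat_lit 0x0,
nat_lit 0x0,
nat_lit 0x0,
nat_lit 0x0,
nat_lit 0x0,
nat_lit 0x0,
nat_lit 0x0,
nat_lit 0x0,
nat_lit 0x0,
nat_lit 0x0,
nat_lit 0x0,
nat_lit 0x0,
nat_lit 0x0,
nat_lit 0x0,
nat_lit 0x0,
nat_lit 0x0,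
nat_lit 0x0,
nat_lit 0x0,
nat_lit 0x0,
nat_lit 0x0,
nat_lit 0x0,
nat_lit 0x0,
nat_lit 0x0,
nat_lit 0x0,
nat_lit 0x0,
nat_lit 0x0,
nat_lit 0x0,
nat_lit 0x0,
nat_lit 0x0,
nat_lit 0x0,
nat_lit 0x0,
nat_lit 0x0,
nat_lit 0x0,
nat_lit 0x0,
nat_lit 0x0,
nat_lit 0x0,
nat_lit 0x0,
nat_lit 0x0,
nat_lit 0x0,
nat_lit 0x0,
nat_lit 0x0,
nat_lit 0x0,
nat_lit 0x0,
nat_lit 0x0,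
nat_lit 0x0,
nat_lit 0x0,
nat_lit 0x0,
nat_lit 0x0,
nat_lit 0x0,
nat_lit 0x0,
nat_lit 0x0,
nat_lit 0x0,
nat_lit 0x0,
nat_lit 0x0,
nat_lit 0x0,
nat_lit 0x0,
nat_lit 0x0,
nat_lit 0x0,
nat_lit 0x0,
nat_lit 0x0,
nat_lit 0x0,
nat_lit 0x0,
nat_lit 0x0,
nat_lit 0x0,
nat_lit 0x0,
nat_lit 0x0,
nat_lit 0x0,
nat_lit 0x0,
nat_lit 0x0,
nat_lit 0x0,
nat_lit 0x0,
nat_lit 0x0,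
nat_lit 0x0,
nat_lit 0x0,
nat_lit 0x0,
nat_lit 0x0,
nat_lit 0x0,
nat_lit 0x0,
nat_lit 0x0,
nat_lit 0x0,
nat_lit 0x0,
nat_lit 0x0,
nat_lit 0x0,
nat_lit 0x0,
nat_lit 0x0,
nat_lit 0x0,
nat_lit 0x0,
nat_lit 0x0,
nat_lit 0x0,
nat_lit 0x0,
nat_lit 0x0,
nat_lit 0x0,
nat_lit 0x0,
nat_lit 0x0,
nat_lit 0x0,
nat_lit 0x0,
nat_lit 0x0,
nat_lit 0x0,
nat_lit 0x0,
nat_lit 0x0,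
nat_lit 0x0,
nat_lit 0x0,
nat_lit 0x0,
nat_lit 0x0,
nat_lit 0x0,
nat_lit 0x0,
nat_lit 0x0,
nat_lit 0x0,
nat_lit 0x0,
nat_lit 0x0,
nat_lit 0x0,
nat_lit 0x0,
nat_lit 0x0,
nat_lit 0x0,
nat_lit 0x0,
nat_lit 0x0,
nat_lit 0x0,
nat_lit 0x0,
nat_lit 0x0,
nat_lit 0x0,
nat_lit 0x0,
nat_lit 0x0,
nat_lit 0x0,
nat_lit 0x0,
nat_lit 0x0,
nat_lit 0x0,
nat_lit 0x0,
nat_lit 0x0,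
nat_lit 0x0,
nat_lit 0x0,
nat_lit 0x0,
nat_lit 0x0,
nat_lit 0x0,
nat_lit 0x0,
nat_lit 0x0,
nat_lit 0x0,
nat_lit 0x0,
nat_lit 0x0,
nat_lit 0x0,
nat_lit 0x0,
nat_lit 0x0,
nat_lit 0x0,
nat_lit 0x0,
nat_lit 0x0,
nat_lit 0x0,
nat_lit 0x0,
nat_lit 0x0,
nat_lit 0x0,
nat_lit 0x0,
nat_lit 0x0,
nat_lit 0x0,
nat_lit 0x0,
nat_lit 0x0,
nat_lit 0x0,
nat_lit 0x0,
nat_lit 0x0,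
nat_lit 0x0,
nat_lit 0x0,
nat_lit 0x0,
nat_lit 0x0,
nat_lit 0x0,
nat_lit 0x0,
nat_lit 0x0,
nat_lit 0x0,
nat_lit 0x0,
nat_lit 0x0,
nat_lit 0x0,
nat_lit 0x0,
nat_lit 0x0,
nat_lit 0x0,
nat_lit 0x0,
nat_lit 0x0,
nat_lit 0x0,
nat_lit 0x0,
nat_lit 0x0,
nat_lit 0x0,
nat_lit 0x0,
nat_lit 0x0,
nat_lit 0x0,
nat_lit 0x0,
nat_lit 0x0,
nat_lit 0x0,
nat_lit 0x0,
nat_lit 0x0,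
nat_lit 0x0,
nat_lit 0x0,
nat_lit 0x0,
nat_lit 0x0,
nat_lit 0x0,
nat_lit 0x0,
nat_lit 0x0,
nat_lit 0x0,
nat_lit 0x0,
nat_lit 0x0,
nat_lit 0x0,
nat_lit 0x0,
nat_lit 0x0,
nat_lit 0x0,
nat_lit 0x0,
nat_lit 0x0,
nat_lit 0x0,
nat_lit 0x0,
nat_lit 0x0,
nat_lit 0x0,
nat_lit 0x0,
nat_lit 0x0,
nat_lit 0x0,
nat_lit 0x0,
nat_lit 0x0,
nat_lit 0x0,
nat_lit 0x0,
nat_lit 0x0,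
nat_lit 0x0,
nat_lit 0x0,
nat_lit 0x0,
nat_lit 0x0,
nat_lit 0x0,
nat_lit 0x0,
nat_lit 0x0,
nat_lit 0x0,
nat_lit 0x0,
nat_lit 0x0,
nat_lit 0x0,
nat_lit 0x0,
nat_lit 0x0,
nat_lit 0x0,
nat_lit 0x0,
nat_lit 0x0,
nat_lit 0x0,
nat_lit 0x0,
nat_lit 0x0,
nat_lit 0x0,
nat_lit 0x0,
nat_lit 0x0,
nat_lit 0x0,
nat_lit 0x0,
nat_lit 0x0,
nat_lit 0x0,
nat_lit 0x0,
nat_lit 0x0,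
nat_lit 0x0,
nat_lit 0x0,
nat_lit 0x0,
nat_lit 0x0,
nat_lit 0x0,
nat_lit 0x0,
nat_lit 0x0,
nat_lit 0x0,
nat_lit 0x0,
nat_lit 0x0,
nat_lit 0x0,
nat_lit 0x0,
nat_lit 0x0,
nat_lit 0x0,
nat_lit 0x0,
nat_lit 0x0,
nat_lit 0x0,
nat_lit 0x0,
nat_lit 0x0,
nat_lit 0x0,
nat_lit 0x0,
nat_lit 0x0,
nat_lit 0x0,
nat_lit 0x0,
nat_lit 0x0,
nat_lit 0x0,
nat_lit 0x0,
nat_lit 0x0,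
nat_lit 0x0,
nat_lit 0x0,
nat_lit 0x0,
nat_lit 0x0,
nat_lit 0x0,
nat_lit 0x0,
nat_lit 0x0,
nat_lit 0x0,
nat_lit 0x0,
nat_lit 0x0,
nat_lit 0x0,
nat_lit 0x0,
nat_lit 0x0,
nat_lit 0x0,
nat_lit 0x0,
nat_lit 0x0,
nat_lit 0x0,
nat_lit 0x0,
nat_lit 0x0,
nat_lit 0x0,
nat_lit 0x0,
nat_lit 0x0,
nat_lit 0x0,
nat_lit 0x0,
nat_lit 0x0,
nat_lit 0x0,
nat_lit 0x0,
nat_lit 0x0,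
nat_lit 0x0,
nat_lit 0x0,
nat_lit 0x0,
nat_lit 0x0,
nat_lit 0x0,
nat_lit 0x0,
nat_lit 0x0,
nat_lit 0x0,
nat_lit 0x0,
nat_lit 0x0,
nat_lit 0x0]

theorem facts_ok20480 : checkFacts facts 18364758544493064720 words 128 subs 49982 items20480 20480 = true := by decide +kernel

noncomputable def items20992 : List ℕ := [
nat_lit 0x0,
nat_lit 0x0,
nat_lit 0x0,
nat_lit 0x0,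
nat_lit 0x0,
nat_lit 0x0,
nat_lit 0x0,
nat_lit 0x0,
nat_lit 0x0,
nat_lit 0x0,
nat_lit 0x0,
nat_lit 0x0,
nat_lit 0x0,
nat_lit 0x0,
nat_lit 0x0,
nat_lit 0x0,
nat_lit 0x0,
nat_lit 0x0,
nat_lit 0x0,
nat_lit 0x0,
nat_lit 0x0,
nat_lit 0x0,
nat_lit 0x0,
nat_lit 0x0,
nat_lit 0x0,
nat_lit 0x0,
nat_lit 0x0,
nat_lit 0x0,
nat_lit 0x0,
nat_lit 0x0,
nat_lit 0x0,
nat_lit 0x0,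
nat_lit 0x0,
nat_lit 0x0,
nat_lit 0x0,
nat_lit 0x0,
nat_lit 0x0,
nat_lit 0x0,
nat_lit 0x0,
nat_lit 0x0,
nat_lit 0x0,
nat_lit 0x0,
nat_lit 0x0,
nat_lit 0x0,
nat_lit 0x0,
nat_lit 0x0,
nat_lit 0x0,
nat_lit 0x0,
nat_lit 0x0,
nat_lit 0x0,
nat_lit 0x0,
nat_lit 0x0,
nat_lit 0x0,
nat_lit 0x0,
nat_lit 0x0,
nat_lit 0x0,
nat_lit 0x0,
nat_lit 0x0,
nat_lit 0x0,
nat_lit 0x0,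
nat_lit 0x0,
nat_lit 0x0,
nat_lit 0x0,
nat_lit 0x0,
nat_lit 0x0,
nat_lit 0x0,
nat_lit 0x0,
nat_lit 0x0,
nat_lit 0x0,
nat_lit 0x0,
nat_lit 0x0,
nat_lit 0x0,
nat_lit 0x0,
nat_lit 0x0,
nat_lit 0x0,
nat_lit 0x0,
nat_lit 0x0,
nat_lit 0x0,
nat_lit 0x0,
nat_lit 0x0,
nat_lit 0x0,
nat_lit 0x0,
nat_lit 0x0,
nat_lit 0x0,
nat_lit 0x0,
nat_lit 0x0,
nat_lit 0x0,
nat_lit 0x0,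
nat_lit 0x0,
nat_lit 0x0,
nat_lit 0x0,
nat_lit 0x0,
nat_lit 0x0,
nat_lit 0x0,
nat_lit 0x0,
nat_lit 0x0,
nat_lit 0x0,
nat_lit 0x0,
nat_lit 0x0,
nat_lit 0x0,
nat_lit 0x0,
nat_lit 0x0,
nat_lit 0x0,
nat_lit 0x0,
nat_lit 0x0,
nat_lit 0x0,
nat_lit 0x0,
nat_lit 0x0,
nat_lit 0x0,
nat_lit 0x0,
nat_lit 0x0,
nat_lit 0x0,
nat_lit 0x0,
nat_lit 0x0,
nat_lit 0x0,
nat_lit 0x0,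
nat_lit 0x0,
nat_lit 0x0,
nat_lit 0x0,
nat_lit 0x0,
nat_lit 0x0,
nat_lit 0x0,
nat_lit 0x0,
nat_lit 0x0,
nat_lit 0x0,
nat_lit 0x0,
nat_lit 0x0,
nat_lit 0x0,
nat_lit 0x0,
nat_lit 0x0,
nat_lit 0x0,
nat_lit 0x0,
nat_lit 0x0,
nat_lit 0x0,
nat_lit 0x0,
nat_lit 0x0,
nat_lit 0x0,
nat_lit 0x0,
nat_lit 0x0,
nat_lit 0x0,
nat_lit 0x0,
nat_lit 0x0,
nat_lit 0x0,
nat_lit 0x0,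
nat_lit 0x0,
nat_lit 0x0,
nat_lit 0x0,
nat_lit 0x0,
nat_lit 0x0,
nat_lit 0x0,
nat_lit 0x0,
nat_lit 0x0,
nat_lit 0x0,
nat_lit 0x0,
nat_lit 0x0,
nat_lit 0x0,
nat_lit 0x0,
nat_lit 0x0,
nat_lit 0x0,
nat_lit 0x0,
nat_lit 0x0,
nat_lit 0x0,
nat_lit 0x0,
nat_lit 0x0,
nat_lit 0x0,
nat_lit 0x0,
nat_lit 0x0,
nat_lit 0x0,
nat_lit 0x0,
nat_lit 0x0,
nat_lit 0x0,
nat_lit 0x0,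
nat_lit 0x0,
nat_lit 0x0,
nat_lit 0x0,
nat_lit 0x0,
nat_lit 0x0,
nat_lit 0x0,
nat_lit 0x0,
nat_lit 0x0,
nat_lit 0x0,
nat_lit 0x0,
nat_lit 0x0,
nat_lit 0x0,
nat_lit 0x0,
nat_lit 0x0,
nat_lit 0x0,
nat_lit 0x0,
nat_lit 0x0,
nat_lit 0x0,
nat_lit 0x0,
nat_lit 0x0,
nat_lit 0x0,
nat_lit 0x0,
nat_lit 0x0,
nat_lit 0x0,
nat_lit 0x0,
nat_lit 0x0,
nat_lit 0x0,
nat_lit 0x0,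
nat_lit 0x0,
nat_lit 0x0,
nat_lit 0x0,
nat_lit 0x0,
nat_lit 0x0,
nat_lit 0x0,
nat_lit 0x0,
nat_lit 0x0,
nat_lit 0x0,
nat_lit 0x0,
nat_lit 0x0,
nat_lit 0x0,
nat_lit 0x0,
nat_lit 0x0,
nat_lit 0x0,
nat_lit 0x0,
nat_lit 0x0,
nat_lit 0x0,
nat_lit 0x0,
nat_lit 0x0,
nat_lit 0x0,
nat_lit 0x0,
nat_lit 0x0,
nat_lit 0x0,
nat_lit 0x0,
nat_lit 0x0,
nat_lit 0x0,
nat_lit 0x0,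
nat_lit 0x0,
nat_lit 0x0,
nat_lit 0x0,
nat_lit 0x0,
nat_lit 0x0,
nat_lit 0x0,
nat_lit 0x0,
nat_lit 0x0,
nat_lit 0x0,
nat_lit 0x0,
nat_lit 0x0,
nat_lit 0x0,
nat_lit 0x0,
nat_lit 0x0,
nat_lit 0x0,
nat_lit 0x0,
nat_lit 0x0,
nat_lit 0x0,
nat_lit 0x0,
nat_lit 0x0,
nat_lit 0x0,
nat_lit 0x0,
nat_lit 0x0,
nat_lit 0x0,
nat_lit 0x0,
nat_lit 0x0,
nat_lit 0x0,
nat_lit 0x0,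
nat_lit 0x0,
nat_lit 0x0,
nat_lit 0x0,
nat_lit 0x0,
nat_lit 0x0,
nat_lit 0x0,
nat_lit 0x0,
nat_lit 0x0,
nat_lit 0x0,
nat_lit 0x0,
nat_lit 0x0,
nat_lit 0x0,
nat_lit 0x0,
nat_lit 0x0,
nat_lit 0x0,
nat_lit 0x0,
nat_lit 0x0,
nat_lit 0x0,
nat_lit 0x0,
nat_lit 0x0,
nat_lit 0x0,
nat_lit 0x0,
nat_lit 0x0,
nat_lit 0x0,
nat_lit 0x0,
nat_lit 0x0,
nat_lit 0x0,
nat_lit 0x0,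
nat_lit 0x0,
nat_lit 0x0,
nat_lit 0x0,
nat_lit 0x0,
nat_lit 0x0,
nat_lit 0x0,
nat_lit 0x0,
nat_lit 0x0,
nat_lit 0x0,
nat_lit 0x0,
nat_lit 0x0,
nat_lit 0x0,
nat_lit 0x0,
nat_lit 0x0,
nat_lit 0x0,
nat_lit 0x0,
nat_lit 0x0,
nat_lit 0x0,
nat_lit 0x0,
nat_lit 0x0,
nat_lit 0x0,
nat_lit 0x0,
nat_lit 0x0,
nat_lit 0x0,
nat_lit 0x0,
nat_lit 0x0,
nat_lit 0x0,
nat_lit 0x0,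
nat_lit 0x0,
nat_lit 0x0,
nat_lit 0x0,
nat_lit 0x0,
nat_lit 0x0,
nat_lit 0x0,
nat_lit 0x0,
nat_lit 0x0,
nat_lit 0x0,
nat_lit 0x0,
nat_lit 0x0,
nat_lit 0x0,
nat_lit 0x0,
nat_lit 0x0,
nat_lit 0x0,
nat_lit 0x0,
nat_lit 0x0,
nat_lit 0x0,
nat_lit 0x0,
nat_lit 0x0,
nat_lit 0x0,
nat_lit 0x0,
nat_lit 0x0,
nat_lit 0x0,
nat_lit 0x0,
nat_lit 0x0,
nat_lit 0x0,
nat_lit 0x0,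
nat_lit 0x0,
nat_lit 0x0,
nat_lit 0x0,
nat_lit 0x0,
nat_lit 0x0,
nat_lit 0x0,
nat_lit 0x0,
nat_lit 0x0,
nat_lit 0x0,
nat_lit 0x0,
nat_lit 0x0,
nat_lit 0x0,
nat_lit 0x0,
nat_lit 0x0,
nat_lit 0x0,
nat_lit 0x0,
nat_lit 0x0,
nat_lit 0x0,
nat_lit 0x0,
nat_lit 0x0,
nat_lit 0x0,
nat_lit 0x0,
nat_lit 0x0,
nat_lit 0x0,
nat_lit 0x0,
nat_lit 0x0,
nat_lit 0x0,
nat_lit 0x0,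
nat_lit 0x0,
nat_lit 0x0,
nat_lit 0x0,
nat_lit 0x0,
nat_lit 0x0,
nat_lit 0x0,
nat_lit 0x0,
nat_lit 0x0,
nat_lit 0x0,
nat_lit 0x0,
nat_lit 0x0,
nat_lit 0x0,
nat_lit 0x0,
nat_lit 0x0,
nat_lit 0x0,
nat_lit 0x0,
nat_lit 0x0,
nat_lit 0x0,
nat_lit 0x0,
nat_lit 0x0,
nat_lit 0x0,
nat_lit 0x0,
nat_lit 0x0,
nat_lit 0x0,
nat_lit 0x0,
nat_lit 0x0,
nat_lit 0x0,
nat_lit 0x0,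
nat_lit 0x0,
nat_lit 0x0,
nat_lit 0x0,
nat_lit 0x0,
nat_lit 0x0,
nat_lit 0x0,
nat_lit 0x0,
nat_lit 0x0,
nat_lit 0x0,
nat_lit 0x0,
nat_lit 0x0,
nat_lit 0x0,
nat_lit 0x0,
nat_lit 0x0,
nat_lit 0x0,
nat_lit 0x0,
nat_lit 0x0,
nat_lit 0x0,
nat_lit 0x0,
nat_lit 0x0,
nat_lit 0x0,
nat_lit 0x0,
nat_lit 0x0,
nat_lit 0x0,
nat_lit 0x0,
nat_lit 0x0,
nat_lit 0x0,
nat_lit 0x0,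
nat_lit 0x0,
nat_lit 0x0,
nat_lit 0x0,
nat_lit 0x0,
nat_lit 0x0,
nat_lit 0x0,
nat_lit 0x0,
nat_lit 0x0,
nat_lit 0x0,
nat_lit 0x0,
nat_lit 0x0,
nat_lit 0x0,
nat_lit 0x0,
nat_lit 0x0,
nat_lit 0x0,
nat_lit 0x0,
nat_lit 0x0,
nat_lit 0x0,
nat_lit 0x0,
nat_lit 0x0,
nat_lit 0x0,
nat_lit 0x0,
nat_lit 0x0,
nat_lit 0x0,
nat_lit 0x0,
nat_lit 0x0,
nat_lit 0x0,
nat_lit 0x0,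
nat_lit 0x0,
nat_lit 0x0,
nat_lit 0x0,
nat_lit 0x0,
nat_lit 0x0,
nat_lit 0x0,
nat_lit 0x0,
nat_lit 0x0,
nat_lit 0x0,
nat_lit 0x0,
nat_lit 0x0,
nat_lit 0x0,
nat_lit 0x0,
nat_lit 0x0,
nat_lit 0x0,
nat_lit 0x0,
nat_lit 0x0,
nat_lit 0x0,
nat_lit 0x0,
nat_lit 0x0,
nat_lit 0x0,
nat_lit 0x0,
nat_lit 0x0,
nat_lit 0x0,
nat_lit 0x0,
nat_lit 0x0,
nat_lit 0x0,
nat_lit 0x0,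
nat_lit 0x0,
nat_lit 0x0,
nat_lit 0x0,
nat_lit 0x0,
nat_lit 0x0,
nat_lit 0x0,
nat_lit 0x0,
nat_lit 0x0,
nat_lit 0x0,
nat_lit 0x0,
nat_lit 0x0,
nat_lit 0x0,
nat_lit 0x0,
nat_lit 0x0,
nat_lit 0x0,
nat_lit 0x0,
nat_lit 0x0,
nat_lit 0x0,
nat_lit 0x0,
nat_lit 0x0,
nat_lit 0x0,
nat_lit 0x0,
nat_lit 0x0,
nat_lit 0x0,
nat_lit 0x0,
nat_lit 0x0,
nat_lit 0x0,
nat_lit 0x0,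
nat_lit 0x0,
nat_lit 0x0,
nat_lit 0x0,
nat_lit 0x0]

theorem facts_ok20992 : checkFacts facts 18364758544493064720 words 128 subs 49982 items20992 20992 = true := by decide +kernel

noncomputable def items21504 : List ℕ := [
nat_lit 0x0,
nat_lit 0x0,
nat_lit 0x0,
nat_lit 0x0,
nat_lit 0x0,
nat_lit 0x0,
nat_lit 0x0,
nat_lit 0x0,
nat_lit 0x0,
nat_lit 0x0,
nat_lit 0x0,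
nat_lit 0x0,
nat_lit 0x0,
nat_lit 0x0,
nat_lit 0x0,
nat_lit 0x0,
nat_lit 0x0,
nat_lit 0x0,
nat_lit 0x0,
nat_lit 0x0,
nat_lit 0x0,
nat_lit 0x0,
nat_lit 0x0,
nat_lit 0x0,
nat_lit 0x0,
nat_lit 0x0,
nat_lit 0x0,
nat_lit 0x0,
nat_lit 0x0,
nat_lit 0x0,
nat_lit 0x0,
nat_lit 0x0,
nat_lit 0x0,
nat_lit 0x0,
nat_lit 0x0,
nat_lit 0x0,
nat_lit 0x0,
nat_lit 0x0,
nat_lit 0x0,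
nat_lit 0x0,
nat_lit 0x0,
nat_lit 0x0,
nat_lit 0x0,
nat_lit 0x0,
nat_lit 0x0,
nat_lit 0x0,
nat_lit 0x0,
nat_lit 0x0,
nat_lit 0x0,
nat_lit 0x0,
nat_lit 0x0,
nat_lit 0x0,
nat_lit 0x0,
nat_lit 0x0,
nat_lit 0x0,
nat_lit 0x0,
nat_lit 0x0,
nat_lit 0x0,
nat_lit 0x0,
nat_lit 0x0,
nat_lit 0x0,
nat_lit 0x0,
nat_lit 0x0,
nat_lit 0x0,
nat_lit 0x0,
nat_lit 0x0,
nat_lit 0x0,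
nat_lit 0x0,
nat_lit 0x0,
nat_lit 0x0,
nat_lit 0x0,
nat_lit 0x0,
nat_lit 0x0,
nat_lit 0x0,
nat_lit 0x0,
nat_lit 0x0,
nat_lit 0x0,
nat_lit 0x0,
nat_lit 0x0,
nat_lit 0x0,
nat_lit 0x0,
nat_lit 0x0,
nat_lit 0x0,
nat_lit 0x0,
nat_lit 0x0,
nat_lit 0x0,
nat_lit 0x0,
nat_lit 0x0,
nat_lit 0x0,
nat_lit 0x0,
nat_lit 0x0,
nat_lit 0x0,
nat_lit 0x0,
nat_lit 0x0,
nat_lit 0x0,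
nat_lit 0x0,
nat_lit 0x0,
nat_lit 0x0,
nat_lit 0x0,
nat_lit 0x0,
nat_lit 0x0,
nat_lit 0x0,
nat_lit 0x0,
nat_lit 0x0,
nat_lit 0x0,
nat_lit 0x0,
nat_lit 0x0,
nat_lit 0x0,
nat_lit 0x0,
nat_lit 0x0,
nat_lit 0x0,
nat_lit 0x0,
nat_lit 0x0,
nat_lit 0x0,
nat_lit 0x0,
nat_lit 0x0,
nat_lit 0x0,
nat_lit 0x0,
nat_lit 0x0,
nat_lit 0x0,
nat_lit 0x0,
nat_lit 0x0,
nat_lit 0x0,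
nat_lit 0x0,
nat_lit 0x0,
nat_lit 0x0,
nat_lit 0x0,
nat_lit 0x0,
nat_lit 0x0,
nat_lit 0x0,
nat_lit 0x0,
nat_lit 0x0,
nat_lit 0x0,
nat_lit 0x0,
nat_lit 0x0,
nat_lit 0x0,
nat_lit 0x0,
nat_lit 0x0,
nat_lit 0x0,
nat_lit 0x0,
nat_lit 0x0,
nat_lit 0x0,
nat_lit 0x0,
nat_lit 0x0,
nat_lit 0x0,
nat_lit 0x0,
nat_lit 0x0,
nat_lit 0x0,
nat_lit 0x0,
nat_lit 0x0,
nat_lit 0x0,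
nat_lit 0x0,
nat_lit 0x0,
nat_lit 0x0,
nat_lit 0x0,
nat_lit 0x0,
nat_lit 0x0,
nat_lit 0x0,
nat_lit 0x0,
nat_lit 0x0,
nat_lit 0x0,
nat_lit 0x0,
nat_lit 0x0,
nat_lit 0x0,
nat_lit 0x0,
nat_lit 0x0,
nat_lit 0x0,
nat_lit 0x0,
nat_lit 0x0,
nat_lit 0x0,
nat_lit 0x0,
nat_lit 0x0,
nat_lit 0x0,
nat_lit 0x0,
nat_lit 0x0,
nat_lit 0x0,
nat_lit 0x0,
nat_lit 0x0,
nat_lit 0x0,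
nat_lit 0x0,
nat_lit 0x0,
nat_lit 0x0,
nat_lit 0x0,
nat_lit 0x0,
nat_lit 0x0,
nat_lit 0x0,
nat_lit 0x0,
nat_lit 0x0,
nat_lit 0x0,
nat_lit 0x0,
nat_lit 0x0,
nat_lit 0x0,
nat_lit 0x0,
nat_lit 0x0,
nat_lit 0x0,
nat_lit 0x0,
nat_lit 0x0,
nat_lit 0x0,
nat_lit 0x0,
nat_lit 0x0,
nat_lit 0x0,
nat_lit 0x0,
nat_lit 0x0,
nat_lit 0x0,
nat_lit 0x0,
nat_lit 0x0,
nat_lit 0x0,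
nat_lit 0x0,
nat_lit 0x0,
nat_lit 0x0,
nat_lit 0x0,
nat_lit 0x0,
nat_lit 0x0,
nat_lit 0x0,
nat_lit 0x0,
nat_lit 0x0,
nat_lit 0x0,
nat_lit 0x0,
nat_lit 0x0,
nat_lit 0x0,
nat_lit 0x0,
nat_lit 0x0,
nat_lit 0x0,
nat_lit 0x0,
nat_lit 0x0,
nat_lit 0x0,
nat_lit 0x0,
nat_lit 0x0,
nat_lit 0x0,
nat_lit 0x0,
nat_lit 0x0,
nat_lit 0x0,
nat_lit 0x0,
nat_lit 0x0,
nat_lit 0x0,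
nat_lit 0x0,
nat_lit 0x0,
nat_lit 0x0,
nat_lit 0x0,
nat_lit 0x0,
nat_lit 0x0,
nat_lit 0x0,
nat_lit 0x0,
nat_lit 0x0,
nat_lit 0x0,
nat_lit 0x0,
nat_lit 0x0,
nat_lit 0x0,
nat_lit 0x0,
nat_lit 0x0,
nat_lit 0x0,
nat_lit 0x0,
nat_lit 0x0,
nat_lit 0x0,
nat_lit 0x0,
nat_lit 0x0,
nat_lit 0x0,
nat_lit 0x0,
nat_lit 0x0,
nat_lit 0x0,
nat_lit 0x0,
nat_lit 0x0,
nat_lit 0x0,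
nat_lit 0x0,
nat_lit 0x0,
nat_lit 0x0,
nat_lit 0x0,
nat_lit 0x0,
nat_lit 0x0,
nat_lit 0x0,
nat_lit 0x0,
nat_lit 0x0,
nat_lit 0x0,
nat_lit 0x0,
nat_lit 0x0,
nat_lit 0x0,
nat_lit 0x0,
nat_lit 0x0,
nat_lit 0x0,
nat_lit 0x0,
nat_lit 0x0,
nat_lit 0x0,
nat_lit 0x0,
nat_lit 0x0,
nat_lit 0x0,
nat_lit 0x0,
nat_lit 0x0,
nat_lit 0x0,
nat_lit 0x0,
nat_lit 0x0,
nat_lit 0x0,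
nat_lit 0x0,
nat_lit 0x0,
nat_lit 0x0,
nat_lit 0x0,
nat_lit 0x0,
nat_lit 0x0,
nat_lit 0x0,
nat_lit 0x0,
nat_lit 0x0,
nat_lit 0x0,
nat_lit 0x0,
nat_lit 0x0,
nat_lit 0x0,
nat_lit 0x0,
nat_lit 0x0,
nat_lit 0x0,
nat_lit 0x0,
nat_lit 0x0,
nat_lit 0x0,
nat_lit 0x0,
nat_lit 0x0,
nat_lit 0x0,
nat_lit 0x0,
nat_lit 0x0,
nat_lit 0x0,
nat_lit 0x0,
nat_lit 0x0,
nat_lit 0x0,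
nat_lit 0x0,
nat_lit 0x0,
nat_lit 0x0,
nat_lit 0x0,
nat_lit 0x0,
nat_lit 0x0,
nat_lit 0x0,
nat_lit 0x0,
nat_lit 0x0,
nat_lit 0x0,
nat_lit 0x0,
nat_lit 0x0,
nat_lit 0x0,
nat_lit 0x0,
nat_lit 0x0,
nat_lit 0x0,
nat_lit 0x0,
nat_lit 0x0,
nat_lit 0x0,
nat_lit 0x0,
nat_lit 0x0,
nat_lit 0x0,
nat_lit 0x0,
nat_lit 0x0,
nat_lit 0x0,
nat_lit 0x0,
nat_lit 0x0,
nat_lit 0x0,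
nat_lit 0x0,
nat_lit 0x0,
nat_lit 0x0,
nat_lit 0x0,
nat_lit 0x0,
nat_lit 0x0,
nat_lit 0x0,
nat_lit 0x0,
nat_lit 0x0,
nat_lit 0x0,
nat_lit 0x0,
nat_lit 0x0,
nat_lit 0x0,
nat_lit 0x0,
nat_lit 0x0,
nat_lit 0x0,
nat_lit 0x0,
nat_lit 0x0,
nat_lit 0x0,
nat_lit 0x0,
nat_lit 0x0,
nat_lit 0x0,
nat_lit 0x0,
nat_lit 0x0,
nat_lit 0x0,
nat_lit 0x0,
nat_lit 0x0,
nat_lit 0x0,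
nat_lit 0x0,
nat_lit 0x0,
nat_lit 0x0,
nat_lit 0x0,
nat_lit 0x0,
nat_lit 0x0,
nat_lit 0x0,
nat_lit 0x0,
nat_lit 0x0,
nat_lit 0x0,
nat_lit 0x0,
nat_lit 0x0,
nat_lit 0x0,
nat_lit 0x0,
nat_lit 0x0,
nat_lit 0x0,
nat_lit 0x0,
nat_lit 0x0,
nat_lit 0x0,
nat_lit 0x0,
nat_lit 0x0,
nat_lit 0x0,
nat_lit 0x0,
nat_lit 0x0,
nat_lit 0x0,
nat_lit 0x0,
nat_lit 0x0,
nat_lit 0x0,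
nat_lit 0x0,
nat_lit 0x0,
nat_lit 0x0,
nat_lit 0x0,
nat_lit 0x0,
nat_lit 0x0,
nat_lit 0x0,
nat_lit 0x0,
nat_lit 0x0,
nat_lit 0x0,
nat_lit 0x0,
nat_lit 0x0,
nat_lit 0x0,
nat_lit 0x0,
nat_lit 0x0,
nat_lit 0x0,
nat_lit 0x0,
nat_lit 0x0,
nat_lit 0x0,
nat_lit 0x0,
nat_lit 0x0,
nat_lit 0x0,
nat_lit 0x0,
nat_lit 0x0,
nat_lit 0x0,
nat_lit 0x0,
nat_lit 0x0,
nat_lit 0x0,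
nat_lit 0x0,
nat_lit 0x0,
nat_lit 0x0,
nat_lit 0x0,
nat_lit 0x0,
nat_lit 0x0,
nat_lit 0x0,
nat_lit 0x0,
nat_lit 0x0,
nat_lit 0x0,
nat_lit 0x0,
nat_lit 0x0,
nat_lit 0x0,
nat_lit 0x0,
nat_lit 0x0,
nat_lit 0x0,
nat_lit 0x0,
nat_lit 0x0,
nat_lit 0x0,
nat_lit 0x0,
nat_lit 0x0,
nat_lit 0x0,
nat_lit 0x0,
nat_lit 0x0,
nat_lit 0x0,
nat_lit 0x0,
nat_lit 0x0,
nat_lit 0x0,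
nat_lit 0x0,
nat_lit 0x0,
nat_lit 0x0,
nat_lit 0x0,
nat_lit 0x0,
nat_lit 0x0,
nat_lit 0x0,
nat_lit 0x0,
nat_lit 0x0,
nat_lit 0x0,
nat_lit 0x0,
nat_lit 0x0,
nat_lit 0x0,
nat_lit 0x0,
nat_lit 0x0,
nat_lit 0x0,
nat_lit 0x0,
nat_lit 0x0,
nat_lit 0x0,
nat_lit 0x0,
nat_lit 0x0,
nat_lit 0x0,
nat_lit 0x0,
nat_lit 0x0,
nat_lit 0x0,
nat_lit 0x0,
nat_lit 0x0,
nat_lit 0x0,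
nat_lit 0x0,
nat_lit 0x0,
nat_lit 0x0,
nat_lit 0x0,
nat_lit 0x0,
nat_lit 0x0,
nat_lit 0x0,
nat_lit 0x0,
nat_lit 0x0,
nat_lit 0x0,
nat_lit 0x0,
nat_lit 0x0,
nat_lit 0x0,
nat_lit 0x0,
nat_lit 0x0,
nat_lit 0x0,
nat_lit 0x0,
nat_lit 0x0,
nat_lit 0x0,
nat_lit 0x0,
nat_lit 0x0,
nat_lit 0x0,
nat_lit 0x0,
nat_lit 0x0,
nat_lit 0x0]

theorem facts_ok21504 : checkFacts facts 18364758544493064720 words 128 subs 49982 items21504 21504 = true := by decide +kernel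

noncomputable def items22016 : List ℕ := [
nat_lit 0x0,
nat_lit 0x0,
nat_lit 0x0,
nat_lit 0x0,
nat_lit 0x0,
nat_lit 0x0,
nat_lit 0x0,
nat_lit 0x0,
nat_lit 0x0,
nat_lit 0x0,
nat_lit 0x0,
nat_lit 0x0,
nat_lit 0x0,
nat_lit 0x0,
nat_lit 0x0,
nat_lit 0x0,
nat_lit 0x0,
nat_lit 0x0,
nat_lit 0x0,
nat_lit 0x0,
nat_lit 0x0,
nat_lit 0x0,
nat_lit 0x0,
nat_lit 0x0,
nat_lit 0x0,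
nat_lit 0x0,
nat_lit 0x0,
nat_lit 0x0,
nat_lit 0x0,
nat_lit 0x0,
nat_lit 0x0,
nat_lit 0x0,
nat_lit 0x0,
nat_lit 0x0,
nat_lit 0x0,
nat_lit 0x0,
nat_lit 0x0,
nat_lit 0x0,
nat_lit 0x0,
nat_lit 0x0,
nat_lit 0x0,
nat_lit 0x0,
nat_lit 0x0,
nat_lit 0x0,
nat_lit 0x0,
nat_lit 0x0,
nat_lit 0x0,
nat_lit 0x0,
nat_lit 0x0,
nat_lit 0x0,
nat_lit 0x0,
nat_lit 0x0,
nat_lit 0x0,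
nat_lit 0x0,
nat_lit 0x0,
nat_lit 0x0,
nat_lit 0x0,
nat_lit 0x0,
nat_lit 0x0,
nat_lit 0x0,
nat_lit 0x0,
nat_lit 0x0,
nat_lit 0x0,
nat_lit 0x0,
nat_lit 0x0,
nat_lit 0x0,
nat_lit 0x0,
nat_lit 0x0,
nat_lit 0x0,
nat_lit 0x0,
nat_lit 0x0,
nat_lit 0x0,
nat_lit 0x0,
nat_lit 0x0,
nat_lit 0x0,
nat_lit 0x0,
nat_lit 0x0,
nat_lit 0x0,
nat_lit 0x0,
nat_lit 0x0,
nat_lit 0x0,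
nat_lit 0x0,
nat_lit 0x0,
nat_lit 0x0,
nat_lit 0x0,
nat_lit 0x0,
nat_lit 0x0,
nat_lit 0x0,
nat_lit 0x0,
nat_lit 0x0,
nat_lit 0x0,
nat_lit 0x0,
nat_lit 0x0,
nat_lit 0x0,
nat_lit 0x0,
nat_lit 0x0,
nat_lit 0x0,
nat_lit 0x0,
nat_lit 0x0,
nat_lit 0x0,
nat_lit 0x0,
nat_lit 0x0,
nat_lit 0x0,
nat_lit 0x0,
nat_lit 0x0,
nat_lit 0x0,
nat_lit 0x0,
nat_lit 0x0,
nat_lit 0x0,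
nat_lit 0x0,
nat_lit 0x0,
nat_lit 0x0,
nat_lit 0x0,
nat_lit 0x0,
nat_lit 0x0,
nat_lit 0x0,
nat_lit 0x0,
nat_lit 0x0,
nat_lit 0x0,
nat_lit 0x0,
nat_lit 0x0,
nat_lit 0x0,
nat_lit 0x0,
nat_lit 0x0,
nat_lit 0x0,
nat_lit 0x0,
nat_lit 0x0,
nat_lit 0x0,
nat_lit 0x0,
nat_lit 0x0,
nat_lit 0x0,
nat_lit 0x0,
nat_lit 0x0,
nat_lit 0x0,
nat_lit 0x0,
nat_lit 0x0,
nat_lit 0x0,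
nat_lit 0x0,
nat_lit 0x0,
nat_lit 0x0,
nat_lit 0x0,
nat_lit 0x0,
nat_lit 0x0,
nat_lit 0x0,
nat_lit 0x0,
nat_lit 0x0,
nat_lit 0x0,
nat_lit 0x0,
nat_lit 0x0,
nat_lit 0x0,
nat_lit 0x0,
nat_lit 0x0,
nat_lit 0x0,
nat_lit 0x0,
nat_lit 0x0,
nat_lit 0x0,
nat_lit 0x0,
nat_lit 0x0,
nat_lit 0x0,
nat_lit 0x0,
nat_lit 0x0,
nat_lit 0x0,
nat_lit 0x0,
nat_lit 0x0,
nat_lit 0x0,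
nat_lit 0x0,
nat_lit 0x0,
nat_lit 0x0,
nat_lit 0x0,
nat_lit 0x0,
nat_lit 0x0,
nat_lit 0x0,
nat_lit 0x0,
nat_lit 0x0,
nat_lit 0x0,
nat_lit 0x0,
nat_lit 0x0,
nat_lit 0x0,
nat_lit 0x0,
nat_lit 0x0,
nat_lit 0x0,
nat_lit 0x0,
nat_lit 0x0,
nat_lit 0x0,
nat_lit 0x0,
nat_lit 0x0,
nat_lit 0x0,
nat_lit 0x0,
nat_lit 0x0,
nat_lit 0x0,
nat_lit 0x0,
nat_lit 0x0,
nat_lit 0x0,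
nat_lit 0x0,
nat_lit 0x0,
nat_lit 0x0,
nat_lit 0x0,
nat_lit 0x0,
nat_lit 0x0,
nat_lit 0x0,
nat_lit 0x0,
nat_lit 0x0,
nat_lit 0x0,
nat_lit 0x0,
nat_lit 0x0,
nat_lit 0x0,
nat_lit 0x0,
nat_lit 0x0,
nat_lit 0x0,
nat_lit 0x0,
nat_lit 0x0,
nat_lit 0x0,
nat_lit 0x0,
nat_lit 0x0,
nat_lit 0x0,
nat_lit 0x0,
nat_lit 0x0,
nat_lit 0x0,
nat_lit 0x0,
nat_lit 0x0,
nat_lit 0x0,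
nat_lit 0x0,
nat_lit 0x0,
nat_lit 0x0,
nat_lit 0x0,
nat_lit 0x0,
nat_lit 0x0,
nat_lit 0x0,
nat_lit 0x0,
nat_lit 0x0,
nat_lit 0x0,
nat_lit 0x0,
nat_lit 0x0,
nat_lit 0x0,
nat_lit 0x0,
nat_lit 0x0,
nat_lit 0x0,
nat_lit 0x0,
nat_lit 0x0,
nat_lit 0x0,
nat_lit 0x0,
nat_lit 0x0,
nat_lit 0x0,
nat_lit 0x0,
nat_lit 0x0,
nat_lit 0x0,
nat_lit 0x0,
nat_lit 0x0,
nat_lit 0x0,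
nat_lit 0x0,
nat_lit 0x0,
nat_lit 0x0,
nat_lit 0x0,
nat_lit 0x0,
nat_lit 0x0,
nat_lit 0x0,
nat_lit 0x0,
nat_lit 0x0,
nat_lit 0x0,
nat_lit 0x0,
nat_lit 0x0,
nat_lit 0x0,
nat_lit 0x0,
nat_lit 0x0,
nat_lit 0x0,
nat_lit 0x0,
nat_lit 0x0,
nat_lit 0x0,
nat_lit 0x0,
nat_lit 0x0,
nat_lit 0x0,
nat_lit 0x0,
nat_lit 0x0,
nat_lit 0x0,
nat_lit 0x0,
nat_lit 0x0,
nat_lit 0x0,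
nat_lit 0x0,
nat_lit 0x0,
nat_lit 0x0,
nat_lit 0x0,
nat_lit 0x0,
nat_lit 0x0,
nat_lit 0x0,
nat_lit 0x0,
nat_lit 0x0,
nat_lit 0x0,
nat_lit 0x0,
nat_lit 0x0,
nat_lit 0x0,
nat_lit 0x0,
nat_lit 0x0,
nat_lit 0x0,
nat_lit 0x0,
nat_lit 0x0,
nat_lit 0x0,
nat_lit 0x0,
nat_lit 0x0,
nat_lit 0x0,
nat_lit 0x0,
nat_lit 0x0,
nat_lit 0x0,
nat_lit 0x0,
nat_lit 0x0,
nat_lit 0x0,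
nat_lit 0x0,
nat_lit 0x0,
nat_lit 0x0,
nat_lit 0x0,
nat_lit 0x0,
nat_lit 0x0,
nat_lit 0x0,
nat_lit 0x0,
nat_lit 0x0,
nat_lit 0x0,
nat_lit 0x0,
nat_lit 0x0,
nat_lit 0x0,
nat_lit 0x0,
nat_lit 0x0,
nat_lit 0x0,
nat_lit 0x0,
nat_lit 0x0,
nat_lit 0x0,
nat_lit 0x0,
nat_lit 0x0,
nat_lit 0x0,
nat_lit 0x0,
nat_lit 0x0,
nat_lit 0x0,
nat_lit 0x0,
nat_lit 0x0,
nat_lit 0x0,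
nat_lit 0x0,
nat_lit 0x0,
nat_lit 0x0,
nat_lit 0x0,
nat_lit 0x0,
nat_lit 0x0,
nat_lit 0x0,
nat_lit 0x0,
nat_lit 0x0,
nat_lit 0x0,
nat_lit 0x0,
nat_lit 0x0,
nat_lit 0x0,
nat_lit 0x0,
nat_lit 0x0,
nat_lit 0x0,
nat_lit 0x0,
nat_lit 0x0,
nat_lit 0x0,
nat_lit 0x0,
nat_lit 0x0,
nat_lit 0x0,
nat_lit 0x0,
nat_lit 0x0,
nat_lit 0x0,
nat_lit 0x0,
nat_lit 0x0,
nat_lit 0x0,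
nat_lit 0x0,
nat_lit 0x0,
nat_lit 0x0,
nat_lit 0x0,
nat_lit 0x0,
nat_lit 0x0,
nat_lit 0x0,
nat_lit 0x0,
nat_lit 0x0,
nat_lit 0x0,
nat_lit 0x0,
nat_lit 0x0,
nat_lit 0x0,
nat_lit 0x0,
nat_lit 0x0,
nat_lit 0x0,
nat_lit 0x0,
nat_lit 0x0,
nat_lit 0x0,
nat_lit 0x0,
nat_lit 0x0,
nat_lit 0x0,
nat_lit 0x0,
nat_lit 0x0,
nat_lit 0x0,
nat_lit 0x0,
nat_lit 0x0,
nat_lit 0x0,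
nat_lit 0x0,
nat_lit 0x0,
nat_lit 0x0,
nat_lit 0x0,
nat_lit 0x0,
nat_lit 0x0,
nat_lit 0x0,
nat_lit 0x0,
nat_lit 0x0,
nat_lit 0x0,
nat_lit 0x0,
nat_lit 0x0,
nat_lit 0x0,
nat_lit 0x0,
nat_lit 0x0,
nat_lit 0x0,
nat_lit 0x0,
nat_lit 0x0,
nat_lit 0x0,
nat_lit 0x0,
nat_lit 0x0,
nat_lit 0x0,
nat_lit 0x0,
nat_lit 0x0,
nat_lit 0x0,
nat_lit 0x0,
nat_lit 0x0,
nat_lit 0x0,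
nat_lit 0x0,
nat_lit 0x0,
nat_lit 0x0,
nat_lit 0x0,
nat_lit 0x0,
nat_lit 0x0,
nat_lit 0x0,
nat_lit 0x0,
nat_lit 0x0,
nat_lit 0x0,
nat_lit 0x0,
nat_lit 0x0,
nat_lit 0x0,
nat_lit 0x0,
nat_lit 0x0,
nat_lit 0x0,
nat_lit 0x0,
nat_lit 0x0,
nat_lit 0x0,
nat_lit 0x0,
nat_lit 0x0,
nat_lit 0x0,
nat_lit 0x0,
nat_lit 0x0,
nat_lit 0x0,
nat_lit 0x0,
nat_lit 0x0,
nat_lit 0x0,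
nat_lit 0x0,
nat_lit 0x0,
nat_lit 0x0,
nat_lit 0x0,
nat_lit 0x0,
nat_lit 0x0,
nat_lit 0x0,
nat_lit 0x0,
nat_lit 0x0,
nat_lit 0x0,
nat_lit 0x0,
nat_lit 0x0,
nat_lit 0x0,
nat_lit 0x0,
nat_lit 0x0,
nat_lit 0x0,
nat_lit 0x0,
nat_lit 0x0,
nat_lit 0x0,
nat_lit 0x0,
nat_lit 0x0,
nat_lit 0x0,
nat_lit 0x0,
nat_lit 0x0,
nat_lit 0x0,
nat_lit 0x0,
nat_lit 0x0,
nat_lit 0x0,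
nat_lit 0x0,
nat_lit 0x0,
nat_lit 0x0,
nat_lit 0x0,
nat_lit 0x0,
nat_lit 0x0,
nat_lit 0x0,
nat_lit 0x0,
nat_lit 0x0,
nat_lit 0x0,
nat_lit 0x0,
nat_lit 0x0,
nat_lit 0x0,
nat_lit 0x0,
nat_lit 0x0,
nat_lit 0x0,
nat_lit 0x0,
nat_lit 0x0,
nat_lit 0x0,
nat_lit 0x0,
nat_lit 0x0,
nat_lit 0x0,
nat_lit 0x0,
nat_lit 0x0,
nat_lit 0x0,
nat_lit 0x0,
nat_lit 0x0,
nat_lit 0x0,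
nat_lit 0x0,
nat_lit 0x0,
nat_lit 0x0,
nat_lit 0x0,
nat_lit 0x0,
nat_lit 0x0,
nat_lit 0x0,
nat_lit 0x0,
nat_lit 0x0,
nat_lit 0x0,
nat_lit 0x0]

theorem facts_ok22016 : checkFacts facts 18364758544493064720 words 128 subs 49982 items22016 22016 = true := by decide +kernel

noncomputable def items22528 : List ℕ := [
nat_lit 0x0,
nat_lit 0x0,
nat_lit 0x0,
nat_lit 0x0,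
nat_lit 0x0,
nat_lit 0x0,
nat_lit 0x0,
nat_lit 0x0,
nat_lit 0x0,
nat_lit 0x0,
nat_lit 0x0,
nat_lit 0x0,
nat_lit 0x0,
nat_lit 0x0,
nat_lit 0x0,
nat_lit 0x0,
nat_lit 0x0,
nat_lit 0x0,
nat_lit 0x0,
nat_lit 0x0,
nat_lit 0x0,
nat_lit 0x0,
nat_lit 0x0,
nat_lit 0x0,
nat_lit 0x0,
nat_lit 0x0,
nat_lit 0x0,
nat_lit 0x0,
nat_lit 0x0,
nat_lit 0x0,
nat_lit 0x0,
nat_lit 0x0,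
nat_lit 0x0,
nat_lit 0x0,
nat_lit 0x0,
nat_lit 0x0,
nat_lit 0x0,
nat_lit 0x0,
nat_lit 0x0,
nat_lit 0x0,
nat_lit 0x0,
nat_lit 0x0,
nat_lit 0x0,
nat_lit 0x0,
nat_lit 0x0,
nat_lit 0x0,
nat_lit 0x0,
nat_lit 0x0,
nat_lit 0x0,
nat_lit 0x0,
nat_lit 0x0,
nat_lit 0x0,
nat_lit 0x0,
nat_lit 0x0,
nat_lit 0x0,
nat_lit 0x0,
nat_lit 0x0,
nat_lit 0x0,
nat_lit 0x0,
nat_lit 0x0,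
nat_lit 0x0,
nat_lit 0x0,
nat_lit 0x0,
nat_lit 0x0,
nat_lit 0x0,
nat_lit 0x0,
nat_lit 0x0,
nat_lit 0x0,
nat_lit 0x0,
nat_lit 0x0,
nat_lit 0x0,
nat_lit 0x0,
nat_lit 0x0,
nat_lit 0x0,
nat_lit 0x0,
nat_lit 0x0,
nat_lit 0x0,
nat_lit 0x0,
nat_lit 0x0,
nat_lit 0x0,
nat_lit 0x0,
nat_lit 0x0,
nat_lit 0x0,
nat_lit 0x0,
nat_lit 0x0,
nat_lit 0x0,
nat_lit 0x0,
nat_lit 0x0,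
nat_lit 0x0,
nat_lit 0x0,
nat_lit 0x0,
nat_lit 0x0,
nat_lit 0x0,
nat_lit 0x0,
nat_lit 0x0,
nat_lit 0x0,
nat_lit 0x0,
nat_lit 0x0,
nat_lit 0x0,
nat_lit 0x0,
nat_lit 0x0,
nat_lit 0x0,
nat_lit 0x0,
nat_lit 0x0,
nat_lit 0x0,
nat_lit 0x0,
nat_lit 0x0,
nat_lit 0x0,
nat_lit 0x0,
nat_lit 0x0,
nat_lit 0x0,
nat_lit 0x0,
nat_lit 0x0,
nat_lit 0x0,
nat_lit 0x0,
nat_lit 0x0,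
nat_lit 0x0,
nat_lit 0x0,
nat_lit 0x0,
nat_lit 0x0,
nat_lit 0x0,
nat_lit 0x0,
nat_lit 0x0,
nat_lit 0x0,
nat_lit 0x0,
nat_lit 0x0,
nat_lit 0x0,
nat_lit 0x0,
nat_lit 0x0,
nat_lit 0x0,
nat_lit 0x0,
nat_lit 0x0,
nat_lit 0x0,
nat_lit 0x0,
nat_lit 0x0,
nat_lit 0x0,
nat_lit 0x0,
nat_lit 0x0,
nat_lit 0x0,
nat_lit 0x0,
nat_lit 0x0,
nat_lit 0x0,
nat_lit 0x0,
nat_lit 0x0,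
nat_lit 0x0,
nat_lit 0x0,
nat_lit 0x0,
nat_lit 0x0,
nat_lit 0x0,
nat_lit 0x0,
nat_lit 0x0,
nat_lit 0x0,
nat_lit 0x0,
nat_lit 0x0,
nat_lit 0x0,
nat_lit 0x0,
nat_lit 0x0,
nat_lit 0x0,
nat_lit 0x0,
nat_lit 0x0,
nat_lit 0x0,
nat_lit 0x0,
nat_lit 0x0,
nat_lit 0x0,
nat_lit 0x0,
nat_lit 0x0,
nat_lit 0x0,
nat_lit 0x0,
nat_lit 0x0,
nat_lit 0x0,
nat_lit 0x0,
nat_lit 0x0,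
nat_lit 0x0,
nat_lit 0x0,
nat_lit 0x0,
nat_lit 0x0,
nat_lit 0x0,
nat_lit 0x0,
nat_lit 0x0,
nat_lit 0x0,
nat_lit 0x0,
nat_lit 0x0,
nat_lit 0x0,
nat_lit 0x0,
nat_lit 0x0,
nat_lit 0x0,
nat_lit 0x0,
nat_lit 0x0,
nat_lit 0x0,
nat_lit 0x0,
nat_lit 0x0,
nat_lit 0x0,
nat_lit 0x0,
nat_lit 0x0,
nat_lit 0x0,
nat_lit 0x0,
nat_lit 0x0,
nat_lit 0x0,
nat_lit 0x0,
nat_lit 0x0,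
nat_lit 0x0,
nat_lit 0x0,
nat_lit 0x0,
nat_lit 0x0,
nat_lit 0x0,
nat_lit 0x0,
nat_lit 0x0,
nat_lit 0x0,
nat_lit 0x0,
nat_lit 0x0,
nat_lit 0x0,
nat_lit 0x0,
nat_lit 0x0,
nat_lit 0x0,
nat_lit 0x0,
nat_lit 0x0,
nat_lit 0x0,
nat_lit 0x0,
nat_lit 0x0,
nat_lit 0x0,
nat_lit 0x0,
nat_lit 0x0,
nat_lit 0x0,
nat_lit 0x0,
nat_lit 0x0,
nat_lit 0x0,
nat_lit 0x0,
nat_lit 0x0,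
nat_lit 0x0,
nat_lit 0x0,
nat_lit 0x0,
nat_lit 0x0,
nat_lit 0x0,
nat_lit 0x0,
nat_lit 0x0,
nat_lit 0x0,
nat_lit 0x0,
nat_lit 0x0,
nat_lit 0x0,
nat_lit 0x0,
nat_lit 0x0,
nat_lit 0x0,
nat_lit 0x0,
nat_lit 0x0,
nat_lit 0x0,
nat_lit 0x0,
nat_lit 0x0,
nat_lit 0x0,
nat_lit 0x0,
nat_lit 0x0,
nat_lit 0x0,
nat_lit 0x0,
nat_lit 0x0,
nat_lit 0x0,
nat_lit 0x0,
nat_lit 0x0,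
nat_lit 0x0,
nat_lit 0x0,
nat_lit 0x0,
nat_lit 0x0,
nat_lit 0x0,
nat_lit 0x0,
nat_lit 0x0,
nat_lit 0x0,
nat_lit 0x0,
nat_lit 0x0,
nat_lit 0x0,
nat_lit 0x0,
nat_lit 0x0,
nat_lit 0x0,
nat_lit 0x0,
nat_lit 0x0,
nat_lit 0x0,
nat_lit 0x0,
nat_lit 0x0,
nat_lit 0x0,
nat_lit 0x0,
nat_lit 0x0,
nat_lit 0x0,
nat_lit 0x0,
nat_lit 0x0,
nat_lit 0x0,
nat_lit 0x0,
nat_lit 0x0,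
nat_lit 0x0,
nat_lit 0x0,
nat_lit 0x0,
nat_lit 0x0,
nat_lit 0x0,
nat_lit 0x0,
nat_lit 0x0,
nat_lit 0x0,
nat_lit 0x0,
nat_lit 0x0,
nat_lit 0x0,
nat_lit 0x0,
nat_lit 0x0,
nat_lit 0x0,
nat_lit 0x0,
nat_lit 0x0,
nat_lit 0x0,
nat_lit 0x0,
nat_lit 0x0,
nat_lit 0x0,
nat_lit 0x0,
nat_lit 0x0,
nat_lit 0x0,
nat_lit 0x0,
nat_lit 0x0,
nat_lit 0x0,
nat_lit 0x0,
nat_lit 0x0,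
nat_lit 0x0,
nat_lit 0x0,
nat_lit 0x0,
nat_lit 0x0,
nat_lit 0x0,
nat_lit 0x0,
nat_lit 0x0,
nat_lit 0x0,
nat_lit 0x0,
nat_lit 0x0,
nat_lit 0x0,
nat_lit 0x0,
nat_lit 0x0,
nat_lit 0x0,
nat_lit 0x0,
nat_lit 0x0,
nat_lit 0x0,
nat_lit 0x0,
nat_lit 0x0,
nat_lit 0x0,
nat_lit 0x0,
nat_lit 0x0,
nat_lit 0x0,
nat_lit 0x0,
nat_lit 0x0,
nat_lit 0x0,
nat_lit 0x0,
nat_lit 0x0,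
nat_lit 0x0,
nat_lit 0x0,
nat_lit 0x0,
nat_lit 0x0,
nat_lit 0x0,
nat_lit 0x0,
nat_lit 0x0,
nat_lit 0x0,
nat_lit 0x0,
nat_lit 0x0,
nat_lit 0x0,
nat_lit 0x0,
nat_lit 0x0,
nat_lit 0x0,
nat_lit 0x0,
nat_lit 0x0,
nat_lit 0x0,
nat_lit 0x0,
nat_lit 0x0,
nat_lit 0x0,
nat_lit 0x0,
nat_lit 0x0,
nat_lit 0x0,
nat_lit 0x0,
nat_lit 0x0,
nat_lit 0x0,
nat_lit 0x0,
nat_lit 0x0,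
nat_lit 0x0,
nat_lit 0x0,
nat_lit 0x0,
nat_lit 0x0,
nat_lit 0x0,
nat_lit 0x0,
nat_lit 0x0,
nat_lit 0x0,
nat_lit 0x0,
nat_lit 0x0,
nat_lit 0x0,
nat_lit 0x0,
nat_lit 0x0,
nat_lit 0x0,
nat_lit 0x0,
nat_lit 0x0,
nat_lit 0x0,
nat_lit 0x0,
nat_lit 0x0,
nat_lit 0x0,
nat_lit 0x0,
nat_lit 0x0,
nat_lit 0x0,
nat_lit 0x0,
nat_lit 0x0,
nat_lit 0x0,
nat_lit 0x0,
nat_lit 0x0,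
nat_lit 0x0,
nat_lit 0x0,
nat_lit 0x0,
nat_lit 0x0,
nat_lit 0x0,
nat_lit 0x0,
nat_lit 0x0,
nat_lit 0x0,
nat_lit 0x0,
nat_lit 0x0,
nat_lit 0x0,
nat_lit 0x0,
nat_lit 0x0,
nat_lit 0x0,
nat_lit 0x0,
nat_lit 0x0,
nat_lit 0x0,
nat_lit 0x0,
nat_lit 0x0,
nat_lit 0x0,
nat_lit 0x0,
nat_lit 0x0,
nat_lit 0x0,
nat_lit 0x0,
nat_lit 0x0,
nat_lit 0x0,
nat_lit 0x0,
nat_lit 0x0,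
nat_lit 0x0,
nat_lit 0x0,
nat_lit 0x0,
nat_lit 0x0,
nat_lit 0x0,
nat_lit 0x0,
nat_lit 0x0,
nat_lit 0x0,
nat_lit 0x0,
nat_lit 0x0,
nat_lit 0x0,
nat_lit 0x0,
nat_lit 0x0,
nat_lit 0x0,
nat_lit 0x0,
nat_lit 0x0,
nat_lit 0x0,
nat_lit 0x0,
nat_lit 0x0,
nat_lit 0x0,
nat_lit 0x0,
nat_lit 0x0,
nat_lit 0x0,
nat_lit 0x0,
nat_lit 0x0,
nat_lit 0x0,
nat_lit 0x0,
nat_lit 0x0,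
nat_lit 0x0,
nat_lit 0x0,
nat_lit 0x0,
nat_lit 0x0,
nat_lit 0x0,
nat_lit 0x0,
nat_lit 0x0,
nat_lit 0x0,
nat_lit 0x0,
nat_lit 0x0,
nat_lit 0x0,
nat_lit 0x0,
nat_lit 0x0,
nat_lit 0x0,
nat_lit 0x0,
nat_lit 0x0,
nat_lit 0x0,
nat_lit 0x0,
nat_lit 0x0,
nat_lit 0x0,
nat_lit 0x0,
nat_lit 0x0,
nat_lit 0x0,
nat_lit 0x0,
nat_lit 0x0,
nat_lit 0x0,
nat_lit 0x0,
nat_lit 0x0,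
nat_lit 0x0,
nat_lit 0x0,
nat_lit 0x0,
nat_lit 0x0,
nat_lit 0x0,
nat_lit 0x0,
nat_lit 0x0,
nat_lit 0x0,
nat_lit 0x0,
nat_lit 0x0,
nat_lit 0x0,
nat_lit 0x0,
nat_lit 0x0,
nat_lit 0x0,
nat_lit 0x0,
nat_lit 0x0,
nat_lit 0x0,
nat_lit 0x0,
nat_lit 0x0,
nat_lit 0x0,
nat_lit 0x0,
nat_lit 0x0,
nat_lit 0x0,
nat_lit 0x0,
nat_lit 0x0,
nat_lit 0x0,
nat_lit 0x0,
nat_lit 0x0,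
nat_lit 0x0,
nat_lit 0x0,
nat_lit 0x0,
nat_lit 0x0]

theorem facts_ok22528 : checkFacts facts 18364758544493064720 words 128 subs 49982 items22528 22528 = true := by decide +kernel

noncomputable def items23040 : List ℕ := [
nat_lit 0x0,
nat_lit 0x0,
nat_lit 0x0,
nat_lit 0x0,
nat_lit 0x0,
nat_lit 0x0,
nat_lit 0x0,
nat_lit 0x0,
nat_lit 0x0,
nat_lit 0x0,
nat_lit 0x0,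
nat_lit 0x0,
nat_lit 0x0,
nat_lit 0x0,
nat_lit 0x0,
nat_lit 0x0,
nat_lit 0x0,
nat_lit 0x0,
nat_lit 0x0,
nat_lit 0x0,
nat_lit 0x0,
nat_lit 0x0,
nat_lit 0x0,
nat_lit 0x0,
nat_lit 0x0,
nat_lit 0x0,
nat_lit 0x0,
nat_lit 0x0,
nat_lit 0x0,
nat_lit 0x0,
nat_lit 0x0,
nat_lit 0x0,
nat_lit 0x0,
nat_lit 0x0,
nat_lit 0x0,
nat_lit 0x0,
nat_lit 0x0,
nat_lit 0x0,
nat_lit 0x0,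
nat_lit 0x0,
nat_lit 0x0,
nat_lit 0x0,
nat_lit 0x0,
nat_lit 0x0,
nat_lit 0x0,
nat_lit 0x0,
nat_lit 0x0,
nat_lit 0x0,
nat_lit 0x0,
nat_lit 0x0,
nat_lit 0x0,
nat_lit 0x0,
nat_lit 0x0,
nat_lit 0x0,
nat_lit 0x0,
nat_lit 0x0,
nat_lit 0x0,
nat_lit 0x0,
nat_lit 0x0,
nat_lit 0x0,
nat_lit 0x0,
nat_lit 0x0,
nat_lit 0x0,
nat_lit 0x0,
nat_lit 0x0,
nat_lit 0x0,
nat_lit 0x0,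
nat_lit 0x0,
nat_lit 0x0,
nat_lit 0x0,
nat_lit 0x0,
nat_lit 0x0,
nat_lit 0x0,
nat_lit 0x0,
nat_lit 0x0,
nat_lit 0x0,
nat_lit 0x0,
nat_lit 0x0,
nat_lit 0x0,
nat_lit 0x0,
nat_lit 0x0,
nat_lit 0x0,
nat_lit 0x0,
nat_lit 0x0,
nat_lit 0x0,
nat_lit 0x0,
nat_lit 0x0,
nat_lit 0x0,
nat_lit 0x0,
nat_lit 0x0,
nat_lit 0x0,
nat_lit 0x0,
nat_lit 0x0,
nat_lit 0x0,
nat_lit 0x0,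
nat_lit 0x0,
nat_lit 0x0,
nat_lit 0x0,
nat_lit 0x0,
nat_lit 0x0,
nat_lit 0x0,
nat_lit 0x0,
nat_lit 0x0,
nat_lit 0x0,
nat_lit 0x0,
nat_lit 0x0,
nat_lit 0x0,
nat_lit 0x0,
nat_lit 0x0,
nat_lit 0x0,
nat_lit 0x0,
nat_lit 0x0,
nat_lit 0x0,
nat_lit 0x0,
nat_lit 0x0,
nat_lit 0x0,
nat_lit 0x0,
nat_lit 0x0,
nat_lit 0x0,
nat_lit 0x0,
nat_lit 0x0,
nat_lit 0x0,
nat_lit 0x0,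
nat_lit 0x0,
nat_lit 0x0,
nat_lit 0x0,
nat_lit 0x0,
nat_lit 0x0,
nat_lit 0x0,
nat_lit 0x0,
nat_lit 0x0,
nat_lit 0x0,
nat_lit 0x0,
nat_lit 0x0,
nat_lit 0x0,
nat_lit 0x0,
nat_lit 0x0,
nat_lit 0x0,
nat_lit 0x0,
nat_lit 0x0,
nat_lit 0x0,
nat_lit 0x0,
nat_lit 0x0,
nat_lit 0x0,
nat_lit 0x0,
nat_lit 0x0,
nat_lit 0x0,
nat_lit 0x0,
nat_lit 0x0,
nat_lit 0x0,
nat_lit 0x0,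
nat_lit 0x0,
nat_lit 0x0,
nat_lit 0x0,
nat_lit 0x0,
nat_lit 0x0,
nat_lit 0x0,
nat_lit 0x0,
nat_lit 0x0,
nat_lit 0x0,
nat_lit 0x0,
nat_lit 0x0,
nat_lit 0x0,
nat_lit 0x0,
nat_lit 0x0,
nat_lit 0x0,
nat_lit 0x0,
nat_lit 0x0,
nat_lit 0x0,
nat_lit 0x0,
nat_lit 0x0,
nat_lit 0x0,
nat_lit 0x0,
nat_lit 0x0,
nat_lit 0x0,
nat_lit 0x0,
nat_lit 0x0,
nat_lit 0x0,
nat_lit 0x0,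
nat_lit 0x0,
nat_lit 0x0,
nat_lit 0x0,
nat_lit 0x0,
nat_lit 0x0,
nat_lit 0x0,
nat_lit 0x0,
nat_lit 0x0,
nat_lit 0x0,
nat_lit 0x0,
nat_lit 0x0,
nat_lit 0x0,
nat_lit 0x0,
nat_lit 0x0,
nat_lit 0x0,
nat_lit 0x0,
nat_lit 0x0,
nat_lit 0x0,
nat_lit 0x0,
nat_lit 0x0,
nat_lit 0x0,
nat_lit 0x0,
nat_lit 0x0,
nat_lit 0x0,
nat_lit 0x0,
nat_lit 0x0,
nat_lit 0x0,
nat_lit 0x0,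
nat_lit 0x0,
nat_lit 0x0,
nat_lit 0x0,
nat_lit 0x0,
nat_lit 0x0,
nat_lit 0x0,
nat_lit 0x0,
nat_lit 0x0,
nat_lit 0x0,
nat_lit 0x0,
nat_lit 0x0,
nat_lit 0x0,
nat_lit 0x0,
nat_lit 0x0,
nat_lit 0x0,
nat_lit 0x0,
nat_lit 0x0,
nat_lit 0x0,
nat_lit 0x0,
nat_lit 0x0,
nat_lit 0x0,
nat_lit 0x0,
nat_lit 0x0,
nat_lit 0x0,
nat_lit 0x0,
nat_lit 0x0,
nat_lit 0x0,
nat_lit 0x0,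
nat_lit 0x0,
nat_lit 0x0,
nat_lit 0x0,
nat_lit 0x0,
nat_lit 0x0,
nat_lit 0x0,
nat_lit 0x0,
nat_lit 0x0,
nat_lit 0x0,
nat_lit 0x0,
nat_lit 0x0,
nat_lit 0x0,
nat_lit 0x0,
nat_lit 0x0,
nat_lit 0x0,
nat_lit 0x0,
nat_lit 0x0,
nat_lit 0x0,
nat_lit 0x0,
nat_lit 0x0,
nat_lit 0x0,
nat_lit 0x0,
nat_lit 0x0,
nat_lit 0x0,
nat_lit 0x0,
nat_lit 0x0,
nat_lit 0x0,
nat_lit 0x0,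
nat_lit 0x0,
nat_lit 0x0,
nat_lit 0x0,
nat_lit 0x0,
nat_lit 0x0,
nat_lit 0x0,
nat_lit 0x0,
nat_lit 0x0,
nat_lit 0x0,
nat_lit 0x0,
nat_lit 0x0,
nat_lit 0x0,
nat_lit 0x0,
nat_lit 0x0,
nat_lit 0x0,
nat_lit 0x0,
nat_lit 0x0,
nat_lit 0x0,
nat_lit 0x0,
nat_lit 0x0,
nat_lit 0x0,
nat_lit 0x0,
nat_lit 0x0,
nat_lit 0x0,
nat_lit 0x0,
nat_lit 0x0,
nat_lit 0x0,
nat_lit 0x0,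
nat_lit 0x0,
nat_lit 0x0,
nat_lit 0x0,
nat_lit 0x0,
nat_lit 0x0,
nat_lit 0x0,
nat_lit 0x0,
nat_lit 0x0,
nat_lit 0x0,
nat_lit 0x0,
nat_lit 0x0,
nat_lit 0x0,
nat_lit 0x0,
nat_lit 0x0,
nat_lit 0x0,
nat_lit 0x0,
nat_lit 0x0,
nat_lit 0x0,
nat_lit 0x0,
nat_lit 0x0,
nat_lit 0x0,
nat_lit 0x0,
nat_lit 0x0,
nat_lit 0x0,
nat_lit 0x0,
nat_lit 0x0,
nat_lit 0x0,
nat_lit 0x0,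
nat_lit 0x0,
nat_lit 0x0,
nat_lit 0x0,
nat_lit 0x0,
nat_lit 0x0,
nat_lit 0x0,
nat_lit 0x0,
nat_lit 0x0,
nat_lit 0x0,
nat_lit 0x0,
nat_lit 0x0,
nat_lit 0x0,
nat_lit 0x0,
nat_lit 0x0,
nat_lit 0x0,
nat_lit 0x0,
nat_lit 0x0,
nat_lit 0x0,
nat_lit 0x0,
nat_lit 0x0,
nat_lit 0x0,
nat_lit 0x0,
nat_lit 0x0,
nat_lit 0x0,
nat_lit 0x0,
nat_lit 0x0,
nat_lit 0x0,
nat_lit 0x0,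
nat_lit 0x0,
nat_lit 0x0,
nat_lit 0x0,
nat_lit 0x0,
nat_lit 0x0,
nat_lit 0x0,
nat_lit 0x0,
nat_lit 0x0,
nat_lit 0x0,
nat_lit 0x0,
nat_lit 0x0,
nat_lit 0x0,
nat_lit 0x0,
nat_lit 0x0,
nat_lit 0x0,
nat_lit 0x0,
nat_lit 0x0,
nat_lit 0x0,
nat_lit 0x0,
nat_lit 0x0,
nat_lit 0x0,
nat_lit 0x0,
nat_lit 0x0,
nat_lit 0x0,
nat_lit 0x0,
nat_lit 0x0,
nat_lit 0x0,
nat_lit 0x0,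
nat_lit 0x0,
nat_lit 0x0,
nat_lit 0x0,
nat_lit 0x0,
nat_lit 0x0,
nat_lit 0x0,
nat_lit 0x0,
nat_lit 0x0,
nat_lit 0x0,
nat_lit 0x0,
nat_lit 0x0,
nat_lit 0x0,
nat_lit 0x0,
nat_lit 0x0,
nat_lit 0x0,
nat_lit 0x0,
nat_lit 0x0,
nat_lit 0x0,
nat_lit 0x0,
nat_lit 0x0,
nat_lit 0x0,
nat_lit 0x0,
nat_lit 0x0,
nat_lit 0x0,
nat_lit 0x0,
nat_lit 0x0,
nat_lit 0x0,
nat_lit 0x0,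
nat_lit 0x0,
nat_lit 0x0,
nat_lit 0x0,
nat_lit 0x0,
nat_lit 0x0,
nat_lit 0x0,
nat_lit 0x0,
nat_lit 0x0,
nat_lit 0x0,
nat_lit 0x0,
nat_lit 0x0,
nat_lit 0x0,
nat_lit 0x0,
nat_lit 0x0,
nat_lit 0x0,
nat_lit 0x0,
nat_lit 0x0,
nat_lit 0x0,
nat_lit 0x0,
nat_lit 0x0,
nat_lit 0x0,
nat_lit 0x0,
nat_lit 0x0,
nat_lit 0x0,
nat_lit 0x0,
nat_lit 0x0,
nat_lit 0x0,
nat_lit 0x0,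
nat_lit 0x0,
nat_lit 0x0,
nat_lit 0x0,
nat_lit 0x0,
nat_lit 0x0,
nat_lit 0x0,
nat_lit 0x0,
nat_lit 0x0,
nat_lit 0x0,
nat_lit 0x0,
nat_lit 0x0,
nat_lit 0x0,
nat_lit 0x0,
nat_lit 0x0,
nat_lit 0x0,
nat_lit 0x0,
nat_lit 0x0,
nat_lit 0x0,
nat_lit 0x0,
nat_lit 0x0,
nat_lit 0x0,
nat_lit 0x0,
nat_lit 0x0,
nat_lit 0x0,
nat_lit 0x0,
nat_lit 0x0,
nat_lit 0x0,
nat_lit 0x0,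
nat_lit 0x0,
nat_lit 0x0,
nat_lit 0x0,
nat_lit 0x0,
nat_lit 0x0,
nat_lit 0x0,
nat_lit 0x0,
nat_lit 0x0,
nat_lit 0x0,
nat_lit 0x0,
nat_lit 0x0,
nat_lit 0x0,
nat_lit 0x0,
nat_lit 0x0,
nat_lit 0x0,
nat_lit 0x0,
nat_lit 0x0,
nat_lit 0x0,
nat_lit 0x0,
nat_lit 0x0,
nat_lit 0x0,
nat_lit 0x0,
nat_lit 0x0,
nat_lit 0x0,
nat_lit 0x0,
nat_lit 0x0,
nat_lit 0x0,
nat_lit 0x0,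
nat_lit 0x0,
nat_lit 0x0,
nat_lit 0x0,
nat_lit 0x0,
nat_lit 0x0,
nat_lit 0x0,
nat_lit 0x0,
nat_lit 0x0,
nat_lit 0x0,
nat_lit 0x0,
nat_lit 0x0,
nat_lit 0x0,
nat_lit 0x0,
nat_lit 0x0,
nat_lit 0x0,
nat_lit 0x0,
nat_lit 0x0,
nat_lit 0x0,
nat_lit 0x0,
nat_lit 0x0,
nat_lit 0x0,
nat_lit 0x0,
nat_lit 0x0,
nat_lit 0x0,
nat_lit 0x0]

theorem facts_ok23040 : checkFacts facts 18364758544493064720 words 128 subs 49982 items23040 23040 = true := by decide +kernel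

noncomputable def items23552 : List ℕ := [
nat_lit 0x0,
nat_lit 0x0,
nat_lit 0x0,
nat_lit 0x0,
nat_lit 0x0,
nat_lit 0x0,
nat_lit 0x0,
nat_lit 0x0,
nat_lit 0x0,
nat_lit 0x0,
nat_lit 0x0,
nat_lit 0x0,
nat_lit 0x0,
nat_lit 0x0,
nat_lit 0x0,
nat_lit 0x0,
nat_lit 0x0,
nat_lit 0x0,
nat_lit 0x0,
nat_lit 0x0,
nat_lit 0x0,
nat_lit 0x0,
nat_lit 0x0,
nat_lit 0x0,
nat_lit 0x0,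
nat_lit 0x0,
nat_lit 0x0,
nat_lit 0x0,
nat_lit 0x0,
nat_lit 0x0,
nat_lit 0x0,
nat_lit 0x0,
nat_lit 0x0,
nat_lit 0x0,
nat_lit 0x0,
nat_lit 0x0,
nat_lit 0x0,
nat_lit 0x0,
nat_lit 0x0,
nat_lit 0x0,
nat_lit 0x0,
nat_lit 0x0,
nat_lit 0x0,
nat_lit 0x0,
nat_lit 0x0,
nat_lit 0x0,
nat_lit 0x0,
nat_lit 0x0,
nat_lit 0x0,
nat_lit 0x0,
nat_lit 0x0,
nat_lit 0x0,
nat_lit 0x0,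
nat_lit 0x0,
nat_lit 0x0,
nat_lit 0x0,
nat_lit 0x0,
nat_lit 0x0,
nat_lit 0x0,
nat_lit 0x0,
nat_lit 0x0,
nat_lit 0x0,
nat_lit 0x0,
nat_lit 0x0,
nat_lit 0x0,
nat_lit 0x0,
nat_lit 0x0,
nat_lit 0x0,
nat_lit 0x0,
nat_lit 0x0,
nat_lit 0x0,
nat_lit 0x0,
nat_lit 0x0,
nat_lit 0x0,
nat_lit 0x0,
nat_lit 0x0,
nat_lit 0x0,
nat_lit 0x0,
nat_lit 0x0,
nat_lit 0x0,
nat_lit 0x0,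
nat_lit 0x0,
nat_lit 0x0,
nat_lit 0x0,
nat_lit 0x0,
nat_lit 0x0,
nat_lit 0x0,
nat_lit 0x0,
nat_lit 0x0,
nat_lit 0x0,
nat_lit 0x0,
nat_lit 0x0,
nat_lit 0x0,
nat_lit 0x0,
nat_lit 0x0,
nat_lit 0x0,
nat_lit 0x0,
nat_lit 0x0,
nat_lit 0x0,
nat_lit 0x0,
nat_lit 0x0,
nat_lit 0x0,
nat_lit 0x0,
nat_lit 0x0,
nat_lit 0x0,
nat_lit 0x0,
nat_lit 0x0,
nat_lit 0x0,
nat_lit 0x0,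
nat_lit 0x0,
nat_lit 0x0,
nat_lit 0x0,
nat_lit 0x0,
nat_lit 0x0,
nat_lit 0x0,
nat_lit 0x0,
nat_lit 0x0,
nat_lit 0x0,
nat_lit 0x0,
nat_lit 0x0,
nat_lit 0x0,
nat_lit 0x0,
nat_lit 0x0,
nat_lit 0x0,
nat_lit 0x0,
nat_lit 0x0,
nat_lit 0x0,
nat_lit 0x0,
nat_lit 0x0,
nat_lit 0x0,
nat_lit 0x0,
nat_lit 0x0,
nat_lit 0x0,
nat_lit 0x0,
nat_lit 0x0,
nat_lit 0x0,
nat_lit 0x0,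
nat_lit 0x0,
nat_lit 0x0,
nat_lit 0x0,
nat_lit 0x0,
nat_lit 0x0,
nat_lit 0x0,
nat_lit 0x0,
nat_lit 0x0,
nat_lit 0x0,
nat_lit 0x0,
nat_lit 0x0,
nat_lit 0x0,
nat_lit 0x0,
nat_lit 0x0,
nat_lit 0x0,
nat_lit 0x0,
nat_lit 0x0,
nat_lit 0x0,
nat_lit 0x0,
nat_lit 0x0,
nat_lit 0x0,
nat_lit 0x0,
nat_lit 0x0,
nat_lit 0x0,
nat_lit 0x0,
nat_lit 0x0,
nat_lit 0x0,
nat_lit 0x0,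
nat_lit 0x0,
nat_lit 0x0,
nat_lit 0x0,
nat_lit 0x0,
nat_lit 0x0,
nat_lit 0x0,
nat_lit 0x0,
nat_lit 0x0,
nat_lit 0x0,
nat_lit 0x0,
nat_lit 0x0,
nat_lit 0x0,
nat_lit 0x0,
nat_lit 0x0,
nat_lit 0x0,
nat_lit 0x0,
nat_lit 0x0,
nat_lit 0x0,
nat_lit 0x0,
nat_lit 0x0,
nat_lit 0x0,
nat_lit 0x0,
nat_lit 0x0,
nat_lit 0x0,
nat_lit 0x0,
nat_lit 0x0,
nat_lit 0x0,
nat_lit 0x0,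
nat_lit 0x0,
nat_lit 0x0,
nat_lit 0x0,
nat_lit 0x0,
nat_lit 0x0,
nat_lit 0x0,
nat_lit 0x0,
nat_lit 0x0,
nat_lit 0x0,
nat_lit 0x0,
nat_lit 0x0,
nat_lit 0x0,
nat_lit 0x0,
nat_lit 0x0,
nat_lit 0x0,
nat_lit 0x0,
nat_lit 0x0,
nat_lit 0x0,
nat_lit 0x0,
nat_lit 0x0,
nat_lit 0x0,
nat_lit 0x0,
nat_lit 0x0,
nat_lit 0x0,
nat_lit 0x0,
nat_lit 0x0,
nat_lit 0x0,
nat_lit 0x0,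
nat_lit 0x0,
nat_lit 0x0,
nat_lit 0x0,
nat_lit 0x0,
nat_lit 0x0,
nat_lit 0x0,
nat_lit 0x0,
nat_lit 0x0,
nat_lit 0x0,
nat_lit 0x0,
nat_lit 0x0,
nat_lit 0x0,
nat_lit 0x0,
nat_lit 0x0,
nat_lit 0x0,
nat_lit 0x0,
nat_lit 0x0,
nat_lit 0x0,
nat_lit 0x0,
nat_lit 0x0,
nat_lit 0x0,
nat_lit 0x0,
nat_lit 0x0,
nat_lit 0x0,
nat_lit 0x0,
nat_lit 0x0,
nat_lit 0x0,
nat_lit 0x0,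
nat_lit 0x0,
nat_lit 0x0,
nat_lit 0x0,
nat_lit 0x0,
nat_lit 0x0,
nat_lit 0x0,
nat_lit 0x0,
nat_lit 0x0,
nat_lit 0x0,
nat_lit 0x0,
nat_lit 0x0,
nat_lit 0x0,
nat_lit 0x0,
nat_lit 0x0,
nat_lit 0x0,
nat_lit 0x0,
nat_lit 0x0,
nat_lit 0x0,
nat_lit 0x0,
nat_lit 0x0,
nat_lit 0x0,
nat_lit 0x0,
nat_lit 0x0,
nat_lit 0x0,
nat_lit 0x0,
nat_lit 0x0,
nat_lit 0x0,
nat_lit 0x0,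
nat_lit 0x0,
nat_lit 0x0,
nat_lit 0x0,
nat_lit 0x0,
nat_lit 0x0,
nat_lit 0x0,
nat_lit 0x0,
nat_lit 0x0,
nat_lit 0x0,
nat_lit 0x0,
nat_lit 0x0,
nat_lit 0x0,
nat_lit 0x0,
nat_lit 0x0,
nat_lit 0x0,
nat_lit 0x0,
nat_lit 0x0,
nat_lit 0x0,
nat_lit 0x0,
nat_lit 0x0,
nat_lit 0x0,
nat_lit 0x0,
nat_lit 0x0,
nat_lit 0x0,
nat_lit 0x0,
nat_lit 0x0,
nat_lit 0x0,
nat_lit 0x0,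
nat_lit 0x0,
nat_lit 0x0,
nat_lit 0x0,
nat_lit 0x0,
nat_lit 0x0,
nat_lit 0x0,
nat_lit 0x0,
nat_lit 0x0,
nat_lit 0x0,
nat_lit 0x0,
nat_lit 0x0,
nat_lit 0x0,
nat_lit 0x0,
nat_lit 0x0,
nat_lit 0x0,
nat_lit 0x0,
nat_lit 0x0,
nat_lit 0x0,
nat_lit 0x0,
nat_lit 0x0,
nat_lit 0x0,
nat_lit 0x0,
nat_lit 0x0,
nat_lit 0x0,
nat_lit 0x0,
nat_lit 0x0,
nat_lit 0x0,
nat_lit 0x0,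
nat_lit 0x0,
nat_lit 0x0,
nat_lit 0x0,
nat_lit 0x0,
nat_lit 0x0,
nat_lit 0x0,
nat_lit 0x0,
nat_lit 0x0,
nat_lit 0x0,
nat_lit 0x0,
nat_lit 0x0,
nat_lit 0x0,
nat_lit 0x0,
nat_lit 0x0,
nat_lit 0x0,
nat_lit 0x0,
nat_lit 0x0,
nat_lit 0x0,
nat_lit 0x0,
nat_lit 0x0,
nat_lit 0x0,
nat_lit 0x0,
nat_lit 0x0,
nat_lit 0x0,
nat_lit 0x0,
nat_lit 0x0,
nat_lit 0x0,
nat_lit 0x0,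
nat_lit 0x0,
nat_lit 0x0,
nat_lit 0x0,
nat_lit 0x0,
nat_lit 0x0,
nat_lit 0x0,
nat_lit 0x0,
nat_lit 0x0,
nat_lit 0x0,
nat_lit 0x0,
nat_lit 0x0,
nat_lit 0x0,
nat_lit 0x0,
nat_lit 0x0,
nat_lit 0x0,
nat_lit 0x0,
nat_lit 0x0,
nat_lit 0x0,
nat_lit 0x0,
nat_lit 0x0,
nat_lit 0x0,
nat_lit 0x0,
nat_lit 0x0,
nat_lit 0x0,
nat_lit 0x0,
nat_lit 0x0,
nat_lit 0x0,
nat_lit 0x0,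
nat_lit 0x0,
nat_lit 0x0,
nat_lit 0x0,
nat_lit 0x0,
nat_lit 0x0,
nat_lit 0x0,
nat_lit 0x0,
nat_lit 0x0,
nat_lit 0x0,
nat_lit 0x0,
nat_lit 0x0,
nat_lit 0x0,
nat_lit 0x0,
nat_lit 0x0,
nat_lit 0x0,
nat_lit 0x0,
nat_lit 0x0,
nat_lit 0x0,
nat_lit 0x0,
nat_lit 0x0,
nat_lit 0x0,
nat_lit 0x0,
nat_lit 0x0,
nat_lit 0x0,
nat_lit 0x0,
nat_lit 0x0,
nat_lit 0x0,
nat_lit 0x0,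
nat_lit 0x0,
nat_lit 0x0,
nat_lit 0x0,
nat_lit 0x0,
nat_lit 0x0,
nat_lit 0x0,
nat_lit 0x0,
nat_lit 0x0,
nat_lit 0x0,
nat_lit 0x0,
nat_lit 0x0,
nat_lit 0x0,
nat_lit 0x0,
nat_lit 0x0,
nat_lit 0x0,
nat_lit 0x0,
nat_lit 0x0,
nat_lit 0x0,
nat_lit 0x0,
nat_lit 0x0,
nat_lit 0x0,
nat_lit 0x0,
nat_lit 0x0,
nat_lit 0x0,
nat_lit 0x0,
nat_lit 0x0,
nat_lit 0x0,
nat_lit 0x0,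
nat_lit 0x0,
nat_lit 0x0,
nat_lit 0x0,
nat_lit 0x0,
nat_lit 0x0,
nat_lit 0x0,
nat_lit 0x0,
nat_lit 0x0,
nat_lit 0x0,
nat_lit 0x0,
nat_lit 0x0,
nat_lit 0x0,
nat_lit 0x0,
nat_lit 0x0,
nat_lit 0x0,
nat_lit 0x0,
nat_lit 0x0,
nat_lit 0x0,
nat_lit 0x0,
nat_lit 0x0,
nat_lit 0x0,
nat_lit 0x0,
nat_lit 0x0,
nat_lit 0x0,
nat_lit 0x0,
nat_lit 0x0,
nat_lit 0x0,
nat_lit 0x0,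
nat_lit 0x0,
nat_lit 0x0,
nat_lit 0x0,
nat_lit 0x0,
nat_lit 0x0,
nat_lit 0x0,
nat_lit 0x0,
nat_lit 0x0,
nat_lit 0x0,
nat_lit 0x0,
nat_lit 0x0,
nat_lit 0x0,
nat_lit 0x0,
nat_lit 0x0,
nat_lit 0x0,
nat_lit 0x0,
nat_lit 0x0,
nat_lit 0x0,
nat_lit 0x0,
nat_lit 0x0,
nat_lit 0x0,
nat_lit 0x0,
nat_lit 0x0,
nat_lit 0x0,
nat_lit 0x0,
nat_lit 0x0,
nat_lit 0x0,
nat_lit 0x0,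
nat_lit 0x0,
nat_lit 0x0,
nat_lit 0x0,
nat_lit 0x0,
nat_lit 0x0,
nat_lit 0x0,
nat_lit 0x0,
nat_lit 0x0,
nat_lit 0x0,
nat_lit 0x0,
nat_lit 0x0]

theorem facts_ok23552 : checkFacts facts 18364758544493064720 words 128 subs 49982 items23552 23552 = true := by decide +kernel

noncomputable def items24064 : List ℕ := [
nat_lit 0x0,
nat_lit 0x0,
nat_lit 0x0,
nat_lit 0x0,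
nat_lit 0x0,
nat_lit 0x0,
nat_lit 0x0,
nat_lit 0x0,
nat_lit 0x0,
nat_lit 0x0,
nat_lit 0x0,
nat_lit 0x0,
nat_lit 0x0,
nat_lit 0x0,
nat_lit 0x0,
nat_lit 0x0,
nat_lit 0x0,
nat_lit 0x0,
nat_lit 0x0,
nat_lit 0x0,
nat_lit 0x0,
nat_lit 0x0,
nat_lit 0x0,
nat_lit 0x0,
nat_lit 0x0,
nat_lit 0x0,
nat_lit 0x0,
nat_lit 0x0,
nat_lit 0x0,
nat_lit 0x0,
nat_lit 0x0,
nat_lit 0x0,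
nat_lit 0x0,
nat_lit 0x0,
nat_lit 0x0,
nat_lit 0x0,
nat_lit 0x0,
nat_lit 0x0,
nat_lit 0x0,
nat_lit 0x0,
nat_lit 0x0,
nat_lit 0x0,
nat_lit 0x0,
nat_lit 0x0,
nat_lit 0x0,
nat_lit 0x0,
nat_lit 0x0,
nat_lit 0x0,
nat_lit 0x0,
nat_lit 0x0,
nat_lit 0x0,
nat_lit 0x0,
nat_lit 0x0,
nat_lit 0x0,
nat_lit 0x0,
nat_lit 0x0,
nat_lit 0x0,
nat_lit 0x0,
nat_lit 0x0,
nat_lit 0x0,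
nat_lit 0x0,
nat_lit 0x0,
nat_lit 0x0,
nat_lit 0x0,
nat_lit 0x0,
nat_lit 0x0,
nat_lit 0x0,
nat_lit 0x0,
nat_lit 0x0,
nat_lit 0x0,
nat_lit 0x0,
nat_lit 0x0,
nat_lit 0x0,
nat_lit 0x0,
nat_lit 0x0,
nat_lit 0x0,
nat_lit 0x0,
nat_lit 0x0,
nat_lit 0x0,
nat_lit 0x0,
nat_lit 0x0,
nat_lit 0x0,
nat_lit 0x0,
nat_lit 0x0,
nat_lit 0x0,
nat_lit 0x0,
nat_lit 0x0,
nat_lit 0x0,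
nat_lit 0x0,
nat_lit 0x0,
nat_lit 0x0,
nat_lit 0x0,
nat_lit 0x0,
nat_lit 0x0,
nat_lit 0x0,
nat_lit 0x0,
nat_lit 0x0,
nat_lit 0x0,
nat_lit 0x0,
nat_lit 0x0,
nat_lit 0x0,
nat_lit 0x0,
nat_lit 0x0,
nat_lit 0x0,
nat_lit 0x0,
nat_lit 0x0,
nat_lit 0x0,
nat_lit 0x0,
nat_lit 0x0,
nat_lit 0x0,
nat_lit 0x0,
nat_lit 0x0,
nat_lit 0x0,
nat_lit 0x0,
nat_lit 0x0,
nat_lit 0x0,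
nat_lit 0x0,
nat_lit 0x0,
nat_lit 0x0,
nat_lit 0x0,
nat_lit 0x0,
nat_lit 0x0,
nat_lit 0x0,
nat_lit 0x0,
nat_lit 0x0,
nat_lit 0x0,
nat_lit 0x0,
nat_lit 0x0,
nat_lit 0x0,
nat_lit 0x0,
nat_lit 0x0,
nat_lit 0x0,
nat_lit 0x0,
nat_lit 0x0,
nat_lit 0x0,
nat_lit 0x0,
nat_lit 0x0,
nat_lit 0x0,
nat_lit 0x0,
nat_lit 0x0,
nat_lit 0x0,
nat_lit 0x0,
nat_lit 0x0,
nat_lit 0x0,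
nat_lit 0x0,
nat_lit 0x0,
nat_lit 0x0,
nat_lit 0x0,
nat_lit 0x0,
nat_lit 0x0,
nat_lit 0x0,
nat_lit 0x0,
nat_lit 0x0,
nat_lit 0x0,
nat_lit 0x0,
nat_lit 0x0,
nat_lit 0x0,
nat_lit 0x0,
nat_lit 0x0,
nat_lit 0x0,
nat_lit 0x0,
nat_lit 0x0,
nat_lit 0x0,
nat_lit 0x0,
nat_lit 0x0,
nat_lit 0x0,
nat_lit 0x0,
nat_lit 0x0,
nat_lit 0x0,
nat_lit 0x0,
nat_lit 0x0,
nat_lit 0x0,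
nat_lit 0x0,
nat_lit 0x0,
nat_lit 0x0,
nat_lit 0x0,
nat_lit 0x0,
nat_lit 0x0,
nat_lit 0x0,
nat_lit 0x0,
nat_lit 0x0,
nat_lit 0x0,
nat_lit 0x0,
nat_lit 0x0,
nat_lit 0x0,
nat_lit 0x0,
nat_lit 0x0,
nat_lit 0x0,
nat_lit 0x0,
nat_lit 0x0,
nat_lit 0x0,
nat_lit 0x0,
nat_lit 0x0,
nat_lit 0x0,
nat_lit 0x0,
nat_lit 0x0,
nat_lit 0x0,
nat_lit 0x0,
nat_lit 0x0,
nat_lit 0x0,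
nat_lit 0x0,
nat_lit 0x0,
nat_lit 0x0,
nat_lit 0x0,
nat_lit 0x0,
nat_lit 0x0,
nat_lit 0x0,
nat_lit 0x0,
nat_lit 0x0,
nat_lit 0x0,
nat_lit 0x0,
nat_lit 0x0,
nat_lit 0x0,
nat_lit 0x0,
nat_lit 0x0,
nat_lit 0x0,
nat_lit 0x0,
nat_lit 0x0,
nat_lit 0x0,
nat_lit 0x0,
nat_lit 0x0,
nat_lit 0x0,
nat_lit 0x0,
nat_lit 0x0,
nat_lit 0x0,
nat_lit 0x0,
nat_lit 0x0,
nat_lit 0x0,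
nat_lit 0x0,
nat_lit 0x0,
nat_lit 0x0,
nat_lit 0x0,
nat_lit 0x0,
nat_lit 0x0,
nat_lit 0x0,
nat_lit 0x0,
nat_lit 0x0,
nat_lit 0x0,
nat_lit 0x0,
nat_lit 0x0,
nat_lit 0x0,
nat_lit 0x0,
nat_lit 0x0,
nat_lit 0x0,
nat_lit 0x0,
nat_lit 0x0,
nat_lit 0x0,
nat_lit 0x0,
nat_lit 0x0,
nat_lit 0x0,
nat_lit 0x0,
nat_lit 0x0,
nat_lit 0x0,
nat_lit 0x0,
nat_lit 0x0,
nat_lit 0x0,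
nat_lit 0x0,
nat_lit 0x0,
nat_lit 0x0,
nat_lit 0x0,
nat_lit 0x0,
nat_lit 0x0,
nat_lit 0x0,
nat_lit 0x0,
nat_lit 0x0,
nat_lit 0x0,
nat_lit 0x0,
nat_lit 0x0,
nat_lit 0x0,
nat_lit 0x0,
nat_lit 0x0,
nat_lit 0x0,
nat_lit 0x0,
nat_lit 0x0,
nat_lit 0x0,
nat_lit 0x0,
nat_lit 0x0,
nat_lit 0x0,
nat_lit 0x0,
nat_lit 0x0,
nat_lit 0x0,
nat_lit 0x0,
nat_lit 0x0,
nat_lit 0x0,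
nat_lit 0x0,
nat_lit 0x0,
nat_lit 0x0,
nat_lit 0x0,
nat_lit 0x0,
nat_lit 0x0,
nat_lit 0x0,
nat_lit 0x0,
nat_lit 0x0,
nat_lit 0x0,
nat_lit 0x0,
nat_lit 0x0,
nat_lit 0x0,
nat_lit 0x0,
nat_lit 0x0,
nat_lit 0x0,
nat_lit 0x0,
nat_lit 0x0,
nat_lit 0x0,
nat_lit 0x0,
nat_lit 0x0,
nat_lit 0x0,
nat_lit 0x0,
nat_lit 0x0,
nat_lit 0x0,
nat_lit 0x0,
nat_lit 0x0,
nat_lit 0x0,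
nat_lit 0x0,
nat_lit 0x0,
nat_lit 0x0,
nat_lit 0x0,
nat_lit 0x0,
nat_lit 0x0,
nat_lit 0x0,
nat_lit 0x0,
nat_lit 0x0,
nat_lit 0x0,
nat_lit 0x0,
nat_lit 0x0,
nat_lit 0x0,
nat_lit 0x0,
nat_lit 0x0,
nat_lit 0x0,
nat_lit 0x0,
nat_lit 0x0,
nat_lit 0x0,
nat_lit 0x0,
nat_lit 0x0,
nat_lit 0x0,
nat_lit 0x0,
nat_lit 0x0,
nat_lit 0x0,
nat_lit 0x0,
nat_lit 0x0,
nat_lit 0x0,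
nat_lit 0x0,
nat_lit 0x0,
nat_lit 0x0,
nat_lit 0x0,
nat_lit 0x0,
nat_lit 0x0,
nat_lit 0x0,
nat_lit 0x0,
nat_lit 0x0,
nat_lit 0x0,
nat_lit 0x0,
nat_lit 0x0,
nat_lit 0x0,
nat_lit 0x0,
nat_lit 0x0,
nat_lit 0x0,
nat_lit 0x0,
nat_lit 0x0,
nat_lit 0x0,
nat_lit 0x0,
nat_lit 0x0,
nat_lit 0x0,
nat_lit 0x0,
nat_lit 0x0,
nat_lit 0x0,
nat_lit 0x0,
nat_lit 0x0,
nat_lit 0x0,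
nat_lit 0x0,
nat_lit 0x0,
nat_lit 0x0,
nat_lit 0x0,
nat_lit 0x0,
nat_lit 0x0,
nat_lit 0x0,
nat_lit 0x0,
nat_lit 0x0,
nat_lit 0x0,
nat_lit 0x0,
nat_lit 0x0,
nat_lit 0x0,
nat_lit 0x0,
nat_lit 0x0,
nat_lit 0x0,
nat_lit 0x0,
nat_lit 0x0,
nat_lit 0x0,
nat_lit 0x0,
nat_lit 0x0,
nat_lit 0x0,
nat_lit 0x0,
nat_lit 0x0,
nat_lit 0x0,
nat_lit 0x0,
nat_lit 0x0,
nat_lit 0x0,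
nat_lit 0x0,
nat_lit 0x0,
nat_lit 0x0,
nat_lit 0x0,
nat_lit 0x0,
nat_lit 0x0,
nat_lit 0x0,
nat_lit 0x0,
nat_lit 0x0,
nat_lit 0x0,
nat_lit 0x0,
nat_lit 0x0,
nat_lit 0x0,
nat_lit 0x0,
nat_lit 0x0,
nat_lit 0x0,
nat_lit 0x0,
nat_lit 0x0,
nat_lit 0x0,
nat_lit 0x0,
nat_lit 0x0,
nat_lit 0x0,
nat_lit 0x0,
nat_lit 0x0,
nat_lit 0x0,
nat_lit 0x0,
nat_lit 0x0,
nat_lit 0x0,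
nat_lit 0x0,
nat_lit 0x0,
nat_lit 0x0,
nat_lit 0x0,
nat_lit 0x0,
nat_lit 0x0,
nat_lit 0x0,
nat_lit 0x0,
nat_lit 0x0,
nat_lit 0x0,
nat_lit 0x0,
nat_lit 0x0,
nat_lit 0x0,
nat_lit 0x0,
nat_lit 0x0,
nat_lit 0x0,
nat_lit 0x0,
nat_lit 0x0,
nat_lit 0x0,
nat_lit 0x0,
nat_lit 0x0,
nat_lit 0x0,
nat_lit 0x0,
nat_lit 0x0,
nat_lit 0x0,
nat_lit 0x0,
nat_lit 0x0,
nat_lit 0x0,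
nat_lit 0x0,
nat_lit 0x0,
nat_lit 0x0,
nat_lit 0x0,
nat_lit 0x0,
nat_lit 0x0,
nat_lit 0x0,
nat_lit 0x0,
nat_lit 0x0,
nat_lit 0x0,
nat_lit 0x0,
nat_lit 0x0,
nat_lit 0x0,
nat_lit 0x0,
nat_lit 0x0,
nat_lit 0x0,
nat_lit 0x0,
nat_lit 0x0,
nat_lit 0x0,
nat_lit 0x0,
nat_lit 0x0,
nat_lit 0x0,
nat_lit 0x0,
nat_lit 0x0,
nat_lit 0x0,
nat_lit 0x0,
nat_lit 0x0,
nat_lit 0x0,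
nat_lit 0x0,
nat_lit 0x0,
nat_lit 0x0,
nat_lit 0x0,
nat_lit 0x0,
nat_lit 0x0,
nat_lit 0x0,
nat_lit 0x0,
nat_lit 0x0,
nat_lit 0x0,
nat_lit 0x0,
nat_lit 0x0,
nat_lit 0x0,
nat_lit 0x0,
nat_lit 0x0,
nat_lit 0x0,
nat_lit 0x0,
nat_lit 0x0,
nat_lit 0x0,
nat_lit 0x0,
nat_lit 0x0,
nat_lit 0x0,
nat_lit 0x0,
nat_lit 0x0,
nat_lit 0x0,
nat_lit 0x0,
nat_lit 0x0,
nat_lit 0x0,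
nat_lit 0x0,
nat_lit 0x0,
nat_lit 0x0,
nat_lit 0x0]

theorem facts_ok24064 : checkFacts facts 18364758544493064720 words 128 subs 49982 items24064 24064 = true := by decide +kernel

noncomputable def items24576 : List ℕ := [
nat_lit 0x0,
nat_lit 0x0,
nat_lit 0x0,
nat_lit 0x0,
nat_lit 0x0,
nat_lit 0x0,
nat_lit 0x0,
nat_lit 0x0,
nat_lit 0x0,
nat_lit 0x0,
nat_lit 0x0,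
nat_lit 0x0,
nat_lit 0x0,
nat_lit 0x0,
nat_lit 0x0,
nat_lit 0x0,
nat_lit 0x0,
nat_lit 0x0,
nat_lit 0x0,
nat_lit 0x0,
nat_lit 0x0,
nat_lit 0x0,
nat_lit 0x0,
nat_lit 0x0,
nat_lit 0x0,
nat_lit 0x0,
nat_lit 0x0,
nat_lit 0x0,
nat_lit 0x0,
nat_lit 0x0,
nat_lit 0x0,
nat_lit 0x0,
nat_lit 0x0,
nat_lit 0x0,
nat_lit 0x0,
nat_lit 0x0,
nat_lit 0x0,
nat_lit 0x0,
nat_lit 0x0,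
nat_lit 0x0,
nat_lit 0x0,
nat_lit 0x0,
nat_lit 0x0,
nat_lit 0x0,
nat_lit 0x0,
nat_lit 0x0,
nat_lit 0x0,
nat_lit 0x0,
nat_lit 0x0,
nat_lit 0x0,
nat_lit 0x0,
nat_lit 0x0,
nat_lit 0x0,
nat_lit 0x0,
nat_lit 0x0,
nat_lit 0x0,
nat_lit 0x0,
nat_lit 0x0,
nat_lit 0x0,
nat_lit 0x0,
nat_lit 0x0,
nat_lit 0x0,
nat_lit 0x0,
nat_lit 0x0,
nat_lit 0x0,
nat_lit 0x0,
nat_lit 0x0,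
nat_lit 0x0,
nat_lit 0x0,
nat_lit 0x0,
nat_lit 0x0,
nat_lit 0x0,
nat_lit 0x0,
nat_lit 0x0,
nat_lit 0x0,
nat_lit 0x0,
nat_lit 0x0,
nat_lit 0x0,
nat_lit 0x0,
nat_lit 0x0,
nat_lit 0x0,
nat_lit 0x0,
nat_lit 0x0,
nat_lit 0x0,
nat_lit 0x0,
nat_lit 0x0,
nat_lit 0x0,
nat_lit 0x0,
nat_lit 0x0,
nat_lit 0x0,
nat_lit 0x0,
nat_lit 0x0,
nat_lit 0x0,
nat_lit 0x0,
nat_lit 0x0,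
nat_lit 0x0,
nat_lit 0x0,
nat_lit 0x0,
nat_lit 0x0,
nat_lit 0x0,
nat_lit 0x0,
nat_lit 0x0,
nat_lit 0x0,
nat_lit 0x0,
nat_lit 0x0,
nat_lit 0x0,
nat_lit 0x0,
nat_lit 0x0,
nat_lit 0x0,
nat_lit 0x0,
nat_lit 0x0,
nat_lit 0x0,
nat_lit 0x0,
nat_lit 0x0,
nat_lit 0x0,
nat_lit 0x0,
nat_lit 0x0,
nat_lit 0x0,
nat_lit 0x0,
nat_lit 0x0,
nat_lit 0x0,
nat_lit 0x0,
nat_lit 0x0,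
nat_lit 0x0,
nat_lit 0x0,
nat_lit 0x0,
nat_lit 0x0,
nat_lit 0x0,
nat_lit 0x0,
nat_lit 0x0,
nat_lit 0x0,
nat_lit 0x0,
nat_lit 0x0,
nat_lit 0x0,
nat_lit 0x0,
nat_lit 0x0,
nat_lit 0x0,
nat_lit 0x0,
nat_lit 0x0,
nat_lit 0x0,
nat_lit 0x0,
nat_lit 0x0,
nat_lit 0x0,
nat_lit 0x0,
nat_lit 0x0,
nat_lit 0x0,
nat_lit 0x0,
nat_lit 0x0,
nat_lit 0x0,
nat_lit 0x0,
nat_lit 0x0,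
nat_lit 0x0,
nat_lit 0x0,
nat_lit 0x0,
nat_lit 0x0,
nat_lit 0x0,
nat_lit 0x0,
nat_lit 0x0,
nat_lit 0x0,
nat_lit 0x0,
nat_lit 0x0,
nat_lit 0x0,
nat_lit 0x0,
nat_lit 0x0,
nat_lit 0x0,
nat_lit 0x0,
nat_lit 0x0,
nat_lit 0x0,
nat_lit 0x0,
nat_lit 0x0,
nat_lit 0x0,
nat_lit 0x0,
nat_lit 0x0,
nat_lit 0x0,
nat_lit 0x0,
nat_lit 0x0,
nat_lit 0x0,
nat_lit 0x0,
nat_lit 0x0,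
nat_lit 0x0,
nat_lit 0x0,
nat_lit 0x0,
nat_lit 0x0,
nat_lit 0x0,
nat_lit 0x0,
nat_lit 0x0,
nat_lit 0x0,
nat_lit 0x0,
nat_lit 0x0,
nat_lit 0x0,
nat_lit 0x0,
nat_lit 0x0,
nat_lit 0x0,
nat_lit 0x0,
nat_lit 0x0,
nat_lit 0x0,
nat_lit 0x0,
nat_lit 0x0,
nat_lit 0x0,
nat_lit 0x0,
nat_lit 0x0,
nat_lit 0x0,
nat_lit 0x0,
nat_lit 0x0,
nat_lit 0x0,
nat_lit 0x0,
nat_lit 0x0,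
nat_lit 0x0,
nat_lit 0x0,
nat_lit 0x0,
nat_lit 0x0,
nat_lit 0x0,
nat_lit 0x0,
nat_lit 0x0,
nat_lit 0x0,
nat_lit 0x0,
nat_lit 0x0,
nat_lit 0x0,
nat_lit 0x0,
nat_lit 0x0,
nat_lit 0x0,
nat_lit 0x0,
nat_lit 0x0,
nat_lit 0x0,
nat_lit 0x0,
nat_lit 0x0,
nat_lit 0x0,
nat_lit 0x0,
nat_lit 0x0,
nat_lit 0x0,
nat_lit 0x0,
nat_lit 0x0,
nat_lit 0x0,
nat_lit 0x0,
nat_lit 0x0,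
nat_lit 0x0,
nat_lit 0x0,
nat_lit 0x0,
nat_lit 0x0,
nat_lit 0x0,
nat_lit 0x0,
nat_lit 0x0,
nat_lit 0x0,
nat_lit 0x0,
nat_lit 0x0,
nat_lit 0x0,
nat_lit 0x0,
nat_lit 0x0,
nat_lit 0x0,
nat_lit 0x0,
nat_lit 0x0,
nat_lit 0x0,
nat_lit 0x0,
nat_lit 0x0,
nat_lit 0x0,
nat_lit 0x0,
nat_lit 0x0,
nat_lit 0x0,
nat_lit 0x0,
nat_lit 0x0,
nat_lit 0x0,
nat_lit 0x0,
nat_lit 0x0,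
nat_lit 0x0,
nat_lit 0x0,
nat_lit 0x0,
nat_lit 0x0,
nat_lit 0x0,
nat_lit 0x0,
nat_lit 0x0,
nat_lit 0x0,
nat_lit 0x0,
nat_lit 0x0,
nat_lit 0x0,
nat_lit 0x0,
nat_lit 0x0,
nat_lit 0x0,
nat_lit 0x0,
nat_lit 0x0,
nat_lit 0x0,
nat_lit 0x0,
nat_lit 0x0,
nat_lit 0x0,
nat_lit 0x0,
nat_lit 0x0,
nat_lit 0x0,
nat_lit 0x0,
nat_lit 0x0,
nat_lit 0x0,
nat_lit 0x0,
nat_lit 0x0,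
nat_lit 0x0,
nat_lit 0x0,
nat_lit 0x0,
nat_lit 0x0,
nat_lit 0x0,
nat_lit 0x0,
nat_lit 0x0,
nat_lit 0x0,
nat_lit 0x0,
nat_lit 0x0,
nat_lit 0x0,
nat_lit 0x0,
nat_lit 0x0,
nat_lit 0x0,
nat_lit 0x0,
nat_lit 0x0,
nat_lit 0x0,
nat_lit 0x0,
nat_lit 0x0,
nat_lit 0x0,
nat_lit 0x0,
nat_lit 0x0,
nat_lit 0x0,
nat_lit 0x0,
nat_lit 0x0,
nat_lit 0x0,
nat_lit 0x0,
nat_lit 0x0,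
nat_lit 0x0,
nat_lit 0x0,
nat_lit 0x0,
nat_lit 0x0,
nat_lit 0x0,
nat_lit 0x0,
nat_lit 0x0,
nat_lit 0x0,
nat_lit 0x0,
nat_lit 0x0,
nat_lit 0x0,
nat_lit 0x0,
nat_lit 0x0,
nat_lit 0x0,
nat_lit 0x0,
nat_lit 0x0,
nat_lit 0x0,
nat_lit 0x0,
nat_lit 0x0,
nat_lit 0x0,
nat_lit 0x0,
nat_lit 0x0,
nat_lit 0x0,
nat_lit 0x0,
nat_lit 0x0,
nat_lit 0x0,
nat_lit 0x0,
nat_lit 0x0,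
nat_lit 0x0,
nat_lit 0x0,
nat_lit 0x0,
nat_lit 0x0,
nat_lit 0x0,
nat_lit 0x0,
nat_lit 0x0,
nat_lit 0x0,
nat_lit 0x0,
nat_lit 0x0,
nat_lit 0x0,
nat_lit 0x0,
nat_lit 0x0,
nat_lit 0x0,
nat_lit 0x0,
nat_lit 0x0,
nat_lit 0x0,
nat_lit 0x0,
nat_lit 0x0,
nat_lit 0x0,
nat_lit 0x0,
nat_lit 0x0,
nat_lit 0x0,
nat_lit 0x0,
nat_lit 0x0,
nat_lit 0x0,
nat_lit 0x0,
nat_lit 0x0,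
nat_lit 0x0,
nat_lit 0x0,
nat_lit 0x0,
nat_lit 0x0,
nat_lit 0x0,
nat_lit 0x0,
nat_lit 0x0,
nat_lit 0x0,
nat_lit 0x0,
nat_lit 0x0,
nat_lit 0x0,
nat_lit 0x0,
nat_lit 0x0,
nat_lit 0x0,
nat_lit 0x0,
nat_lit 0x0,
nat_lit 0x0,
nat_lit 0x0,
nat_lit 0x0,
nat_lit 0x0,
nat_lit 0x0,
nat_lit 0x0,
nat_lit 0x0,
nat_lit 0x0,
nat_lit 0x0,
nat_lit 0x0,
nat_lit 0x0,
nat_lit 0x0,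
nat_lit 0x0,
nat_lit 0x0,
nat_lit 0x0,
nat_lit 0x0,
nat_lit 0x0,
nat_lit 0x0,
nat_lit 0x0,
nat_lit 0x0,
nat_lit 0x0,
nat_lit 0x0,
nat_lit 0x0,
nat_lit 0x0,
nat_lit 0x0,
nat_lit 0x0,
nat_lit 0x0,
nat_lit 0x0,
nat_lit 0x0,
nat_lit 0x0,
nat_lit 0x0,
nat_lit 0x0,
nat_lit 0x0,
nat_lit 0x0,
nat_lit 0x0,
nat_lit 0x0,
nat_lit 0x0,
nat_lit 0x0,
nat_lit 0x0,
nat_lit 0x0,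
nat_lit 0x0,
nat_lit 0x0,
nat_lit 0x0,
nat_lit 0x0,
nat_lit 0x0,
nat_lit 0x0,
nat_lit 0x0,
nat_lit 0x0,
nat_lit 0x0,
nat_lit 0x0,
nat_lit 0x0,
nat_lit 0x0,
nat_lit 0x0,
nat_lit 0x0,
nat_lit 0x0,
nat_lit 0x0,
nat_lit 0x0,
nat_lit 0x0,
nat_lit 0x0,
nat_lit 0x0,
nat_lit 0x0,
nat_lit 0x0,
nat_lit 0x0,
nat_lit 0x0,
nat_lit 0x0,
nat_lit 0x0,
nat_lit 0x0,
nat_lit 0x0,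
nat_lit 0x0,
nat_lit 0x0,
nat_lit 0x0,
nat_lit 0x0,
nat_lit 0x0,
nat_lit 0x0,
nat_lit 0x0,
nat_lit 0x0,
nat_lit 0x0,
nat_lit 0x0,
nat_lit 0x0,
nat_lit 0x0,
nat_lit 0x0,
nat_lit 0x0,
nat_lit 0x0,
nat_lit 0x0,
nat_lit 0x0,
nat_lit 0x0,
nat_lit 0x0,
nat_lit 0x0,
nat_lit 0x0,
nat_lit 0x0,
nat_lit 0x0,
nat_lit 0x0,
nat_lit 0x0,
nat_lit 0x0,
nat_lit 0x0,
nat_lit 0x0,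
nat_lit 0x0,
nat_lit 0x0,
nat_lit 0x0,
nat_lit 0x0,
nat_lit 0x0,
nat_lit 0x0,
nat_lit 0x0,
nat_lit 0x0,
nat_lit 0x0,
nat_lit 0x0,
nat_lit 0x0,
nat_lit 0x0,
nat_lit 0x0,
nat_lit 0x0,
nat_lit 0x0,
nat_lit 0x0,
nat_lit 0x0,
nat_lit 0x0,
nat_lit 0x0,
nat_lit 0x0,
nat_lit 0x0,
nat_lit 0x0,
nat_lit 0x0,
nat_lit 0x0,
nat_lit 0x0]

theorem facts_ok24576 : checkFacts facts 18364758544493064720 words 128 subs 49982 items24576 24576 = true := by decide +kernel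

noncomputable def items25088 : List ℕ := [
nat_lit 0x0,
nat_lit 0x0,
nat_lit 0x0,
nat_lit 0x0,
nat_lit 0x0,
nat_lit 0x0,
nat_lit 0x0,
nat_lit 0x0,
nat_lit 0x0,
nat_lit 0x0,
nat_lit 0x0,
nat_lit 0x0,
nat_lit 0x0,
nat_lit 0x0,
nat_lit 0x0,
nat_lit 0x0,
nat_lit 0x0,
nat_lit 0x0,
nat_lit 0x0,
nat_lit 0x0,
nat_lit 0x0,
nat_lit 0x0,
nat_lit 0x0,
nat_lit 0x0,
nat_lit 0x0,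
nat_lit 0x0,
nat_lit 0x0,
nat_lit 0x0,
nat_lit 0x0,
nat_lit 0x0,
nat_lit 0x0,
nat_lit 0x0,
nat_lit 0x0,
nat_lit 0x0,
nat_lit 0x0,
nat_lit 0x0,
nat_lit 0x0,
nat_lit 0x0,
nat_lit 0x0,
nat_lit 0x0,
nat_lit 0x0,
nat_lit 0x0,
nat_lit 0x0,
nat_lit 0x0,
nat_lit 0x0,
nat_lit 0x0,
nat_lit 0x0,
nat_lit 0x0,
nat_lit 0x0,
nat_lit 0x0,
nat_lit 0x0,
nat_lit 0x0,
nat_lit 0x0,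
nat_lit 0x0,
nat_lit 0x0,
nat_lit 0x0,
nat_lit 0x0,
nat_lit 0x0,
nat_lit 0x0,
nat_lit 0x0,
nat_lit 0x0,
nat_lit 0x0,
nat_lit 0x0,
nat_lit 0x0,
nat_lit 0x0,
nat_lit 0x0,
nat_lit 0x0,
nat_lit 0x0,
nat_lit 0x0,
nat_lit 0x0,
nat_lit 0x0,
nat_lit 0x0,
nat_lit 0x0,
nat_lit 0x0,
nat_lit 0x0,
nat_lit 0x0,
nat_lit 0x0,
nat_lit 0x0,
nat_lit 0x0,
nat_lit 0x0,
nat_lit 0x0,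
nat_lit 0x0,
nat_lit 0x0,
nat_lit 0x0,
nat_lit 0x0,
nat_lit 0x0,
nat_lit 0x0,
nat_lit 0x0,
nat_lit 0x0,
nat_lit 0x0,
nat_lit 0x0,
nat_lit 0x0,
nat_lit 0x0,
nat_lit 0x0,
nat_lit 0x0,
nat_lit 0x0,
nat_lit 0x0,
nat_lit 0x0,
nat_lit 0x0,
nat_lit 0x0,
nat_lit 0x0,
nat_lit 0x0,
nat_lit 0x0,
nat_lit 0x0,
nat_lit 0x0,
nat_lit 0x0,
nat_lit 0x0,
nat_lit 0x0,
nat_lit 0x0,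
nat_lit 0x0,
nat_lit 0x0,
nat_lit 0x0,
nat_lit 0x0,
nat_lit 0x0,
nat_lit 0x0,
nat_lit 0x0,
nat_lit 0x0,
nat_lit 0x0,
nat_lit 0x0,
nat_lit 0x0,
nat_lit 0x0,
nat_lit 0x0,
nat_lit 0x0,
nat_lit 0x0,
nat_lit 0x0,
nat_lit 0x0,
nat_lit 0x0,
nat_lit 0x0,
nat_lit 0x0,
nat_lit 0x0,
nat_lit 0x0,
nat_lit 0x0,
nat_lit 0x0,
nat_lit 0x0,
nat_lit 0x0,
nat_lit 0x0,
nat_lit 0x0,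
nat_lit 0x0,
nat_lit 0x0,
nat_lit 0x0,
nat_lit 0x0,
nat_lit 0x0,
nat_lit 0x0,
nat_lit 0x0,
nat_lit 0x0,
nat_lit 0x0,
nat_lit 0x0,
nat_lit 0x0,
nat_lit 0x0,
nat_lit 0x0,
nat_lit 0x0,
nat_lit 0x0,
nat_lit 0x0,
nat_lit 0x0,
nat_lit 0x0,
nat_lit 0x0,
nat_lit 0x0,
nat_lit 0x0,
nat_lit 0x0,
nat_lit 0x0,
nat_lit 0x0,
nat_lit 0x0,
nat_lit 0x0,
nat_lit 0x0,
nat_lit 0x0,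
nat_lit 0x0,
nat_lit 0x0,
nat_lit 0x0,
nat_lit 0x0,
nat_lit 0x0,
nat_lit 0x0,
nat_lit 0x0,
nat_lit 0x0,
nat_lit 0x0,
nat_lit 0x0,
nat_lit 0x0,
nat_lit 0x0,
nat_lit 0x0,
nat_lit 0x0,
nat_lit 0x0,
nat_lit 0x0,
nat_lit 0x0,
nat_lit 0x0,
nat_lit 0x0,
nat_lit 0x0,
nat_lit 0x0,
nat_lit 0x0,
nat_lit 0x0,
nat_lit 0x0,
nat_lit 0x0,
nat_lit 0x0,
nat_lit 0x0,
nat_lit 0x0,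
nat_lit 0x0,
nat_lit 0x0,
nat_lit 0x0,
nat_lit 0x0,
nat_lit 0x0,
nat_lit 0x0,
nat_lit 0x0,
nat_lit 0x0,
nat_lit 0x0,
nat_lit 0x0,
nat_lit 0x0,
nat_lit 0x0,
nat_lit 0x0,
nat_lit 0x0,
nat_lit 0x0,
nat_lit 0x0,
nat_lit 0x0,
nat_lit 0x0,
nat_lit 0x0,
nat_lit 0x0,
nat_lit 0x0,
nat_lit 0x0,
nat_lit 0x0,
nat_lit 0x0,
nat_lit 0x0,
nat_lit 0x0,
nat_lit 0x0,
nat_lit 0x0,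
nat_lit 0x0,
nat_lit 0x0,
nat_lit 0x0,
nat_lit 0x0,
nat_lit 0x0,
nat_lit 0x0,
nat_lit 0x0,
nat_lit 0x0,
nat_lit 0x0,
nat_lit 0x0,
nat_lit 0x0,
nat_lit 0x0,
nat_lit 0x0,
nat_lit 0x0,
nat_lit 0x0,
nat_lit 0x0,
nat_lit 0x0,
nat_lit 0x0,
nat_lit 0x0,
nat_lit 0x0,
nat_lit 0x0,
nat_lit 0x0,
nat_lit 0x0,
nat_lit 0x0,
nat_lit 0x0,
nat_lit 0x0,
nat_lit 0x0,
nat_lit 0x0,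
nat_lit 0x0,
nat_lit 0x0,
nat_lit 0x0,
nat_lit 0x0,
nat_lit 0x0,
nat_lit 0x0,
nat_lit 0x0,
nat_lit 0x0,
nat_lit 0x0,
nat_lit 0x0,
nat_lit 0x0,
nat_lit 0x0,
nat_lit 0x0,
nat_lit 0x0,
nat_lit 0x0,
nat_lit 0x0,
nat_lit 0x0,
nat_lit 0x0,
nat_lit 0x0,
nat_lit 0x0,
nat_lit 0x0,
nat_lit 0x0,
nat_lit 0x0,
nat_lit 0x0,
nat_lit 0x0,
nat_lit 0x0,
nat_lit 0x0,
nat_lit 0x0,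
nat_lit 0x0,
nat_lit 0x0,
nat_lit 0x0,
nat_lit 0x0,
nat_lit 0x0,
nat_lit 0x0,
nat_lit 0x0,
nat_lit 0x0,
nat_lit 0x0,
nat_lit 0x0,
nat_lit 0x0,
nat_lit 0x0,
nat_lit 0x0,
nat_lit 0x0,
nat_lit 0x0,
nat_lit 0x0,
nat_lit 0x0,
nat_lit 0x0,
nat_lit 0x0,
nat_lit 0x0,
nat_lit 0x0,
nat_lit 0x0,
nat_lit 0x0,
nat_lit 0x0,
nat_lit 0x0,
nat_lit 0x0,
nat_lit 0x0,
nat_lit 0x0,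
nat_lit 0x0,
nat_lit 0x0,
nat_lit 0x0,
nat_lit 0x0,
nat_lit 0x0,
nat_lit 0x0,
nat_lit 0x0,
nat_lit 0x0,
nat_lit 0x0,
nat_lit 0x0,
nat_lit 0x0,
nat_lit 0x0,
nat_lit 0x0,
nat_lit 0x0,
nat_lit 0x0,
nat_lit 0x0,
nat_lit 0x0,
nat_lit 0x0,
nat_lit 0x0,
nat_lit 0x0,
nat_lit 0x0,
nat_lit 0x0,
nat_lit 0x0,
nat_lit 0x0,
nat_lit 0x0,
nat_lit 0x0,
nat_lit 0x0,
nat_lit 0x0,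
nat_lit 0x0,
nat_lit 0x0,
nat_lit 0x0,
nat_lit 0x0,
nat_lit 0x0,
nat_lit 0x0,
nat_lit 0x0,
nat_lit 0x0,
nat_lit 0x0,
nat_lit 0x0,
nat_lit 0x0,
nat_lit 0x0,
nat_lit 0x0,
nat_lit 0x0,
nat_lit 0x0,
nat_lit 0x0,
nat_lit 0x0,
nat_lit 0x0,
nat_lit 0x0,
nat_lit 0x0,
nat_lit 0x0,
nat_lit 0x0,
nat_lit 0x0,
nat_lit 0x0,
nat_lit 0x0,
nat_lit 0x0,
nat_lit 0x0,
nat_lit 0x0,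
nat_lit 0x0,
nat_lit 0x0,
nat_lit 0x0,
nat_lit 0x0,
nat_lit 0x0,
nat_lit 0x0,
nat_lit 0x0,
nat_lit 0x0,
nat_lit 0x0,
nat_lit 0x0,
nat_lit 0x0,
nat_lit 0x0,
nat_lit 0x0,
nat_lit 0x0,
nat_lit 0x0,
nat_lit 0x0,
nat_lit 0x0,
nat_lit 0x0,
nat_lit 0x0,
nat_lit 0x0,
nat_lit 0x0,
nat_lit 0x0,
nat_lit 0x0,
nat_lit 0x0,
nat_lit 0x0,
nat_lit 0x0,
nat_lit 0x0,
nat_lit 0x0,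
nat_lit 0x0,
nat_lit 0x0,
nat_lit 0x0,
nat_lit 0x0,
nat_lit 0x0,
nat_lit 0x0,
nat_lit 0x0,
nat_lit 0x0,
nat_lit 0x0,
nat_lit 0x0,
nat_lit 0x0,
nat_lit 0x0,
nat_lit 0x0,
nat_lit 0x0,
nat_lit 0x0,
nat_lit 0x0,
nat_lit 0x0,
nat_lit 0x0,
nat_lit 0x0,
nat_lit 0x0,
nat_lit 0x0,
nat_lit 0x0,
nat_lit 0x0,
nat_lit 0x0,
nat_lit 0x0,
nat_lit 0x0,
nat_lit 0x0,
nat_lit 0x0,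
nat_lit 0x0,
nat_lit 0x0,
nat_lit 0x0,
nat_lit 0x0,
nat_lit 0x0,
nat_lit 0x0,
nat_lit 0x0,
nat_lit 0x0,
nat_lit 0x0,
nat_lit 0x0,
nat_lit 0x0,
nat_lit 0x0,
nat_lit 0x0,
nat_lit 0x0,
nat_lit 0x0,
nat_lit 0x0,
nat_lit 0x0,
nat_lit 0x0,
nat_lit 0x0,
nat_lit 0x0,
nat_lit 0x0,
nat_lit 0x0,
nat_lit 0x0,
nat_lit 0x0,
nat_lit 0x0,
nat_lit 0x0,
nat_lit 0x0,
nat_lit 0x0,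
nat_lit 0x0,
nat_lit 0x0,
nat_lit 0x0,
nat_lit 0x0,
nat_lit 0x0,
nat_lit 0x0,
nat_lit 0x0,
nat_lit 0x0,
nat_lit 0x0,
nat_lit 0x0,
nat_lit 0x0,
nat_lit 0x0,
nat_lit 0x0,
nat_lit 0x0,
nat_lit 0x0,
nat_lit 0x0,
nat_lit 0x0,
nat_lit 0x0,
nat_lit 0x0,
nat_lit 0x0,
nat_lit 0x0,
nat_lit 0x0,
nat_lit 0x0,
nat_lit 0x0,
nat_lit 0x0,
nat_lit 0x0,
nat_lit 0x0,
nat_lit 0x0,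
nat_lit 0x0,
nat_lit 0x0,
nat_lit 0x0,
nat_lit 0x0,
nat_lit 0x0,
nat_lit 0x0,
nat_lit 0x0,
nat_lit 0x0,
nat_lit 0x0,
nat_lit 0x0,
nat_lit 0x0,
nat_lit 0x0,
nat_lit 0x0,
nat_lit 0x0,
nat_lit 0x0,
nat_lit 0x0,
nat_lit 0x0,
nat_lit 0x0,
nat_lit 0x0,
nat_lit 0x0,
nat_lit 0x0,
nat_lit 0x0,
nat_lit 0x0,
nat_lit 0x0,
nat_lit 0x0,
nat_lit 0x0,
nat_lit 0x0,
nat_lit 0x0,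
nat_lit 0x0,
nat_lit 0x0,
nat_lit 0x0,
nat_lit 0x0,
nat_lit 0x0,
nat_lit 0x0,
nat_lit 0x0,
nat_lit 0x0,
nat_lit 0x0,
nat_lit 0x0,
nat_lit 0x0]

theorem facts_ok25088 : checkFacts facts 18364758544493064720 words 128 subs 49982 items25088 25088 = true := by decide +kernel

noncomputable def items25600 : List ℕ := [
nat_lit 0x0,
nat_lit 0x0,
nat_lit 0x0,
nat_lit 0x0,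
nat_lit 0x0,
nat_lit 0x0,
nat_lit 0x0,
nat_lit 0x0,
nat_lit 0x0,
nat_lit 0x0,
nat_lit 0x0,
nat_lit 0x0,
nat_lit 0x0,
nat_lit 0x0,
nat_lit 0x0,
nat_lit 0x0,
nat_lit 0x0,
nat_lit 0x0,
nat_lit 0x0,
nat_lit 0x0,
nat_lit 0x0,
nat_lit 0x0,
nat_lit 0x0,
nat_lit 0x0,
nat_lit 0x0,
nat_lit 0x0,
nat_lit 0x0,
nat_lit 0x0,
nat_lit 0x0,
nat_lit 0x0,
nat_lit 0x0,
nat_lit 0x0,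
nat_lit 0x0,
nat_lit 0x0,
nat_lit 0x0,
nat_lit 0x0,
nat_lit 0x0,
nat_lit 0x0,
nat_lit 0x0,
nat_lit 0x0,
nat_lit 0x0,
nat_lit 0x0,
nat_lit 0x0,
nat_lit 0x0,
nat_lit 0x0,
nat_lit 0x0,
nat_lit 0x0,
nat_lit 0x0,
nat_lit 0x0,
nat_lit 0x0,
nat_lit 0x0,
nat_lit 0x0,
nat_lit 0x0,
nat_lit 0x0,
nat_lit 0x0,
nat_lit 0x0,
nat_lit 0x0,
nat_lit 0x0,
nat_lit 0x0,
nat_lit 0x0,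
nat_lit 0x0,
nat_lit 0x0,
nat_lit 0x0,
nat_lit 0x0,
nat_lit 0x0,
nat_lit 0x0,
nat_lit 0x0,
nat_lit 0x0,
nat_lit 0x0,
nat_lit 0x0,
nat_lit 0x0,
nat_lit 0x0,
nat_lit 0x0,
nat_lit 0x0,
nat_lit 0x0,
nat_lit 0x0,
nat_lit 0x0,
nat_lit 0x0,
nat_lit 0x0,
nat_lit 0x0,
nat_lit 0x0,
nat_lit 0x0,
nat_lit 0x0,
nat_lit 0x0,
nat_lit 0x0,
nat_lit 0x0,
nat_lit 0x0,
nat_lit 0x0,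
nat_lit 0x0,
nat_lit 0x0,
nat_lit 0x0,
nat_lit 0x0,
nat_lit 0x0,
nat_lit 0x0,
nat_lit 0x0,
nat_lit 0x0,
nat_lit 0x0,
nat_lit 0x0,
nat_lit 0x0,
nat_lit 0x0,
nat_lit 0x0,
nat_lit 0x0,
nat_lit 0x0,
nat_lit 0x0,
nat_lit 0x0,
nat_lit 0x0,
nat_lit 0x0,
nat_lit 0x0,
nat_lit 0x0,
nat_lit 0x0,
nat_lit 0x0,
nat_lit 0x0,
nat_lit 0x0,
nat_lit 0x0,
nat_lit 0x0,
nat_lit 0x0,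
nat_lit 0x0,
nat_lit 0x0,
nat_lit 0x0,
nat_lit 0x0,
nat_lit 0x0,
nat_lit 0x0,
nat_lit 0x0,
nat_lit 0x0,
nat_lit 0x0,
nat_lit 0x0,
nat_lit 0x0,
nat_lit 0x0,
nat_lit 0x0,
nat_lit 0x0,
nat_lit 0x0,
nat_lit 0x0,
nat_lit 0x0,
nat_lit 0x0,
nat_lit 0x0,
nat_lit 0x0,
nat_lit 0x0,
nat_lit 0x0,
nat_lit 0x0,
nat_lit 0x0,
nat_lit 0x0,
nat_lit 0x0,
nat_lit 0x0,
nat_lit 0x0,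
nat_lit 0x0,
nat_lit 0x0,
nat_lit 0x0,
nat_lit 0x0,
nat_lit 0x0,
nat_lit 0x0,
nat_lit 0x0,
nat_lit 0x0,
nat_lit 0x0,
nat_lit 0x0,
nat_lit 0x0,
nat_lit 0x0,
nat_lit 0x0,
nat_lit 0x0,
nat_lit 0x0,
nat_lit 0x0,
nat_lit 0x0,
nat_lit 0x0,
nat_lit 0x0,
nat_lit 0x0,
nat_lit 0x0,
nat_lit 0x0,
nat_lit 0x0,
nat_lit 0x0,
nat_lit 0x0,
nat_lit 0x0,
nat_lit 0x0,
nat_lit 0x0,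
nat_lit 0x0,
nat_lit 0x0,
nat_lit 0x0,
nat_lit 0x0,
nat_lit 0x0,
nat_lit 0x0,
nat_lit 0x0,
nat_lit 0x0,
nat_lit 0x0,
nat_lit 0x0,
nat_lit 0x0,
nat_lit 0x0,
nat_lit 0x0,
nat_lit 0x0,
nat_lit 0x0,
nat_lit 0x0,
nat_lit 0x0,
nat_lit 0x0,
nat_lit 0x0,
nat_lit 0x0,
nat_lit 0x0,
nat_lit 0x0,
nat_lit 0x0,
nat_lit 0x0,
nat_lit 0x0,
nat_lit 0x0,
nat_lit 0x0,
nat_lit 0x0,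
nat_lit 0x0,
nat_lit 0x0,
nat_lit 0x0,
nat_lit 0x0,
nat_lit 0x0,
nat_lit 0x0,
nat_lit 0x0,
nat_lit 0x0,
nat_lit 0x0,
nat_lit 0x0,
nat_lit 0x0,
nat_lit 0x0,
nat_lit 0x0,
nat_lit 0x0,
nat_lit 0x0,
nat_lit 0x0,
nat_lit 0x0,
nat_lit 0x0,
nat_lit 0x0,
nat_lit 0x0,
nat_lit 0x0,
nat_lit 0x0,
nat_lit 0x0,
nat_lit 0x0,
nat_lit 0x0,
nat_lit 0x0,
nat_lit 0x0,
nat_lit 0x0,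
nat_lit 0x0,
nat_lit 0x0,
nat_lit 0x0,
nat_lit 0x0,
nat_lit 0x0,
nat_lit 0x0,
nat_lit 0x0,
nat_lit 0x0,
nat_lit 0x0,
nat_lit 0x0,
nat_lit 0x0,
nat_lit 0x0,
nat_lit 0x0,
nat_lit 0x0,
nat_lit 0x0,
nat_lit 0x0,
nat_lit 0x0,
nat_lit 0x0,
nat_lit 0x0,
nat_lit 0x0,
nat_lit 0x0,
nat_lit 0x0,
nat_lit 0x0,
nat_lit 0x0,
nat_lit 0x0,
nat_lit 0x0,
nat_lit 0x0,
nat_lit 0x0,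
nat_lit 0x0,
nat_lit 0x0,
nat_lit 0x0,
nat_lit 0x0,
nat_lit 0x0,
nat_lit 0x0,
nat_lit 0x0,
nat_lit 0x0,
nat_lit 0x0,
nat_lit 0x0,
nat_lit 0x0,
nat_lit 0x0,
nat_lit 0x0,
nat_lit 0x0,
nat_lit 0x0,
nat_lit 0x0,
nat_lit 0x0,
nat_lit 0x0,
nat_lit 0x0,
nat_lit 0x0,
nat_lit 0x0,
nat_lit 0x0,
nat_lit 0x0,
nat_lit 0x0,
nat_lit 0x0,
nat_lit 0x0,
nat_lit 0x0,
nat_lit 0x0,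
nat_lit 0x0,
nat_lit 0x0,
nat_lit 0x0,
nat_lit 0x0,
nat_lit 0x0,
nat_lit 0x0,
nat_lit 0x0,
nat_lit 0x0,
nat_lit 0x0,
nat_lit 0x0,
nat_lit 0x0,
nat_lit 0x0,
nat_lit 0x0,
nat_lit 0x0,
nat_lit 0x0,
nat_lit 0x0,
nat_lit 0x0,
nat_lit 0x0,
nat_lit 0x0,
nat_lit 0x0,
nat_lit 0x0,
nat_lit 0x0,
nat_lit 0x0,
nat_lit 0x0,
nat_lit 0x0,
nat_lit 0x0,
nat_lit 0x0,
nat_lit 0x0,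
nat_lit 0x0,
nat_lit 0x0,
nat_lit 0x0,
nat_lit 0x0,
nat_lit 0x0,
nat_lit 0x0,
nat_lit 0x0,
nat_lit 0x0,
nat_lit 0x0,
nat_lit 0x0,
nat_lit 0x0,
nat_lit 0x0,
nat_lit 0x0,
nat_lit 0x0,
nat_lit 0x0,
nat_lit 0x0,
nat_lit 0x0,
nat_lit 0x0,
nat_lit 0x0,
nat_lit 0x0,
nat_lit 0x0,
nat_lit 0x0,
nat_lit 0x0,
nat_lit 0x0,
nat_lit 0x0,
nat_lit 0x0,
nat_lit 0x0,
nat_lit 0x0,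
nat_lit 0x0,
nat_lit 0x0,
nat_lit 0x0,
nat_lit 0x0,
nat_lit 0x0,
nat_lit 0x0,
nat_lit 0x0,
nat_lit 0x0,
nat_lit 0x0,
nat_lit 0x0,
nat_lit 0x0,
nat_lit 0x0,
nat_lit 0x0,
nat_lit 0x0,
nat_lit 0x0,
nat_lit 0x0,
nat_lit 0x0,
nat_lit 0x0,
nat_lit 0x0,
nat_lit 0x0,
nat_lit 0x0,
nat_lit 0x0,
nat_lit 0x0,
nat_lit 0x0,
nat_lit 0x0,
nat_lit 0x0,
nat_lit 0x0,
nat_lit 0x0,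
nat_lit 0x0,
nat_lit 0x0,
nat_lit 0x0,
nat_lit 0x0,
nat_lit 0x0,
nat_lit 0x0,
nat_lit 0x0,
nat_lit 0x0,
nat_lit 0x0,
nat_lit 0x0,
nat_lit 0x0,
nat_lit 0x0,
nat_lit 0x0,
nat_lit 0x0,
nat_lit 0x0,
nat_lit 0x0,
nat_lit 0x0,
nat_lit 0x0,
nat_lit 0x0,
nat_lit 0x0,
nat_lit 0x0,
nat_lit 0x0,
nat_lit 0x0,
nat_lit 0x0,
nat_lit 0x0,
nat_lit 0x0,
nat_lit 0x0,
nat_lit 0x0,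
nat_lit 0x0,
nat_lit 0x0,
nat_lit 0x0,
nat_lit 0x0,
nat_lit 0x0,
nat_lit 0x0,
nat_lit 0x0,
nat_lit 0x0,
nat_lit 0x0,
nat_lit 0x0,
nat_lit 0x0,
nat_lit 0x0,
nat_lit 0x0,
nat_lit 0x0,
nat_lit 0x0,
nat_lit 0x0,
nat_lit 0x0,
nat_lit 0x0,
nat_lit 0x0,
nat_lit 0x0,
nat_lit 0x0,
nat_lit 0x0,
nat_lit 0x0,
nat_lit 0x0,
nat_lit 0x0,
nat_lit 0x0,
nat_lit 0x0,
nat_lit 0x0,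
nat_lit 0x0,
nat_lit 0x0,
nat_lit 0x0,
nat_lit 0x0,
nat_lit 0x0,
nat_lit 0x0,
nat_lit 0x0,
nat_lit 0x0,
nat_lit 0x0,
nat_lit 0x0,
nat_lit 0x0,
nat_lit 0x0,
nat_lit 0x0,
nat_lit 0x0,
nat_lit 0x0,
nat_lit 0x0,
nat_lit 0x0,
nat_lit 0x0,
nat_lit 0x0,
nat_lit 0x0,
nat_lit 0x0,
nat_lit 0x0,
nat_lit 0x0,
nat_lit 0x0,
nat_lit 0x0,
nat_lit 0x0,
nat_lit 0x0,
nat_lit 0x0,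
nat_lit 0x0,
nat_lit 0x0,
nat_lit 0x0,
nat_lit 0x0,
nat_lit 0x0,
nat_lit 0x0,
nat_lit 0x0,
nat_lit 0x0,
nat_lit 0x0,
nat_lit 0x0,
nat_lit 0x0,
nat_lit 0x0,
nat_lit 0x0,
nat_lit 0x0,
nat_lit 0x0,
nat_lit 0x0,
nat_lit 0x0,
nat_lit 0x0,
nat_lit 0x0,
nat_lit 0x0,
nat_lit 0x0,
nat_lit 0x0,
nat_lit 0x0,
nat_lit 0x0,
nat_lit 0x0,
nat_lit 0x0,
nat_lit 0x0,
nat_lit 0x0,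
nat_lit 0x0,
nat_lit 0x0,
nat_lit 0x0,
nat_lit 0x0,
nat_lit 0x0,
nat_lit 0x0,
nat_lit 0x0,
nat_lit 0x0,
nat_lit 0x0,
nat_lit 0x0,
nat_lit 0x0,
nat_lit 0x0,
nat_lit 0x0,
nat_lit 0x0,
nat_lit 0x0,
nat_lit 0x0,
nat_lit 0x0,
nat_lit 0x0,
nat_lit 0x0,
nat_lit 0x0,
nat_lit 0x0,
nat_lit 0x0,
nat_lit 0x0,
nat_lit 0x0,
nat_lit 0x0,
nat_lit 0x0,
nat_lit 0x0,
nat_lit 0x0,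
nat_lit 0x0,
nat_lit 0x0,
nat_lit 0x0,
nat_lit 0x0]

theorem facts_ok25600 : checkFacts facts 18364758544493064720 words 128 subs 49982 items25600 25600 = true := by decide +kernel

noncomputable def items26112 : List ℕ := [
nat_lit 0x0,
nat_lit 0x0,
nat_lit 0x0,
nat_lit 0x0,
nat_lit 0x0,
nat_lit 0x0,
nat_lit 0x0,
nat_lit 0x0,
nat_lit 0x0,
nat_lit 0x0,
nat_lit 0x0,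
nat_lit 0x0,
nat_lit 0x0,
nat_lit 0x0,
nat_lit 0x0,
nat_lit 0x0,
nat_lit 0x0,
nat_lit 0x0,
nat_lit 0x0,
nat_lit 0x0,
nat_lit 0x0,
nat_lit 0x0,
nat_lit 0x0,
nat_lit 0x0,
nat_lit 0x0,
nat_lit 0x0,
nat_lit 0x0,
nat_lit 0x0,
nat_lit 0x0,
nat_lit 0x0,
nat_lit 0x0,
nat_lit 0x0,
nat_lit 0x0,
nat_lit 0x0,
nat_lit 0x0,
nat_lit 0x0,
nat_lit 0x0,
nat_lit 0x0,
nat_lit 0x0,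
nat_lit 0x0,
nat_lit 0x0,
nat_lit 0x0,
nat_lit 0x0,
nat_lit 0x0,
nat_lit 0x0,
nat_lit 0x0,
nat_lit 0x0,
nat_lit 0x0,
nat_lit 0x0,
nat_lit 0x0,
nat_lit 0x0,
nat_lit 0x0,
nat_lit 0x0,
nat_lit 0x0,
nat_lit 0x0,
nat_lit 0x0,
nat_lit 0x0,
nat_lit 0x0,
nat_lit 0x0,
nat_lit 0x0,
nat_lit 0x0,
nat_lit 0x0,
nat_lit 0x0,
nat_lit 0x0,
nat_lit 0x0,
nat_lit 0x0,
nat_lit 0x0,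
nat_lit 0x0,
nat_lit 0x0,
nat_lit 0x0,
nat_lit 0x0,
nat_lit 0x0,
nat_lit 0x0,
nat_lit 0x0,
nat_lit 0x0,
nat_lit 0x0,
nat_lit 0x0,
nat_lit 0x0,
nat_lit 0x0,
nat_lit 0x0,
nat_lit 0x0,
nat_lit 0x0,
nat_lit 0x0,
nat_lit 0x0,
nat_lit 0x0,
nat_lit 0x0,
nat_lit 0x0,
nat_lit 0x0,
nat_lit 0x0,
nat_lit 0x0,
nat_lit 0x0,
nat_lit 0x0,
nat_lit 0x0,
nat_lit 0x0,
nat_lit 0x0,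
nat_lit 0x0,
nat_lit 0x0,
nat_lit 0x0,
nat_lit 0x0,
nat_lit 0x0,
nat_lit 0x0,
nat_lit 0x0,
nat_lit 0x0,
nat_lit 0x0,
nat_lit 0x0,
nat_lit 0x0,
nat_lit 0x0,
nat_lit 0x0,
nat_lit 0x0,
nat_lit 0x0,
nat_lit 0x0,
nat_lit 0x0,
nat_lit 0x0,
nat_lit 0x0,
nat_lit 0x0,
nat_lit 0x0,
nat_lit 0x0,
nat_lit 0x0,
nat_lit 0x0,
nat_lit 0x0,
nat_lit 0x0,
nat_lit 0x0,
nat_lit 0x0,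
nat_lit 0x0,
nat_lit 0x0,
nat_lit 0x0,
nat_lit 0x0,
nat_lit 0x0,
nat_lit 0x0,
nat_lit 0x0,
nat_lit 0x0,
nat_lit 0x0,
nat_lit 0x0,
nat_lit 0x0,
nat_lit 0x0,
nat_lit 0x0,
nat_lit 0x0,
nat_lit 0x0,
nat_lit 0x0,
nat_lit 0x0,
nat_lit 0x0,
nat_lit 0x0,
nat_lit 0x0,
nat_lit 0x0,
nat_lit 0x0,
nat_lit 0x0,
nat_lit 0x0,
nat_lit 0x0,
nat_lit 0x0,
nat_lit 0x0,
nat_lit 0x0,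
nat_lit 0x0,
nat_lit 0x0,
nat_lit 0x0,
nat_lit 0x0,
nat_lit 0x0,
nat_lit 0x0,
nat_lit 0x0,
nat_lit 0x0,
nat_lit 0x0,
nat_lit 0x0,
nat_lit 0x0,
nat_lit 0x0,
nat_lit 0x0,
nat_lit 0x0,
nat_lit 0x0,
nat_lit 0x0,
nat_lit 0x0,
nat_lit 0x0,
nat_lit 0x0,
nat_lit 0x0,
nat_lit 0x0,
nat_lit 0x0,
nat_lit 0x0,
nat_lit 0x0,
nat_lit 0x0,
nat_lit 0x0,
nat_lit 0x0,
nat_lit 0x0,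
nat_lit 0x0,
nat_lit 0x0,
nat_lit 0x0,
nat_lit 0x0,
nat_lit 0x0,
nat_lit 0x0,
nat_lit 0x0,
nat_lit 0x0,
nat_lit 0x0,
nat_lit 0x0,
nat_lit 0x0,
nat_lit 0x0,
nat_lit 0x0,
nat_lit 0x0,
nat_lit 0x0,
nat_lit 0x0,
nat_lit 0x0,
nat_lit 0x0,
nat_lit 0x0,
nat_lit 0x0,
nat_lit 0x0,
nat_lit 0x0,
nat_lit 0x0,
nat_lit 0x0,
nat_lit 0x0,
nat_lit 0x0,
nat_lit 0x0,
nat_lit 0x0,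
nat_lit 0x0,
nat_lit 0x0,
nat_lit 0x0,
nat_lit 0x0,
nat_lit 0x0,
nat_lit 0x0,
nat_lit 0x0,
nat_lit 0x0,
nat_lit 0x0,
nat_lit 0x0,
nat_lit 0x0,
nat_lit 0x0,
nat_lit 0x0,
nat_lit 0x0,
nat_lit 0x0,
nat_lit 0x0,
nat_lit 0x0,
nat_lit 0x0,
nat_lit 0x0,
nat_lit 0x0,
nat_lit 0x0,
nat_lit 0x0,
nat_lit 0x0,
nat_lit 0x0,
nat_lit 0x0,
nat_lit 0x0,
nat_lit 0x0,
nat_lit 0x0,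
nat_lit 0x0,
nat_lit 0x0,
nat_lit 0x0,
nat_lit 0x0,
nat_lit 0x0,
nat_lit 0x0,
nat_lit 0x0,
nat_lit 0x0,
nat_lit 0x0,
nat_lit 0x0,
nat_lit 0x0,
nat_lit 0x0,
nat_lit 0x0,
nat_lit 0x0,
nat_lit 0x0,
nat_lit 0x0,
nat_lit 0x0,
nat_lit 0x0,
nat_lit 0x0,
nat_lit 0x0,
nat_lit 0x0,
nat_lit 0x0,
nat_lit 0x0,
nat_lit 0x0,
nat_lit 0x0,
nat_lit 0x0,
nat_lit 0x0,
nat_lit 0x0,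
nat_lit 0x0,
nat_lit 0x0,
nat_lit 0x0,
nat_lit 0x0,
nat_lit 0x0,
nat_lit 0x0,
nat_lit 0x0,
nat_lit 0x0,
nat_lit 0x0,
nat_lit 0x0,
nat_lit 0x0,
nat_lit 0x0,
nat_lit 0x0,
nat_lit 0x0,
nat_lit 0x0,
nat_lit 0x0,
nat_lit 0x0,
nat_lit 0x0,
nat_lit 0x0,
nat_lit 0x0,
nat_lit 0x0,
nat_lit 0x0,
nat_lit 0x0,
nat_lit 0x0,
nat_lit 0x0,
nat_lit 0x0,
nat_lit 0x0,
nat_lit 0x0,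
nat_lit 0x0,
nat_lit 0x0,
nat_lit 0x0,
nat_lit 0x0,
nat_lit 0x0,
nat_lit 0x0,
nat_lit 0x0,
nat_lit 0x0,
nat_lit 0x0,
nat_lit 0x0,
nat_lit 0x0,
nat_lit 0x0,
nat_lit 0x0,
nat_lit 0x0,
nat_lit 0x0,
nat_lit 0x0,
nat_lit 0x0,
nat_lit 0x0,
nat_lit 0x0,
nat_lit 0x0,
nat_lit 0x0,
nat_lit 0x0,
nat_lit 0x0,
nat_lit 0x0,
nat_lit 0x0,
nat_lit 0x0,
nat_lit 0x0,
nat_lit 0x0,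
nat_lit 0x0,
nat_lit 0x0,
nat_lit 0x0,
nat_lit 0x0,
nat_lit 0x0,
nat_lit 0x0,
nat_lit 0x0,
nat_lit 0x0,
nat_lit 0x0,
nat_lit 0x0,
nat_lit 0x0,
nat_lit 0x0,
nat_lit 0x0,
nat_lit 0x0,
nat_lit 0x0,
nat_lit 0x0,
nat_lit 0x0,
nat_lit 0x0,
nat_lit 0x0,
nat_lit 0x0,
nat_lit 0x0,
nat_lit 0x0,
nat_lit 0x0,
nat_lit 0x0,
nat_lit 0x0,
nat_lit 0x0,
nat_lit 0x0,
nat_lit 0x0,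
nat_lit 0x0,
nat_lit 0x0,
nat_lit 0x0,
nat_lit 0x0,
nat_lit 0x0,
nat_lit 0x0,
nat_lit 0x0,
nat_lit 0x0,
nat_lit 0x0,
nat_lit 0x0,
nat_lit 0x0,
nat_lit 0x0,
nat_lit 0x0,
nat_lit 0x0,
nat_lit 0x0,
nat_lit 0x0,
nat_lit 0x0,
nat_lit 0x0,
nat_lit 0x0,
nat_lit 0x0,
nat_lit 0x0,
nat_lit 0x0,
nat_lit 0x0,
nat_lit 0x0,
nat_lit 0x0,
nat_lit 0x0,
nat_lit 0x0,
nat_lit 0x0,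
nat_lit 0x0,
nat_lit 0x0,
nat_lit 0x0,
nat_lit 0x0,
nat_lit 0x0,
nat_lit 0x0,
nat_lit 0x0,
nat_lit 0x0,
nat_lit 0x0,
nat_lit 0x0,
nat_lit 0x0,
nat_lit 0x0,
nat_lit 0x0,
nat_lit 0x0,
nat_lit 0x0,
nat_lit 0x0,
nat_lit 0x0,
nat_lit 0x0,
nat_lit 0x0,
nat_lit 0x0,
nat_lit 0x0,
nat_lit 0x0,
nat_lit 0x0,
nat_lit 0x0,
nat_lit 0x0,
nat_lit 0x0,
nat_lit 0x0,
nat_lit 0x0,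
nat_lit 0x0,
nat_lit 0x0,
nat_lit 0x0,
nat_lit 0x0,
nat_lit 0x0,
nat_lit 0x0,
nat_lit 0x0,
nat_lit 0x0,
nat_lit 0x0,
nat_lit 0x0,
nat_lit 0x0,
nat_lit 0x0,
nat_lit 0x0,
nat_lit 0x0,
nat_lit 0x0,
nat_lit 0x0,
nat_lit 0x0,
nat_lit 0x0,
nat_lit 0x0,
nat_lit 0x0,
nat_lit 0x0,
nat_lit 0x0,
nat_lit 0x0,
nat_lit 0x0,
nat_lit 0x0,
nat_lit 0x0,
nat_lit 0x0,
nat_lit 0x0,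
nat_lit 0x0,
nat_lit 0x0,
nat_lit 0x0,
nat_lit 0x0,
nat_lit 0x0,
nat_lit 0x0,
nat_lit 0x0,
nat_lit 0x0,
nat_lit 0x0,
nat_lit 0x0,
nat_lit 0x0,
nat_lit 0x0,
nat_lit 0x0,
nat_lit 0x0,
nat_lit 0x0,
nat_lit 0x0,
nat_lit 0x0,
nat_lit 0x0,
nat_lit 0x0,
nat_lit 0x0,
nat_lit 0x0,
nat_lit 0x0,
nat_lit 0x0,
nat_lit 0x0,
nat_lit 0x0,
nat_lit 0x0,
nat_lit 0x0,
nat_lit 0x0,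
nat_lit 0x0,
nat_lit 0x0,
nat_lit 0x0,
nat_lit 0x0,
nat_lit 0x0,
nat_lit 0x0,
nat_lit 0x0,
nat_lit 0x0,
nat_lit 0x0,
nat_lit 0x0,
nat_lit 0x0,
nat_lit 0x0,
nat_lit 0x0,
nat_lit 0x0,
nat_lit 0x0,
nat_lit 0x0,
nat_lit 0x0,
nat_lit 0x0,
nat_lit 0x0,
nat_lit 0x0,
nat_lit 0x0,
nat_lit 0x0,
nat_lit 0x0,
nat_lit 0x0,
nat_lit 0x0,
nat_lit 0x0,
nat_lit 0x0,
nat_lit 0x0,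
nat_lit 0x0,
nat_lit 0x0,
nat_lit 0x0,
nat_lit 0x0,
nat_lit 0x0,
nat_lit 0x0,
nat_lit 0x0,
nat_lit 0x0,
nat_lit 0x0,
nat_lit 0x0,
nat_lit 0x0,
nat_lit 0x0,
nat_lit 0x0,
nat_lit 0x0,
nat_lit 0x0,
nat_lit 0x0,
nat_lit 0x0,
nat_lit 0x0,
nat_lit 0x0,
nat_lit 0x0,
nat_lit 0x0,
nat_lit 0x0,
nat_lit 0x0,
nat_lit 0x0,
nat_lit 0x0]

theorem facts_ok26112 : checkFacts facts 18364758544493064720 words 128 subs 49982 items26112 26112 = true := by decide +kernel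

noncomputable def items26624 : List ℕ := [
nat_lit 0x0,
nat_lit 0x0,
nat_lit 0x0,
nat_lit 0x0,
nat_lit 0x0,
nat_lit 0x0,
nat_lit 0x0,
nat_lit 0x0,
nat_lit 0x0,
nat_lit 0x0,
nat_lit 0x0,
nat_lit 0x0,
nat_lit 0x0,
nat_lit 0x0,
nat_lit 0x0,
nat_lit 0x0,
nat_lit 0x0,
nat_lit 0x0,
nat_lit 0x0,
nat_lit 0x0,
nat_lit 0x0,
nat_lit 0x0,
nat_lit 0x0,
nat_lit 0x0,
nat_lit 0x0,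
nat_lit 0x0,
nat_lit 0x0,
nat_lit 0x0,
nat_lit 0x0,
nat_lit 0x0,
nat_lit 0x0,
nat_lit 0x0,
nat_lit 0x0,
nat_lit 0x0,
nat_lit 0x0,
nat_lit 0x0,
nat_lit 0x0,
nat_lit 0x0,
nat_lit 0x0,
nat_lit 0x0,
nat_lit 0x0,
nat_lit 0x0,
nat_lit 0x0,
nat_lit 0x0,
nat_lit 0x0,
nat_lit 0x0,
nat_lit 0x0,
nat_lit 0x0,
nat_lit 0x0,
nat_lit 0x0,
nat_lit 0x0,
nat_lit 0x0,
nat_lit 0x0,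
nat_lit 0x0,
nat_lit 0x0,
nat_lit 0x0,
nat_lit 0x0,
nat_lit 0x0,
nat_lit 0x0,
nat_lit 0x0,
nat_lit 0x0,
nat_lit 0x0,
nat_lit 0x0,
nat_lit 0x0,
nat_lit 0x0,
nat_lit 0x0,
nat_lit 0x0,
nat_lit 0x0,
nat_lit 0x0,
nat_lit 0x0,
nat_lit 0x0,
nat_lit 0x0,
nat_lit 0x0,
nat_lit 0x0,
nat_lit 0x0,
nat_lit 0x0,
nat_lit 0x0,
nat_lit 0x0,
nat_lit 0x0,
nat_lit 0x0,
nat_lit 0x0,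
nat_lit 0x0,
nat_lit 0x0,
nat_lit 0x0,
nat_lit 0x0,
nat_lit 0x0,
nat_lit 0x0,
nat_lit 0x0,
nat_lit 0x0,
nat_lit 0x0,
nat_lit 0x0,
nat_lit 0x0,
nat_lit 0x0,
nat_lit 0x0,
nat_lit 0x0,
nat_lit 0x0,
nat_lit 0x0,
nat_lit 0x0,
nat_lit 0x0,
nat_lit 0x0,
nat_lit 0x0,
nat_lit 0x0,
nat_lit 0x0,
nat_lit 0x0,
nat_lit 0x0,
nat_lit 0x0,
nat_lit 0x0,
nat_lit 0x0,
nat_lit 0x0,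
nat_lit 0x0,
nat_lit 0x0,
nat_lit 0x0,
nat_lit 0x0,
nat_lit 0x0,
nat_lit 0x0,
nat_lit 0x0,
nat_lit 0x0,
nat_lit 0x0,
nat_lit 0x0,
nat_lit 0x0,
nat_lit 0x0,
nat_lit 0x0,
nat_lit 0x0,
nat_lit 0x0,
nat_lit 0x0,
nat_lit 0x0,
nat_lit 0x0,
nat_lit 0x0,
nat_lit 0x0,
nat_lit 0x0,
nat_lit 0x0,
nat_lit 0x0,
nat_lit 0x0,
nat_lit 0x0,
nat_lit 0x0,
nat_lit 0x0,
nat_lit 0x0,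
nat_lit 0x0,
nat_lit 0x0,
nat_lit 0x0,
nat_lit 0x0,
nat_lit 0x0,
nat_lit 0x0,
nat_lit 0x0,
nat_lit 0x0,
nat_lit 0x0,
nat_lit 0x0,
nat_lit 0x0,
nat_lit 0x0,
nat_lit 0x0,
nat_lit 0x0,
nat_lit 0x0,
nat_lit 0x0,
nat_lit 0x0,
nat_lit 0x0,
nat_lit 0x0,
nat_lit 0x0,
nat_lit 0x0,
nat_lit 0x0,
nat_lit 0x0,
nat_lit 0x0,
nat_lit 0x0,
nat_lit 0x0,
nat_lit 0x0,
nat_lit 0x0,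
nat_lit 0x0,
nat_lit 0x0,
nat_lit 0x0,
nat_lit 0x0,
nat_lit 0x0,
nat_lit 0x0,
nat_lit 0x0,
nat_lit 0x0,
nat_lit 0x0,
nat_lit 0x0,
nat_lit 0x0,
nat_lit 0x0,
nat_lit 0x0,
nat_lit 0x0,
nat_lit 0x0,
nat_lit 0x0,
nat_lit 0x0,
nat_lit 0x0,
nat_lit 0x0,
nat_lit 0x0,
nat_lit 0x0,
nat_lit 0x0,
nat_lit 0x0,
nat_lit 0x0,
nat_lit 0x0,
nat_lit 0x0,
nat_lit 0x0,
nat_lit 0x0,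
nat_lit 0x0,
nat_lit 0x0,
nat_lit 0x0,
nat_lit 0x0,
nat_lit 0x0,
nat_lit 0x0,
nat_lit 0x0,
nat_lit 0x0,
nat_lit 0x0,
nat_lit 0x0,
nat_lit 0x0,
nat_lit 0x0,
nat_lit 0x0,
nat_lit 0x0,
nat_lit 0x0,
nat_lit 0x0,
nat_lit 0x0,
nat_lit 0x0,
nat_lit 0x0,
nat_lit 0x0,
nat_lit 0x0,
nat_lit 0x0,
nat_lit 0x0,
nat_lit 0x0,
nat_lit 0x0,
nat_lit 0x0,
nat_lit 0x0,
nat_lit 0x0,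
nat_lit 0x0,
nat_lit 0x0,
nat_lit 0x0,
nat_lit 0x0,
nat_lit 0x0,
nat_lit 0x0,
nat_lit 0x0,
nat_lit 0x0,
nat_lit 0x0,
nat_lit 0x0,
nat_lit 0x0,
nat_lit 0x0,
nat_lit 0x0,
nat_lit 0x0,
nat_lit 0x0,
nat_lit 0x0,
nat_lit 0x0,
nat_lit 0x0,
nat_lit 0x0,
nat_lit 0x0,
nat_lit 0x0,
nat_lit 0x0,
nat_lit 0x0,
nat_lit 0x0,
nat_lit 0x0,
nat_lit 0x0,
nat_lit 0x0,
nat_lit 0x0,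
nat_lit 0x0,
nat_lit 0x0,
nat_lit 0x0,
nat_lit 0x0,
nat_lit 0x0,
nat_lit 0x0,
nat_lit 0x0,
nat_lit 0x0,
nat_lit 0x0,
nat_lit 0x0,
nat_lit 0x0,
nat_lit 0x0,
nat_lit 0x0,
nat_lit 0x0,
nat_lit 0x0,
nat_lit 0x0,
nat_lit 0x0,
nat_lit 0x0,
nat_lit 0x0,
nat_lit 0x0,
nat_lit 0x0,
nat_lit 0x0,
nat_lit 0x0,
nat_lit 0x0,
nat_lit 0x0,
nat_lit 0x0,
nat_lit 0x0,
nat_lit 0x0,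
nat_lit 0x0,
nat_lit 0x0,
nat_lit 0x0,
nat_lit 0x0,
nat_lit 0x0,
nat_lit 0x0,
nat_lit 0x0,
nat_lit 0x0,
nat_lit 0x0,
nat_lit 0x0,
nat_lit 0x0,
nat_lit 0x0,
nat_lit 0x0,
nat_lit 0x0,
nat_lit 0x0,
nat_lit 0x0,
nat_lit 0x0,
nat_lit 0x0,
nat_lit 0x0,
nat_lit 0x0,
nat_lit 0x0,
nat_lit 0x0,
nat_lit 0x0,
nat_lit 0x0,
nat_lit 0x0,
nat_lit 0x0,
nat_lit 0x0,
nat_lit 0x0,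
nat_lit 0x0,
nat_lit 0x0,
nat_lit 0x0,
nat_lit 0x0,
nat_lit 0x0,
nat_lit 0x0,
nat_lit 0x0,
nat_lit 0x0,
nat_lit 0x0,
nat_lit 0x0,
nat_lit 0x0,
nat_lit 0x0,
nat_lit 0x0,
nat_lit 0x0,
nat_lit 0x0,
nat_lit 0x0,
nat_lit 0x0,
nat_lit 0x0,
nat_lit 0x0,
nat_lit 0x0,
nat_lit 0x0,
nat_lit 0x0,
nat_lit 0x0,
nat_lit 0x0,
nat_lit 0x0,
nat_lit 0x0,
nat_lit 0x0,
nat_lit 0x0,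
nat_lit 0x0,
nat_lit 0x0,
nat_lit 0x0,
nat_lit 0x0,
nat_lit 0x0,
nat_lit 0x0,
nat_lit 0x0,
nat_lit 0x0,
nat_lit 0x0,
nat_lit 0x0,
nat_lit 0x0,
nat_lit 0x0,
nat_lit 0x0,
nat_lit 0x0,
nat_lit 0x0,
nat_lit 0x0,
nat_lit 0x0,
nat_lit 0x0,
nat_lit 0x0,
nat_lit 0x0,
nat_lit 0x0,
nat_lit 0x0,
nat_lit 0x0,
nat_lit 0x0,
nat_lit 0x0,
nat_lit 0x0,
nat_lit 0x0,
nat_lit 0x0,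
nat_lit 0x0,
nat_lit 0x0,
nat_lit 0x0,
nat_lit 0x0,
nat_lit 0x0,
nat_lit 0x0,
nat_lit 0x0,
nat_lit 0x0,
nat_lit 0x0,
nat_lit 0x0,
nat_lit 0x0,
nat_lit 0x0,
nat_lit 0x0,
nat_lit 0x0,
nat_lit 0x0,
nat_lit 0x0,
nat_lit 0x0,
nat_lit 0x0,
nat_lit 0x0,
nat_lit 0x0,
nat_lit 0x0,
nat_lit 0x0,
nat_lit 0x0,
nat_lit 0x0,
nat_lit 0x0,
nat_lit 0x0,
nat_lit 0x0,
nat_lit 0x0,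
nat_lit 0x0,
nat_lit 0x0,
nat_lit 0x0,
nat_lit 0x0,
nat_lit 0x0,
nat_lit 0x0,
nat_lit 0x0,
nat_lit 0x0,
nat_lit 0x0,
nat_lit 0x0,
nat_lit 0x0,
nat_lit 0x0,
nat_lit 0x0,
nat_lit 0x0,
nat_lit 0x0,
nat_lit 0x0,
nat_lit 0x0,
nat_lit 0x0,
nat_lit 0x0,
nat_lit 0x0,
nat_lit 0x0,
nat_lit 0x0,
nat_lit 0x0,
nat_lit 0x0,
nat_lit 0x0,
nat_lit 0x0,
nat_lit 0x0,
nat_lit 0x0,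
nat_lit 0x0,
nat_lit 0x0,
nat_lit 0x0,
nat_lit 0x0,
nat_lit 0x0,
nat_lit 0x0,
nat_lit 0x0,
nat_lit 0x0,
nat_lit 0x0,
nat_lit 0x0,
nat_lit 0x0,
nat_lit 0x0,
nat_lit 0x0,
nat_lit 0x0,
nat_lit 0x0,
nat_lit 0x0,
nat_lit 0x0,
nat_lit 0x0,
nat_lit 0x0,
nat_lit 0x0,
nat_lit 0x0,
nat_lit 0x0,
nat_lit 0x0,
nat_lit 0x0,
nat_lit 0x0,
nat_lit 0x0,
nat_lit 0x0,
nat_lit 0x0,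
nat_lit 0x0,
nat_lit 0x0,
nat_lit 0x0,
nat_lit 0x0,
nat_lit 0x0,
nat_lit 0x0,
nat_lit 0x0,
nat_lit 0x0,
nat_lit 0x0,
nat_lit 0x0,
nat_lit 0x0,
nat_lit 0x0,
nat_lit 0x0,
nat_lit 0x0,
nat_lit 0x0,
nat_lit 0x0,
nat_lit 0x0,
nat_lit 0x0,
nat_lit 0x0,
nat_lit 0x0,
nat_lit 0x0,
nat_lit 0x0,
nat_lit 0x0,
nat_lit 0x0,
nat_lit 0x0,
nat_lit 0x0,
nat_lit 0x0,
nat_lit 0x0,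
nat_lit 0x0,
nat_lit 0x0,
nat_lit 0x0,
nat_lit 0x0,
nat_lit 0x0,
nat_lit 0x0,
nat_lit 0x0,
nat_lit 0x0,
nat_lit 0x0,
nat_lit 0x0,
nat_lit 0x0,
nat_lit 0x0,
nat_lit 0x0,
nat_lit 0x0,
nat_lit 0x0,
nat_lit 0x0,
nat_lit 0x0,
nat_lit 0x0,
nat_lit 0x0,
nat_lit 0x0,
nat_lit 0x0,
nat_lit 0x0,
nat_lit 0x0,
nat_lit 0x0,
nat_lit 0x0,
nat_lit 0x0,
nat_lit 0x0,
nat_lit 0x0,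
nat_lit 0x0,
nat_lit 0x0,
nat_lit 0x0,
nat_lit 0x0,
nat_lit 0x0,
nat_lit 0x0,
nat_lit 0x0,
nat_lit 0x0,
nat_lit 0x0,
nat_lit 0x0,
nat_lit 0x0]

theorem facts_ok26624 : checkFacts facts 18364758544493064720 words 128 subs 49982 items26624 26624 = true := by decide +kernel

noncomputable def items27136 : List ℕ := [
nat_lit 0x0,
nat_lit 0x0,
nat_lit 0x0,
nat_lit 0x0,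
nat_lit 0x0,
nat_lit 0x0,
nat_lit 0x0,
nat_lit 0x0,
nat_lit 0x0,
nat_lit 0x0,
nat_lit 0x0,
nat_lit 0x0,
nat_lit 0x0,
nat_lit 0x0,
nat_lit 0x0,
nat_lit 0x0,
nat_lit 0x0,
nat_lit 0x0,
nat_lit 0x0,
nat_lit 0x0,
nat_lit 0x0,
nat_lit 0x0,
nat_lit 0x0,
nat_lit 0x0,
nat_lit 0x0,
nat_lit 0x0,
nat_lit 0x0,
nat_lit 0x0,
nat_lit 0x0,
nat_lit 0x0,
nat_lit 0x0,
nat_lit 0x0,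
nat_lit 0x0,
nat_lit 0x0,
nat_lit 0x0,
nat_lit 0x0,
nat_lit 0x0,
nat_lit 0x0,
nat_lit 0x0,
nat_lit 0x0,
nat_lit 0x0,
nat_lit 0x0,
nat_lit 0x0,
nat_lit 0x0,
nat_lit 0x0,
nat_lit 0x0,
nat_lit 0x0,
nat_lit 0x0,
nat_lit 0x0,
nat_lit 0x0,
nat_lit 0x0,
nat_lit 0x0,
nat_lit 0x0,
nat_lit 0x0,
nat_lit 0x0,
nat_lit 0x0,
nat_lit 0x0,
nat_lit 0x0,
nat_lit 0x0,
nat_lit 0x0,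
nat_lit 0x0,
nat_lit 0x0,
nat_lit 0x0,
nat_lit 0x0,
nat_lit 0x0,
nat_lit 0x0,
nat_lit 0x0,
nat_lit 0x0,
nat_lit 0x0,
nat_lit 0x0,
nat_lit 0x0,
nat_lit 0x0,
nat_lit 0x0,
nat_lit 0x0,
nat_lit 0x0,
nat_lit 0x0,
nat_lit 0x0,
nat_lit 0x0,
nat_lit 0x0,
nat_lit 0x0,
nat_lit 0x0,
nat_lit 0x0,
nat_lit 0x0,
nat_lit 0x0,
nat_lit 0x0,
nat_lit 0x0,
nat_lit 0x0,
nat_lit 0x0,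
nat_lit 0x0,
nat_lit 0x0,
nat_lit 0x0,
nat_lit 0x0,
nat_lit 0x0,
nat_lit 0x0,
nat_lit 0x0,
nat_lit 0x0,
nat_lit 0x0,
nat_lit 0x0,
nat_lit 0x0,
nat_lit 0x0,
nat_lit 0x0,
nat_lit 0x0,
nat_lit 0x0,
nat_lit 0x0,
nat_lit 0x0,
nat_lit 0x0,
nat_lit 0x0,
nat_lit 0x0,
nat_lit 0x0,
nat_lit 0x0,
nat_lit 0x0,
nat_lit 0x0,
nat_lit 0x0,
nat_lit 0x0,
nat_lit 0x0,
nat_lit 0x0,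
nat_lit 0x0,
nat_lit 0x0,
nat_lit 0x0,
nat_lit 0x0,
nat_lit 0x0,
nat_lit 0x0,
nat_lit 0x0,
nat_lit 0x0,
nat_lit 0x0,
nat_lit 0x0,
nat_lit 0x0,
nat_lit 0x0,
nat_lit 0x0,
nat_lit 0x0,
nat_lit 0x0,
nat_lit 0x0,
nat_lit 0x0,
nat_lit 0x0,
nat_lit 0x0,
nat_lit 0x0,
nat_lit 0x0,
nat_lit 0x0,
nat_lit 0x0,
nat_lit 0x0,
nat_lit 0x0,
nat_lit 0x0,
nat_lit 0x0,
nat_lit 0x0,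
nat_lit 0x0,
nat_lit 0x0,
nat_lit 0x0,
nat_lit 0x0,
nat_lit 0x0,
nat_lit 0x0,
nat_lit 0x0,
nat_lit 0x0,
nat_lit 0x0,
nat_lit 0x0,
nat_lit 0x0,
nat_lit 0x0,
nat_lit 0x0,
nat_lit 0x0,
nat_lit 0x0,
nat_lit 0x0,
nat_lit 0x0,
nat_lit 0x0,
nat_lit 0x0,
nat_lit 0x0,
nat_lit 0x0,
nat_lit 0x0,
nat_lit 0x0,
nat_lit 0x0,
nat_lit 0x0,
nat_lit 0x0,
nat_lit 0x0,
nat_lit 0x0,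
nat_lit 0x0,
nat_lit 0x0,
nat_lit 0x0,
nat_lit 0x0,
nat_lit 0x0,
nat_lit 0x0,
nat_lit 0x0,
nat_lit 0x0,
nat_lit 0x0,
nat_lit 0x0,
nat_lit 0x0,
nat_lit 0x0,
nat_lit 0x0,
nat_lit 0x0,
nat_lit 0x0,
nat_lit 0x0,
nat_lit 0x0,
nat_lit 0x0,
nat_lit 0x0,
nat_lit 0x0,
nat_lit 0x0,
nat_lit 0x0,
nat_lit 0x0,
nat_lit 0x0,
nat_lit 0x0,
nat_lit 0x0,
nat_lit 0x0,
nat_lit 0x0,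
nat_lit 0x0,
nat_lit 0x0,
nat_lit 0x0,
nat_lit 0x0,
nat_lit 0x0,
nat_lit 0x0,
nat_lit 0x0,
nat_lit 0x0,
nat_lit 0x0,
nat_lit 0x0,
nat_lit 0x0,
nat_lit 0x0,
nat_lit 0x0,
nat_lit 0x0,
nat_lit 0x0,
nat_lit 0x0,
nat_lit 0x0,
nat_lit 0x0,
nat_lit 0x0,
nat_lit 0x0,
nat_lit 0x0,
nat_lit 0x0,
nat_lit 0x0,
nat_lit 0x0,
nat_lit 0x0,
nat_lit 0x0,
nat_lit 0x0,
nat_lit 0x0,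
nat_lit 0x0,
nat_lit 0x0,
nat_lit 0x0,
nat_lit 0x0,
nat_lit 0x0,
nat_lit 0x0,
nat_lit 0x0,
nat_lit 0x0,
nat_lit 0x0,
nat_lit 0x0,
nat_lit 0x0,
nat_lit 0x0,
nat_lit 0x0,
nat_lit 0x0,
nat_lit 0x0,
nat_lit 0x0,
nat_lit 0x0,
nat_lit 0x0,
nat_lit 0x0,
nat_lit 0x0,
nat_lit 0x0,
nat_lit 0x0,
nat_lit 0x0,
nat_lit 0x0,
nat_lit 0x0,
nat_lit 0x0,
nat_lit 0x0,
nat_lit 0x0,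
nat_lit 0x0,
nat_lit 0x0,
nat_lit 0x0,
nat_lit 0x0,
nat_lit 0x0,
nat_lit 0x0,
nat_lit 0x0,
nat_lit 0x0,
nat_lit 0x0,
nat_lit 0x0,
nat_lit 0x0,
nat_lit 0x0,
nat_lit 0x0,
nat_lit 0x0,
nat_lit 0x0,
nat_lit 0x0,
nat_lit 0x0,
nat_lit 0x0,
nat_lit 0x0,
nat_lit 0x0,
nat_lit 0x0,
nat_lit 0x0,
nat_lit 0x0,
nat_lit 0x0,
nat_lit 0x0,
nat_lit 0x0,
nat_lit 0x0,
nat_lit 0x0,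
nat_lit 0x0,
nat_lit 0x0,
nat_lit 0x0,
nat_lit 0x0,
nat_lit 0x0,
nat_lit 0x0,
nat_lit 0x0,
nat_lit 0x0,
nat_lit 0x0,
nat_lit 0x0,
nat_lit 0x0,
nat_lit 0x0,
nat_lit 0x0,
nat_lit 0x0,
nat_lit 0x0,
nat_lit 0x0,
nat_lit 0x0,
nat_lit 0x0,
nat_lit 0x0,
nat_lit 0x0,
nat_lit 0x0,
nat_lit 0x0,
nat_lit 0x0,
nat_lit 0x0,
nat_lit 0x0,
nat_lit 0x0,
nat_lit 0x0,
nat_lit 0x0,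
nat_lit 0x0,
nat_lit 0x0,
nat_lit 0x0,
nat_lit 0x0,
nat_lit 0x0,
nat_lit 0x0,
nat_lit 0x0,
nat_lit 0x0,
nat_lit 0x0,
nat_lit 0x0,
nat_lit 0x0,
nat_lit 0x0,
nat_lit 0x0,
nat_lit 0x0,
nat_lit 0x0,
nat_lit 0x0,
nat_lit 0x0,
nat_lit 0x0,
nat_lit 0x0,
nat_lit 0x0,
nat_lit 0x0,
nat_lit 0x0,
nat_lit 0x0,
nat_lit 0x0,
nat_lit 0x0,
nat_lit 0x0,
nat_lit 0x0,
nat_lit 0x0,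
nat_lit 0x0,
nat_lit 0x0,
nat_lit 0x0,
nat_lit 0x0,
nat_lit 0x0,
nat_lit 0x0,
nat_lit 0x0,
nat_lit 0x0,
nat_lit 0x0,
nat_lit 0x0,
nat_lit 0x0,
nat_lit 0x0,
nat_lit 0x0,
nat_lit 0x0,
nat_lit 0x0,
nat_lit 0x0,
nat_lit 0x0,
nat_lit 0x0,
nat_lit 0x0,
nat_lit 0x0,
nat_lit 0x0,
nat_lit 0x0,
nat_lit 0x0,
nat_lit 0x0,
nat_lit 0x0,
nat_lit 0x0,
nat_lit 0x0,
nat_lit 0x0,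
nat_lit 0x0,
nat_lit 0x0,
nat_lit 0x0,
nat_lit 0x0,
nat_lit 0x0,
nat_lit 0x0,
nat_lit 0x0,
nat_lit 0x0,
nat_lit 0x0,
nat_lit 0x0,
nat_lit 0x0,
nat_lit 0x0,
nat_lit 0x0,
nat_lit 0x0,
nat_lit 0x0,
nat_lit 0x0,
nat_lit 0x0,
nat_lit 0x0,
nat_lit 0x0,
nat_lit 0x0,
nat_lit 0x0,
nat_lit 0x0,
nat_lit 0x0,
nat_lit 0x0,
nat_lit 0x0,
nat_lit 0x0,
nat_lit 0x0,
nat_lit 0x0,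
nat_lit 0x0,
nat_lit 0x0,
nat_lit 0x0,
nat_lit 0x0,
nat_lit 0x0,
nat_lit 0x0,
nat_lit 0x0,
nat_lit 0x0,
nat_lit 0x0,
nat_lit 0x0,
nat_lit 0x0,
nat_lit 0x0,
nat_lit 0x0,
nat_lit 0x0,
nat_lit 0x0,
nat_lit 0x0,
nat_lit 0x0,
nat_lit 0x0,
nat_lit 0x0,
nat_lit 0x0,
nat_lit 0x0,
nat_lit 0x0,
nat_lit 0x0,
nat_lit 0x0,
nat_lit 0x0,
nat_lit 0x0,
nat_lit 0x0,
nat_lit 0x0,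
nat_lit 0x0,
nat_lit 0x0,
nat_lit 0x0,
nat_lit 0x0,
nat_lit 0x0,
nat_lit 0x0,
nat_lit 0x0,
nat_lit 0x0,
nat_lit 0x0,
nat_lit 0x0,
nat_lit 0x0,
nat_lit 0x0,
nat_lit 0x0,
nat_lit 0x0,
nat_lit 0x0,
nat_lit 0x0,
nat_lit 0x0,
nat_lit 0x0,
nat_lit 0x0,
nat_lit 0x0,
nat_lit 0x0,
nat_lit 0x0,
nat_lit 0x0,
nat_lit 0x0,
nat_lit 0x0,
nat_lit 0x0,
nat_lit 0x0,
nat_lit 0x0,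
nat_lit 0x0,
nat_lit 0x0,
nat_lit 0x0,
nat_lit 0x0,
nat_lit 0x0,
nat_lit 0x0,
nat_lit 0x0,
nat_lit 0x0,
nat_lit 0x0,
nat_lit 0x0,
nat_lit 0x0,
nat_lit 0x0,
nat_lit 0x0,
nat_lit 0x0,
nat_lit 0x0,
nat_lit 0x0,
nat_lit 0x0,
nat_lit 0x0,
nat_lit 0x0,
nat_lit 0x0,
nat_lit 0x0,
nat_lit 0x0,
nat_lit 0x0,
nat_lit 0x0,
nat_lit 0x0,
nat_lit 0x0,
nat_lit 0x0,
nat_lit 0x0,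
nat_lit 0x0,
nat_lit 0x0,
nat_lit 0x0,
nat_lit 0x0,
nat_lit 0x0,
nat_lit 0x0,
nat_lit 0x0,
nat_lit 0x0,
nat_lit 0x0,
nat_lit 0x0,
nat_lit 0x0,
nat_lit 0x0,
nat_lit 0x0,
nat_lit 0x0,
nat_lit 0x0,
nat_lit 0x0,
nat_lit 0x0,
nat_lit 0x0,
nat_lit 0x0,
nat_lit 0x0,
nat_lit 0x0,
nat_lit 0x0,
nat_lit 0x0,
nat_lit 0x0,
nat_lit 0x0,
nat_lit 0x0,
nat_lit 0x0,
nat_lit 0x0,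
nat_lit 0x0,
nat_lit 0x0,
nat_lit 0x0,
nat_lit 0x0]

theorem facts_ok27136 : checkFacts facts 18364758544493064720 words 128 subs 49982 items27136 27136 = true := by decide +kernel

noncomputable def items27648 : List ℕ := [
nat_lit 0x0,
nat_lit 0x0,
nat_lit 0x0,
nat_lit 0x0,
nat_lit 0x0,
nat_lit 0x0,
nat_lit 0x0,
nat_lit 0x0,
nat_lit 0x0,
nat_lit 0x0,
nat_lit 0x0,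
nat_lit 0x0,
nat_lit 0x0,
nat_lit 0x0,
nat_lit 0x0,
nat_lit 0x0,
nat_lit 0x0,
nat_lit 0x0,
nat_lit 0x0,
nat_lit 0x0,
nat_lit 0x0,
nat_lit 0x0,
nat_lit 0x0,
nat_lit 0x0,
nat_lit 0x0,
nat_lit 0x0,
nat_lit 0x0,
nat_lit 0x0,
nat_lit 0x0,
nat_lit 0x0,
nat_lit 0x0,
nat_lit 0x0,
nat_lit 0x0,
nat_lit 0x0,
nat_lit 0x0,
nat_lit 0x0,
nat_lit 0x0,
nat_lit 0x0,
nat_lit 0x0,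
nat_lit 0x0,
nat_lit 0x0,
nat_lit 0x0,
nat_lit 0x0,
nat_lit 0x0,
nat_lit 0x0,
nat_lit 0x0,
nat_lit 0x0,
nat_lit 0x0,
nat_lit 0x0,
nat_lit 0x0,
nat_lit 0x0,
nat_lit 0x0,
nat_lit 0x0,
nat_lit 0x0,
nat_lit 0x0,
nat_lit 0x0,
nat_lit 0x0,
nat_lit 0x0,
nat_lit 0x0,
nat_lit 0x0,
nat_lit 0x0,
nat_lit 0x0,
nat_lit 0x0,
nat_lit 0x0,
nat_lit 0x0,
nat_lit 0x0,
nat_lit 0x0,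
nat_lit 0x0,
nat_lit 0x0,
nat_lit 0x0,
nat_lit 0x0,
nat_lit 0x0,
nat_lit 0x0,
nat_lit 0x0,
nat_lit 0x0,
nat_lit 0x0,
nat_lit 0x0,
nat_lit 0x0,
nat_lit 0x0,
nat_lit 0x0,
nat_lit 0x0,
nat_lit 0x0,
nat_lit 0x0,
nat_lit 0x0,
nat_lit 0x0,
nat_lit 0x0,
nat_lit 0x0,
nat_lit 0x0,
nat_lit 0x0,
nat_lit 0x0,
nat_lit 0x0,
nat_lit 0x0,
nat_lit 0x0,
nat_lit 0x0,
nat_lit 0x0,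
nat_lit 0x0,
nat_lit 0x0,
nat_lit 0x0,
nat_lit 0x0,
nat_lit 0x0,
nat_lit 0x0,
nat_lit 0x0,
nat_lit 0x0,
nat_lit 0x0,
nat_lit 0x0,
nat_lit 0x0,
nat_lit 0x0,
nat_lit 0x0,
nat_lit 0x0,
nat_lit 0x0,
nat_lit 0x0,
nat_lit 0x0,
nat_lit 0x0,
nat_lit 0x0,
nat_lit 0x0,
nat_lit 0x0,
nat_lit 0x0,
nat_lit 0x0,
nat_lit 0x0,
nat_lit 0x0,
nat_lit 0x0,
nat_lit 0x0,
nat_lit 0x0,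
nat_lit 0x0,
nat_lit 0x0,
nat_lit 0x0,
nat_lit 0x0,
nat_lit 0x0,
nat_lit 0x0,
nat_lit 0x0,
nat_lit 0x0,
nat_lit 0x0,
nat_lit 0x0,
nat_lit 0x0,
nat_lit 0x0,
nat_lit 0x0,
nat_lit 0x0,
nat_lit 0x0,
nat_lit 0x0,
nat_lit 0x0,
nat_lit 0x0,
nat_lit 0x0,
nat_lit 0x0,
nat_lit 0x0,
nat_lit 0x0,
nat_lit 0x0,
nat_lit 0x0,
nat_lit 0x0,
nat_lit 0x0,
nat_lit 0x0,
nat_lit 0x0,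
nat_lit 0x0,
nat_lit 0x0,
nat_lit 0x0,
nat_lit 0x0,
nat_lit 0x0,
nat_lit 0x0,
nat_lit 0x0,
nat_lit 0x0,
nat_lit 0x0,
nat_lit 0x0,
nat_lit 0x0,
nat_lit 0x0,
nat_lit 0x0,
nat_lit 0x0,
nat_lit 0x0,
nat_lit 0x0,
nat_lit 0x0,
nat_lit 0x0,
nat_lit 0x0,
nat_lit 0x0,
nat_lit 0x0,
nat_lit 0x0,
nat_lit 0x0,
nat_lit 0x0,
nat_lit 0x0,
nat_lit 0x0,
nat_lit 0x0,
nat_lit 0x0,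
nat_lit 0x0,
nat_lit 0x0,
nat_lit 0x0,
nat_lit 0x0,
nat_lit 0x0,
nat_lit 0x0,
nat_lit 0x0,
nat_lit 0x0,
nat_lit 0x0,
nat_lit 0x0,
nat_lit 0x0,
nat_lit 0x0,
nat_lit 0x0,
nat_lit 0x0,
nat_lit 0x0,
nat_lit 0x0,
nat_lit 0x0,
nat_lit 0x0,
nat_lit 0x0,
nat_lit 0x0,
nat_lit 0x0,
nat_lit 0x0,
nat_lit 0x0,
nat_lit 0x0,
nat_lit 0x0,
nat_lit 0x0,
nat_lit 0x0,
nat_lit 0x0,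
nat_lit 0x0,
nat_lit 0x0,
nat_lit 0x0,
nat_lit 0x0,
nat_lit 0x0,
nat_lit 0x0,
nat_lit 0x0,
nat_lit 0x0,
nat_lit 0x0,
nat_lit 0x0,
nat_lit 0x0,
nat_lit 0x0,
nat_lit 0x0,
nat_lit 0x0,
nat_lit 0x0,
nat_lit 0x0,
nat_lit 0x0,
nat_lit 0x0,
nat_lit 0x0,
nat_lit 0x0,
nat_lit 0x0,
nat_lit 0x0,
nat_lit 0x0,
nat_lit 0x0,
nat_lit 0x0,
nat_lit 0x0,
nat_lit 0x0,
nat_lit 0x0,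
nat_lit 0x0,
nat_lit 0x0,
nat_lit 0x0,
nat_lit 0x0,
nat_lit 0x0,
nat_lit 0x0,
nat_lit 0x0,
nat_lit 0x0,
nat_lit 0x0,
nat_lit 0x0,
nat_lit 0x0,
nat_lit 0x0,
nat_lit 0x0,
nat_lit 0x0,
nat_lit 0x0,
nat_lit 0x0,
nat_lit 0x0,
nat_lit 0x0,
nat_lit 0x0,
nat_lit 0x0,
nat_lit 0x0,
nat_lit 0x0,
nat_lit 0x0,
nat_lit 0x0,
nat_lit 0x0,
nat_lit 0x0,
nat_lit 0x0,
nat_lit 0x0,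
nat_lit 0x0,
nat_lit 0x0,
nat_lit 0x0,
nat_lit 0x0,
nat_lit 0x0,
nat_lit 0x0,
nat_lit 0x0,
nat_lit 0x0,
nat_lit 0x0,
nat_lit 0x0,
nat_lit 0x0,
nat_lit 0x0,
nat_lit 0x0,
nat_lit 0x0,
nat_lit 0x0,
nat_lit 0x0,
nat_lit 0x0,
nat_lit 0x0,
nat_lit 0x0,
nat_lit 0x0,
nat_lit 0x0,
nat_lit 0x0,
nat_lit 0x0,
nat_lit 0x0,
nat_lit 0x0,
nat_lit 0x0,
nat_lit 0x0,
nat_lit 0x0,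
nat_lit 0x0,
nat_lit 0x0,
nat_lit 0x0,
nat_lit 0x0,
nat_lit 0x0,
nat_lit 0x0,
nat_lit 0x0,
nat_lit 0x0,
nat_lit 0x0,
nat_lit 0x0,
nat_lit 0x0,
nat_lit 0x0,
nat_lit 0x0,
nat_lit 0x0,
nat_lit 0x0,
nat_lit 0x0,
nat_lit 0x0,
nat_lit 0x0,
nat_lit 0x0,
nat_lit 0x0,
nat_lit 0x0,
nat_lit 0x0,
nat_lit 0x0,
nat_lit 0x0,
nat_lit 0x0,
nat_lit 0x0,
nat_lit 0x0,
nat_lit 0x0,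
nat_lit 0x0,
nat_lit 0x0,
nat_lit 0x0,
nat_lit 0x0,
nat_lit 0x0,
nat_lit 0x0,
nat_lit 0x0,
nat_lit 0x0,
nat_lit 0x0,
nat_lit 0x0,
nat_lit 0x0,
nat_lit 0x0,
nat_lit 0x0,
nat_lit 0x0,
nat_lit 0x0,
nat_lit 0x0,
nat_lit 0x0,
nat_lit 0x0,
nat_lit 0x0,
nat_lit 0x0,
nat_lit 0x0,
nat_lit 0x0,
nat_lit 0x0,
nat_lit 0x0,
nat_lit 0x0,
nat_lit 0x0,
nat_lit 0x0,
nat_lit 0x0,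
nat_lit 0x0,
nat_lit 0x0,
nat_lit 0x0,
nat_lit 0x0,
nat_lit 0x0,
nat_lit 0x0,
nat_lit 0x0,
nat_lit 0x0,
nat_lit 0x0,
nat_lit 0x0,
nat_lit 0x0,
nat_lit 0x0,
nat_lit 0x0,
nat_lit 0x0,
nat_lit 0x0,
nat_lit 0x0,
nat_lit 0x0,
nat_lit 0x0,
nat_lit 0x0,
nat_lit 0x0,
nat_lit 0x0,
nat_lit 0x0,
nat_lit 0x0,
nat_lit 0x0,
nat_lit 0x0,
nat_lit 0x0,
nat_lit 0x0,
nat_lit 0x0,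
nat_lit 0x0,
nat_lit 0x0,
nat_lit 0x0,
nat_lit 0x0,
nat_lit 0x0,
nat_lit 0x0,
nat_lit 0x0,
nat_lit 0x0,
nat_lit 0x0,
nat_lit 0x0,
nat_lit 0x0,
nat_lit 0x0,
nat_lit 0x0,
nat_lit 0x0,
nat_lit 0x0,
nat_lit 0x0,
nat_lit 0x0,
nat_lit 0x0,
nat_lit 0x0,
nat_lit 0x0,
nat_lit 0x0,
nat_lit 0x0,
nat_lit 0x0,
nat_lit 0x0,
nat_lit 0x0,
nat_lit 0x0,
nat_lit 0x0,
nat_lit 0x0,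
nat_lit 0x0,
nat_lit 0x0,
nat_lit 0x0,
nat_lit 0x0,
nat_lit 0x0,
nat_lit 0x0,
nat_lit 0x0,
nat_lit 0x0,
nat_lit 0x0,
nat_lit 0x0,
nat_lit 0x0,
nat_lit 0x0,
nat_lit 0x0,
nat_lit 0x0,
nat_lit 0x0,
nat_lit 0x0,
nat_lit 0x0,
nat_lit 0x0,
nat_lit 0x0,
nat_lit 0x0,
nat_lit 0x0,
nat_lit 0x0,
nat_lit 0x0,
nat_lit 0x0,
nat_lit 0x0,
nat_lit 0x0,
nat_lit 0x0,
nat_lit 0x0,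
nat_lit 0x0,
nat_lit 0x0,
nat_lit 0x0,
nat_lit 0x0,
nat_lit 0x0,
nat_lit 0x0,
nat_lit 0x0,
nat_lit 0x0,
nat_lit 0x0,
nat_lit 0x0,
nat_lit 0x0,
nat_lit 0x0,
nat_lit 0x0,
nat_lit 0x0,
nat_lit 0x0,
nat_lit 0x0,
nat_lit 0x0,
nat_lit 0x0,
nat_lit 0x0,
nat_lit 0x0,
nat_lit 0x0,
nat_lit 0x0,
nat_lit 0x0,
nat_lit 0x0,
nat_lit 0x0,
nat_lit 0x0,
nat_lit 0x0,
nat_lit 0x0,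
nat_lit 0x0,
nat_lit 0x0,
nat_lit 0x0,
nat_lit 0x0,
nat_lit 0x0,
nat_lit 0x0,
nat_lit 0x0,
nat_lit 0x0,
nat_lit 0x0,
nat_lit 0x0,
nat_lit 0x0,
nat_lit 0x0,
nat_lit 0x0,
nat_lit 0x0,
nat_lit 0x0,
nat_lit 0x0,
nat_lit 0x0,
nat_lit 0x0,
nat_lit 0x0,
nat_lit 0x0,
nat_lit 0x0,
nat_lit 0x0,
nat_lit 0x0,
nat_lit 0x0,
nat_lit 0x0,
nat_lit 0x0,
nat_lit 0x0,
nat_lit 0x0,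
nat_lit 0x0,
nat_lit 0x0,
nat_lit 0x0,
nat_lit 0x0,
nat_lit 0x0,
nat_lit 0x0,
nat_lit 0x0,
nat_lit 0x0,
nat_lit 0x0,
nat_lit 0x0,
nat_lit 0x0,
nat_lit 0x0,
nat_lit 0x0,
nat_lit 0x0,
nat_lit 0x0,
nat_lit 0x0,
nat_lit 0x0,
nat_lit 0x0,
nat_lit 0x0,
nat_lit 0x0,
nat_lit 0x0,
nat_lit 0x0,
nat_lit 0x0,
nat_lit 0x0,
nat_lit 0x0]

theorem facts_ok27648 : checkFacts facts 18364758544493064720 words 128 subs 49982 items27648 27648 = true := by decide +kernel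

noncomputable def items28160 : List ℕ := [
nat_lit 0x0,
nat_lit 0x0,
nat_lit 0x0,
nat_lit 0x0,
nat_lit 0x0,
nat_lit 0x0,
nat_lit 0x0,
nat_lit 0x0,
nat_lit 0x0,
nat_lit 0x0,
nat_lit 0x0,
nat_lit 0x0,
nat_lit 0x0,
nat_lit 0x0,
nat_lit 0x0,
nat_lit 0x0,
nat_lit 0x0,
nat_lit 0x0,
nat_lit 0x0,
nat_lit 0x0,
nat_lit 0x0,
nat_lit 0x0,
nat_lit 0x0,
nat_lit 0x0,
nat_lit 0x0,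
nat_lit 0x0,
nat_lit 0x0,
nat_lit 0x0,
nat_lit 0x0,
nat_lit 0x0,
nat_lit 0x0,
nat_lit 0x0,
nat_lit 0x0,
nat_lit 0x0,
nat_lit 0x0,
nat_lit 0x0,
nat_lit 0x0,
nat_lit 0x0,
nat_lit 0x0,
nat_lit 0x0,
nat_lit 0x0,
nat_lit 0x0,
nat_lit 0x0,
nat_lit 0x0,
nat_lit 0x0,
nat_lit 0x0,
nat_lit 0x0,
nat_lit 0x0,
nat_lit 0x0,
nat_lit 0x0,
nat_lit 0x0,
nat_lit 0x0,
nat_lit 0x0,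
nat_lit 0x0,
nat_lit 0x0,
nat_lit 0x0,
nat_lit 0x0,
nat_lit 0x0,
nat_lit 0x0,
nat_lit 0x0,
nat_lit 0x0,
nat_lit 0x0,
nat_lit 0x0,
nat_lit 0x0,
nat_lit 0x0,
nat_lit 0x0,
nat_lit 0x0,
nat_lit 0x0,
nat_lit 0x0,
nat_lit 0x0,
nat_lit 0x0,
nat_lit 0x0,
nat_lit 0x0,
nat_lit 0x0,
nat_lit 0x0,
nat_lit 0x0,
nat_lit 0x0,
nat_lit 0x0,
nat_lit 0x0,
nat_lit 0x0,
nat_lit 0x0,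
nat_lit 0x0,
nat_lit 0x0,
nat_lit 0x0,
nat_lit 0x0,
nat_lit 0x0,
nat_lit 0x0,
nat_lit 0x0,
nat_lit 0x0,
nat_lit 0x0,
nat_lit 0x0,
nat_lit 0x0,
nat_lit 0x0,
nat_lit 0x0,
nat_lit 0x0,
nat_lit 0x0,
nat_lit 0x0,
nat_lit 0x0,
nat_lit 0x0,
nat_lit 0x0,
nat_lit 0x0,
nat_lit 0x0,
nat_lit 0x0,
nat_lit 0x0,
nat_lit 0x0,
nat_lit 0x0,
nat_lit 0x0,
nat_lit 0x0,
nat_lit 0x0,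
nat_lit 0x0,
nat_lit 0x0,
nat_lit 0x0,
nat_lit 0x0,
nat_lit 0x0,
nat_lit 0x0,
nat_lit 0x0,
nat_lit 0x0,
nat_lit 0x0,
nat_lit 0x0,
nat_lit 0x0,
nat_lit 0x0,
nat_lit 0x0,
nat_lit 0x0,
nat_lit 0x0,
nat_lit 0x0,
nat_lit 0x0,
nat_lit 0x0,
nat_lit 0x0,
nat_lit 0x0,
nat_lit 0x0,
nat_lit 0x0,
nat_lit 0x0,
nat_lit 0x0,
nat_lit 0x0,
nat_lit 0x0,
nat_lit 0x0,
nat_lit 0x0,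
nat_lit 0x0,
nat_lit 0x0,
nat_lit 0x0,
nat_lit 0x0,
nat_lit 0x0,
nat_lit 0x0,
nat_lit 0x0,
nat_lit 0x0,
nat_lit 0x0,
nat_lit 0x0,
nat_lit 0x0,
nat_lit 0x0,
nat_lit 0x0,
nat_lit 0x0,
nat_lit 0x0,
nat_lit 0x0,
nat_lit 0x0,
nat_lit 0x0,
nat_lit 0x0,
nat_lit 0x0,
nat_lit 0x0,
nat_lit 0x0,
nat_lit 0x0,
nat_lit 0x0,
nat_lit 0x0,
nat_lit 0x0,
nat_lit 0x0,
nat_lit 0x0,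
nat_lit 0x0,
nat_lit 0x0,
nat_lit 0x0,
nat_lit 0x0,
nat_lit 0x0,
nat_lit 0x0,
nat_lit 0x0,
nat_lit 0x0,
nat_lit 0x0,
nat_lit 0x0,
nat_lit 0x0,
nat_lit 0x0,
nat_lit 0x0,
nat_lit 0x0,
nat_lit 0x0,
nat_lit 0x0,
nat_lit 0x0,
nat_lit 0x0,
nat_lit 0x0,
nat_lit 0x0,
nat_lit 0x0,
nat_lit 0x0,
nat_lit 0x0,
nat_lit 0x0,
nat_lit 0x0,
nat_lit 0x0,
nat_lit 0x0,
nat_lit 0x0,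
nat_lit 0x0,
nat_lit 0x0,
nat_lit 0x0,
nat_lit 0x0,
nat_lit 0x0,
nat_lit 0x0,
nat_lit 0x0,
nat_lit 0x0,
nat_lit 0x0,
nat_lit 0x0,
nat_lit 0x0,
nat_lit 0x0,
nat_lit 0x0,
nat_lit 0x0,
nat_lit 0x0,
nat_lit 0x0,
nat_lit 0x0,
nat_lit 0x0,
nat_lit 0x0,
nat_lit 0x0,
nat_lit 0x0,
nat_lit 0x0,
nat_lit 0x0,
nat_lit 0x0,
nat_lit 0x0,
nat_lit 0x0,
nat_lit 0x0,
nat_lit 0x0,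
nat_lit 0x0,
nat_lit 0x0,
nat_lit 0x0,
nat_lit 0x0,
nat_lit 0x0,
nat_lit 0x0,
nat_lit 0x0,
nat_lit 0x0,
nat_lit 0x0,
nat_lit 0x0,
nat_lit 0x0,
nat_lit 0x0,
nat_lit 0x0,
nat_lit 0x0,
nat_lit 0x0,
nat_lit 0x0,
nat_lit 0x0,
nat_lit 0x0,
nat_lit 0x0,
nat_lit 0x0,
nat_lit 0x0,
nat_lit 0x0,
nat_lit 0x0,
nat_lit 0x0,
nat_lit 0x0,
nat_lit 0x0,
nat_lit 0x0,
nat_lit 0x0,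
nat_lit 0x0,
nat_lit 0x0,
nat_lit 0x0,
nat_lit 0x0,
nat_lit 0x0,
nat_lit 0x0,
nat_lit 0x0,
nat_lit 0x0,
nat_lit 0x0,
nat_lit 0x0,
nat_lit 0x0,
nat_lit 0x0,
nat_lit 0x0,
nat_lit 0x0,
nat_lit 0x0,
nat_lit 0x0,
nat_lit 0x0,
nat_lit 0x0,
nat_lit 0x0,
nat_lit 0x0,
nat_lit 0x0,
nat_lit 0x0,
nat_lit 0x0,
nat_lit 0x0,
nat_lit 0x0,
nat_lit 0x0,
nat_lit 0x0,
nat_lit 0x0,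
nat_lit 0x0,
nat_lit 0x0,
nat_lit 0x0,
nat_lit 0x0,
nat_lit 0x0,
nat_lit 0x0,
nat_lit 0x0,
nat_lit 0x0,
nat_lit 0x0,
nat_lit 0x0,
nat_lit 0x0,
nat_lit 0x0,
nat_lit 0x0,
nat_lit 0x0,
nat_lit 0x0,
nat_lit 0x0,
nat_lit 0x0,
nat_lit 0x0,
nat_lit 0x0,
nat_lit 0x0,
nat_lit 0x0,
nat_lit 0x0,
nat_lit 0x0,
nat_lit 0x0,
nat_lit 0x0,
nat_lit 0x0,
nat_lit 0x0,
nat_lit 0x0,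
nat_lit 0x0,
nat_lit 0x0,
nat_lit 0x0,
nat_lit 0x0,
nat_lit 0x0,
nat_lit 0x0,
nat_lit 0x0,
nat_lit 0x0,
nat_lit 0x0,
nat_lit 0x0,
nat_lit 0x0,
nat_lit 0x0,
nat_lit 0x0,
nat_lit 0x0,
nat_lit 0x0,
nat_lit 0x0,
nat_lit 0x0,
nat_lit 0x0,
nat_lit 0x0,
nat_lit 0x0,
nat_lit 0x0,
nat_lit 0x0,
nat_lit 0x0,
nat_lit 0x0,
nat_lit 0x0,
nat_lit 0x0,
nat_lit 0x0,
nat_lit 0x0,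
nat_lit 0x0,
nat_lit 0x0,
nat_lit 0x0,
nat_lit 0x0,
nat_lit 0x0,
nat_lit 0x0,
nat_lit 0x0,
nat_lit 0x0,
nat_lit 0x0,
nat_lit 0x0,
nat_lit 0x0,
nat_lit 0x0,
nat_lit 0x0,
nat_lit 0x0,
nat_lit 0x0,
nat_lit 0x0,
nat_lit 0x0,
nat_lit 0x0,
nat_lit 0x0,
nat_lit 0x0,
nat_lit 0x0,
nat_lit 0x0,
nat_lit 0x0,
nat_lit 0x0,
nat_lit 0x0,
nat_lit 0x0,
nat_lit 0x0,
nat_lit 0x0,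
nat_lit 0x0,
nat_lit 0x0,
nat_lit 0x0,
nat_lit 0x0,
nat_lit 0x0,
nat_lit 0x0,
nat_lit 0x0,
nat_lit 0x0,
nat_lit 0x0,
nat_lit 0x0,
nat_lit 0x0,
nat_lit 0x0,
nat_lit 0x0,
nat_lit 0x0,
nat_lit 0x0,
nat_lit 0x0,
nat_lit 0x0,
nat_lit 0x0,
nat_lit 0x0,
nat_lit 0x0,
nat_lit 0x0,
nat_lit 0x0,
nat_lit 0x0,
nat_lit 0x0,
nat_lit 0x0,
nat_lit 0x0,
nat_lit 0x0,
nat_lit 0x0,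
nat_lit 0x0,
nat_lit 0x0,
nat_lit 0x0,
nat_lit 0x0,
nat_lit 0x0,
nat_lit 0x0,
nat_lit 0x0,
nat_lit 0x0,
nat_lit 0x0,
nat_lit 0x0,
nat_lit 0x0,
nat_lit 0x0,
nat_lit 0x0,
nat_lit 0x0,
nat_lit 0x0,
nat_lit 0x0,
nat_lit 0x0,
nat_lit 0x0,
nat_lit 0x0,
nat_lit 0x0,
nat_lit 0x0,
nat_lit 0x0,
nat_lit 0x0,
nat_lit 0x0,
nat_lit 0x0,
nat_lit 0x0,
nat_lit 0x0,
nat_lit 0x0,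
nat_lit 0x0,
nat_lit 0x0,
nat_lit 0x0,
nat_lit 0x0,
nat_lit 0x0,
nat_lit 0x0,
nat_lit 0x0,
nat_lit 0x0,
nat_lit 0x0,
nat_lit 0x0,
nat_lit 0x0,
nat_lit 0x0,
nat_lit 0x0,
nat_lit 0x0,
nat_lit 0x0,
nat_lit 0x0,
nat_lit 0x0,
nat_lit 0x0,
nat_lit 0x0,
nat_lit 0x0,
nat_lit 0x0,
nat_lit 0x0,
nat_lit 0x0,
nat_lit 0x0,
nat_lit 0x0,
nat_lit 0x0,
nat_lit 0x0,
nat_lit 0x0,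
nat_lit 0x0,
nat_lit 0x0,
nat_lit 0x0,
nat_lit 0x0,
nat_lit 0x0,
nat_lit 0x0,
nat_lit 0x0,
nat_lit 0x0,
nat_lit 0x0,
nat_lit 0x0,
nat_lit 0x0,
nat_lit 0x0,
nat_lit 0x0,
nat_lit 0x0,
nat_lit 0x0,
nat_lit 0x0,
nat_lit 0x0,
nat_lit 0x0,
nat_lit 0x0,
nat_lit 0x0,
nat_lit 0x0,
nat_lit 0x0,
nat_lit 0x0,
nat_lit 0x0,
nat_lit 0x0,
nat_lit 0x0,
nat_lit 0x0,
nat_lit 0x0,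
nat_lit 0x0,
nat_lit 0x0,
nat_lit 0x0,
nat_lit 0x0,
nat_lit 0x0,
nat_lit 0x0,
nat_lit 0x0,
nat_lit 0x0,
nat_lit 0x0,
nat_lit 0x0,
nat_lit 0x0,
nat_lit 0x0,
nat_lit 0x0,
nat_lit 0x0,
nat_lit 0x0,
nat_lit 0x0,
nat_lit 0x0,
nat_lit 0x0,
nat_lit 0x0,
nat_lit 0x0,
nat_lit 0x0,
nat_lit 0x0,
nat_lit 0x0,
nat_lit 0x0,
nat_lit 0x0,
nat_lit 0x0,
nat_lit 0x0,
nat_lit 0x0,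
nat_lit 0x0,
nat_lit 0x0,
nat_lit 0x0,
nat_lit 0x0,
nat_lit 0x0,
nat_lit 0x0,
nat_lit 0x0,
nat_lit 0x0,
nat_lit 0x0,
nat_lit 0x0,
nat_lit 0x0]

theorem facts_ok28160 : checkFacts facts 18364758544493064720 words 128 subs 49982 items28160 28160 = true := by decide +kernel

noncomputable def items28672 : List ℕ := [
nat_lit 0x0,
nat_lit 0x0,
nat_lit 0x0,
nat_lit 0x0,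
nat_lit 0x0,
nat_lit 0x0,
nat_lit 0x0,
nat_lit 0x0,
nat_lit 0x0,
nat_lit 0x0,
nat_lit 0x0,
nat_lit 0x0,
nat_lit 0x0,
nat_lit 0x0,
nat_lit 0x0,
nat_lit 0x0,
nat_lit 0x0,
nat_lit 0x0,
nat_lit 0x0,
nat_lit 0x0,
nat_lit 0x0,
nat_lit 0x0,
nat_lit 0x0,
nat_lit 0x0,
nat_lit 0x0,
nat_lit 0x0,
nat_lit 0x0,
nat_lit 0x0,
nat_lit 0x0,
nat_lit 0x0,
nat_lit 0x0,
nat_lit 0x0,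
nat_lit 0x0,
nat_lit 0x0,
nat_lit 0x0,
nat_lit 0x0,
nat_lit 0x0,
nat_lit 0x0,
nat_lit 0x0,
nat_lit 0x0,
nat_lit 0x0,
nat_lit 0x0,
nat_lit 0x0,
nat_lit 0x0,
nat_lit 0x0,
nat_lit 0x0,
nat_lit 0x0,
nat_lit 0x0,
nat_lit 0x0,
nat_lit 0x0,
nat_lit 0x0,
nat_lit 0x0,
nat_lit 0x0,
nat_lit 0x0,
nat_lit 0x0,
nat_lit 0x0,
nat_lit 0x0,
nat_lit 0x0,
nat_lit 0x0,
nat_lit 0x0,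
nat_lit 0x0,
nat_lit 0x0,
nat_lit 0x0,
nat_lit 0x0,
nat_lit 0x0,
nat_lit 0x0,
nat_lit 0x0,
nat_lit 0x0,
nat_lit 0x0,
nat_lit 0x0,
nat_lit 0x0,
nat_lit 0x0,
nat_lit 0x0,
nat_lit 0x0,
nat_lit 0x0,
nat_lit 0x0,
nat_lit 0x0,
nat_lit 0x0,
nat_lit 0x0,
nat_lit 0x0,
nat_lit 0x0,
nat_lit 0x0,
nat_lit 0x0,
nat_lit 0x0,
nat_lit 0x0,
nat_lit 0x0,
nat_lit 0x0,
nat_lit 0x0,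
nat_lit 0x0,
nat_lit 0x0,
nat_lit 0x0,
nat_lit 0x0,
nat_lit 0x0,
nat_lit 0x0,
nat_lit 0x0,
nat_lit 0x0,
nat_lit 0x0,
nat_lit 0x0,
nat_lit 0x0,
nat_lit 0x0,
nat_lit 0x0,
nat_lit 0x0,
nat_lit 0x0,
nat_lit 0x0,
nat_lit 0x0,
nat_lit 0x0,
nat_lit 0x0,
nat_lit 0x0,
nat_lit 0x0,
nat_lit 0x0,
nat_lit 0x0,
nat_lit 0x0,
nat_lit 0x0,
nat_lit 0x0,
nat_lit 0x0,
nat_lit 0x0,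
nat_lit 0x0,
nat_lit 0x0,
nat_lit 0x0,
nat_lit 0x0,
nat_lit 0x0,
nat_lit 0x0,
nat_lit 0x0,
nat_lit 0x0,
nat_lit 0x0,
nat_lit 0x0,
nat_lit 0x0,
nat_lit 0x0,
nat_lit 0x0,
nat_lit 0x0,
nat_lit 0x0,
nat_lit 0x0,
nat_lit 0x0,
nat_lit 0x0,
nat_lit 0x0,
nat_lit 0x0,
nat_lit 0x0,
nat_lit 0x0,
nat_lit 0x0,
nat_lit 0x0,
nat_lit 0x0,
nat_lit 0x0,
nat_lit 0x0,
nat_lit 0x0,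
nat_lit 0x0,
nat_lit 0x0,
nat_lit 0x0,
nat_lit 0x0,
nat_lit 0x0,
nat_lit 0x0,
nat_lit 0x0,
nat_lit 0x0,
nat_lit 0x0,
nat_lit 0x0,
nat_lit 0x0,
nat_lit 0x0,
nat_lit 0x0,
nat_lit 0x0,
nat_lit 0x0,
nat_lit 0x0,
nat_lit 0x0,
nat_lit 0x0,
nat_lit 0x0,
nat_lit 0x0,
nat_lit 0x0,
nat_lit 0x0,
nat_lit 0x0,
nat_lit 0x0,
nat_lit 0x0,
nat_lit 0x0,
nat_lit 0x0,
nat_lit 0x0,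
nat_lit 0x0,
nat_lit 0x0,
nat_lit 0x0,
nat_lit 0x0,
nat_lit 0x0,
nat_lit 0x0,
nat_lit 0x0,
nat_lit 0x0,
nat_lit 0x0,
nat_lit 0x0,
nat_lit 0x0,
nat_lit 0x0,
nat_lit 0x0,
nat_lit 0x0,
nat_lit 0x0,
nat_lit 0x0,
nat_lit 0x0,
nat_lit 0x0,
nat_lit 0x0,
nat_lit 0x0,
nat_lit 0x0,
nat_lit 0x0,
nat_lit 0x0,
nat_lit 0x0,
nat_lit 0x0,
nat_lit 0x0,
nat_lit 0x0,
nat_lit 0x0,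
nat_lit 0x0,
nat_lit 0x0,
nat_lit 0x0,
nat_lit 0x0,
nat_lit 0x0,
nat_lit 0x0,
nat_lit 0x0,
nat_lit 0x0,
nat_lit 0x0,
nat_lit 0x0,
nat_lit 0x0,
nat_lit 0x0,
nat_lit 0x0,
nat_lit 0x0,
nat_lit 0x0,
nat_lit 0x0,
nat_lit 0x0,
nat_lit 0x0,
nat_lit 0x0,
nat_lit 0x0,
nat_lit 0x0,
nat_lit 0x0,
nat_lit 0x0,
nat_lit 0x0,
nat_lit 0x0,
nat_lit 0x0,
nat_lit 0x0,
nat_lit 0x0,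
nat_lit 0x0,
nat_lit 0x0,
nat_lit 0x0,
nat_lit 0x0,
nat_lit 0x0,
nat_lit 0x0,
nat_lit 0x0,
nat_lit 0x0,
nat_lit 0x0,
nat_lit 0x0,
nat_lit 0x0,
nat_lit 0x0,
nat_lit 0x0,
nat_lit 0x0,
nat_lit 0x0,
nat_lit 0x0,
nat_lit 0x0,
nat_lit 0x0,
nat_lit 0x0,
nat_lit 0x0,
nat_lit 0x0,
nat_lit 0x0,
nat_lit 0x0,
nat_lit 0x0,
nat_lit 0x0,
nat_lit 0x0,
nat_lit 0x0,
nat_lit 0x0,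
nat_lit 0x0,
nat_lit 0x0,
nat_lit 0x0,
nat_lit 0x0,
nat_lit 0x0,
nat_lit 0x0,
nat_lit 0x0,
nat_lit 0x0,
nat_lit 0x0,
nat_lit 0x0,
nat_lit 0x0,
nat_lit 0x0,
nat_lit 0x0,
nat_lit 0x0,
nat_lit 0x0,
nat_lit 0x0,
nat_lit 0x0,
nat_lit 0x0,
nat_lit 0x0,
nat_lit 0x0,
nat_lit 0x0,
nat_lit 0x0,
nat_lit 0x0,
nat_lit 0x0,
nat_lit 0x0,
nat_lit 0x0,
nat_lit 0x0,
nat_lit 0x0,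
nat_lit 0x0,
nat_lit 0x0,
nat_lit 0x0,
nat_lit 0x0,
nat_lit 0x0,
nat_lit 0x0,
nat_lit 0x0,
nat_lit 0x0,
nat_lit 0x0,
nat_lit 0x0,
nat_lit 0x0,
nat_lit 0x0,
nat_lit 0x0,
nat_lit 0x0,
nat_lit 0x0,
nat_lit 0x0,
nat_lit 0x0,
nat_lit 0x0,
nat_lit 0x0,
nat_lit 0x0,
nat_lit 0x0,
nat_lit 0x0,
nat_lit 0x0,
nat_lit 0x0,
nat_lit 0x0,
nat_lit 0x0,
nat_lit 0x0,
nat_lit 0x0,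
nat_lit 0x0,
nat_lit 0x0,
nat_lit 0x0,
nat_lit 0x0,
nat_lit 0x0,
nat_lit 0x0,
nat_lit 0x0,
nat_lit 0x0,
nat_lit 0x0,
nat_lit 0x0,
nat_lit 0x0,
nat_lit 0x0,
nat_lit 0x0,
nat_lit 0x0,
nat_lit 0x0,
nat_lit 0x0,
nat_lit 0x0,
nat_lit 0x0,
nat_lit 0x0,
nat_lit 0x0,
nat_lit 0x0,
nat_lit 0x0,
nat_lit 0x0,
nat_lit 0x0,
nat_lit 0x0,
nat_lit 0x0,
nat_lit 0x0,
nat_lit 0x0,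
nat_lit 0x0,
nat_lit 0x0,
nat_lit 0x0,
nat_lit 0x0,
nat_lit 0x0,
nat_lit 0x0,
nat_lit 0x0,
nat_lit 0x0,
nat_lit 0x0,
nat_lit 0x0,
nat_lit 0x0,
nat_lit 0x0,
nat_lit 0x0,
nat_lit 0x0,
nat_lit 0x0,
nat_lit 0x0,
nat_lit 0x0,
nat_lit 0x0,
nat_lit 0x0,
nat_lit 0x0,
nat_lit 0x0,
nat_lit 0x0,
nat_lit 0x0,
nat_lit 0x0,
nat_lit 0x0,
nat_lit 0x0,
nat_lit 0x0,
nat_lit 0x0,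
nat_lit 0x0,
nat_lit 0x0,
nat_lit 0x0,
nat_lit 0x0,
nat_lit 0x0,
nat_lit 0x0,
nat_lit 0x0,
nat_lit 0x0,
nat_lit 0x0,
nat_lit 0x0,
nat_lit 0x0,
nat_lit 0x0,
nat_lit 0x0,
nat_lit 0x0,
nat_lit 0x0,
nat_lit 0x0,
nat_lit 0x0,
nat_lit 0x0,
nat_lit 0x0,
nat_lit 0x0,
nat_lit 0x0,
nat_lit 0x0,
nat_lit 0x0,
nat_lit 0x0,
nat_lit 0x0,
nat_lit 0x0,
nat_lit 0x0,
nat_lit 0x0,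
nat_lit 0x0,
nat_lit 0x0,
nat_lit 0x0,
nat_lit 0x0,
nat_lit 0x0,
nat_lit 0x0,
nat_lit 0x0,
nat_lit 0x0,
nat_lit 0x0,
nat_lit 0x0,
nat_lit 0x0,
nat_lit 0x0,
nat_lit 0x0,
nat_lit 0x0,
nat_lit 0x0,
nat_lit 0x0,
nat_lit 0x0,
nat_lit 0x0,
nat_lit 0x0,
nat_lit 0x0,
nat_lit 0x0,
nat_lit 0x0,
nat_lit 0x0,
nat_lit 0x0,
nat_lit 0x0,
nat_lit 0x0,
nat_lit 0x0,
nat_lit 0x0,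
nat_lit 0x0,
nat_lit 0x0,
nat_lit 0x0,
nat_lit 0x0,
nat_lit 0x0,
nat_lit 0x0,
nat_lit 0x0,
nat_lit 0x0,
nat_lit 0x0,
nat_lit 0x0,
nat_lit 0x0,
nat_lit 0x0,
nat_lit 0x0,
nat_lit 0x0,
nat_lit 0x0,
nat_lit 0x0,
nat_lit 0x0,
nat_lit 0x0,
nat_lit 0x0,
nat_lit 0x0,
nat_lit 0x0,
nat_lit 0x0,
nat_lit 0x0,
nat_lit 0x0,
nat_lit 0x0,
nat_lit 0x0,
nat_lit 0x0,
nat_lit 0x0,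
nat_lit 0x0,
nat_lit 0x0,
nat_lit 0x0,
nat_lit 0x0,
nat_lit 0x0,
nat_lit 0x0,
nat_lit 0x0,
nat_lit 0x0,
nat_lit 0x0,
nat_lit 0x0,
nat_lit 0x0,
nat_lit 0x0,
nat_lit 0x0,
nat_lit 0x0,
nat_lit 0x0,
nat_lit 0x0,
nat_lit 0x0,
nat_lit 0x0,
nat_lit 0x0,
nat_lit 0x0,
nat_lit 0x0,
nat_lit 0x0,
nat_lit 0x0,
nat_lit 0x0,
nat_lit 0x0,
nat_lit 0x0,
nat_lit 0x0,
nat_lit 0x0,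
nat_lit 0x0,
nat_lit 0x0,
nat_lit 0x0,
nat_lit 0x0,
nat_lit 0x0,
nat_lit 0x0,
nat_lit 0x0,
nat_lit 0x0,
nat_lit 0x0,
nat_lit 0x0,
nat_lit 0x0,
nat_lit 0x0,
nat_lit 0x0,
nat_lit 0x0,
nat_lit 0x0,
nat_lit 0x0,
nat_lit 0x0,
nat_lit 0x0,
nat_lit 0x0,
nat_lit 0x0,
nat_lit 0x0,
nat_lit 0x0,
nat_lit 0x0,
nat_lit 0x0,
nat_lit 0x0,
nat_lit 0x0,
nat_lit 0x0,
nat_lit 0x0,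
nat_lit 0x0,
nat_lit 0x0,
nat_lit 0x0,
nat_lit 0x0]

theorem facts_ok28672 : checkFacts facts 18364758544493064720 words 128 subs 49982 items28672 28672 = true := by decide +kernel

end UTop

end CfsgLib.CosetEnum.He
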